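import Mathlib
import Groth.Agent.Lib.Helper12.DRingExt
import Groth.Agent.Lib.Helper12.DerivedSingleHom
import Groth.Agent.Lib.Helper12.DRingTruncRep

/-!
Helper (helper36): injective amplitude in `D(A)`: Hom-vanishing characterisation.
-/

set_option autoImplicit false
universe u

open CategoryTheory CategoryTheory.Limits CochainComplex DerivedCategory

attribute [local instance] HasDerivedCategory.standard

namespace Groth.Agent.Lib.Helper36.InjAmp

open Groth.Agent.Lib.Helper12 DRing

section shift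

variable {C : Type*} [Category C] [Preadditive C] [HasShift C ℤ]
  [∀ n : ℤ, (CategoryTheory.shiftFunctor C n).Additive]

/-- Vanishing of `Hom(X, Y[n])` is vanishing of `Hom(X[-n], Y)`. -/
theorem hom_shift_eq_zero_iff (X Y : C) (n : ℤ) :
    (∀ f : X ⟶ Y⟦n⟧, f = 0) ↔ (∀ g : X⟦-n⟧ ⟶ Y, g = 0) := by
  constructor
  · intro h g
    have h1 := h ((CategoryTheory.shiftFunctorCompIsoId C (-n) n (by omega)).inv.app X ≫ g⟦n⟧')
    have h2 : g⟦n⟧' = 0 := by
      rw [← cancel_epi ((CategoryTheory.shiftFunctorCompIsoId C (-n) n (by omega)).inv.app X), h1, comp_zero]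
    apply (CategoryTheory.shiftFunctor C n).map_injective
    rw [h2, Functor.map_zero]
  · intro h f
    have h1 := h (f⟦-n⟧' ≫ (CategoryTheory.shiftFunctorCompIsoId C n (-n) (by omega)).hom.app Y)
    have h2 : f⟦-n⟧' = 0 := by
      rw [← cancel_mono ((CategoryTheory.shiftFunctorCompIsoId C n (-n) (by omega)).hom.app Y), h1, zero_comp]
    apply (CategoryTheory.shiftFunctor C (-n)).map_injective
    rw [h2, Functor.map_zero]

end shift

variable {A : Type u} [CommRing A]

/-- Morphisms in `D(A)` into a K-injective complex are represented by chain maps. -/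
lemma exists_map_of_isKInjective (E L : Cx A) [L.IsKInjective] (α : toD E ⟶ toD L) :
    ∃ f : E ⟶ L, DerivedCategory.Q.map f = α := by
  obtain ⟨g, hg⟩ := (CochainComplex.IsKInjective.Qh_map_bijective
    ((HomotopyCategory.quotient _ _).obj E) L).surjective
    ((DerivedCategory.quotientCompQhIso (ModuleCat.{u} A)).hom.app E ≫ α ≫
      (DerivedCategory.quotientCompQhIso (ModuleCat.{u} A)).inv.app L)
  obtain ⟨f, rfl⟩ := (HomotopyCategory.quotient _ _).map_surjective g
  refine ⟨f, ?_⟩
  have h := DerivedCategory.quotientCompQhIso_hom_naturality f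
  rw [hg] at h
  simp only [Category.assoc, Iso.inv_hom_id_app, Category.comp_id] at h
  exact ((cancel_epi ((DerivedCategory.quotientCompQhIso (ModuleCat.{u} A)).hom.app E)).mp h).symm

/-- **(1) ⇒ (2)**: no morphisms from a module to a shift of a complex of injectives outside its
range. -/
theorem hom_eq_zero_of_injective_amplitude (E : Cx A) (a b : ℤ) (hE : VanishesOutside E a b)
    (hinj : ∀ i, Module.Injective A (E.X i)) (N : ModuleCat.{u} A) (i : ℤ) (hi : i < a ∨ b < i)
    (f : Dual.inD A N ⟶ (toD E)⟦i⟧) : f = 0 := by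
  revert f
  rw [hom_shift_eq_zero_iff]
  intro g
  have hGE : E.IsStrictlyGE a := by
    rw [CochainComplex.isStrictlyGE_iff]
    intro j hj
    exact hE j (Or.inl hj)
  have hinj' : ∀ j, Injective (E.X j) := fun j => by
    have := hinj j
    exact Module.injective_object_of_injective_module A (E.X j)
  have hKI : E.IsKInjective := CochainComplex.isKInjective_of_injective E a
  obtain ⟨φ, hφ⟩ := exists_map_of_isKInjective (singleCx i N) E ((toDSingleIso i N).hom ≫ g)
  have hφ0 : φ = 0 := by
    refine HomologicalComplex.hom_ext _ _ (fun j => ?_)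
    by_cases hj : j = i
    · subst hj
      exact (hE j hi).eq_of_tgt _ _
    · exact (isZero_singleCx_X i N j hj).eq_of_src _ _
  rw [hφ0, Functor.map_zero] at hφ
  rw [← cancel_epi (toDSingleIso i N).hom, ← hφ, comp_zero]

/-- From vanishing of `Hom(N[0], K[j])` to vanishing of `Hom(N[-j], K)`. -/
theorem hom_single_eq_zero (K : Dual.D A) (N : ModuleCat.{u} A) (j : ℤ)
    (h : ∀ f : Dual.inD A N ⟶ K⟦j⟧, f = 0) (g : toD (singleCx j N) ⟶ K) : g = 0 := by
  have h1 := (hom_shift_eq_zero_iff (Dual.inD A N) K j).mp h ((toDSingleIso j N).inv ≫ g)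
  rw [← cancel_epi (toDSingleIso j N).inv, h1, comp_zero]

/-- `H^j(K) = 0` if `Hom(A[0], K[j]) = 0`. -/
theorem isZero_HF_of_hom_ring_eq_zero (K : Dual.D A) (j : ℤ)
    (h : ∀ f : Dual.inD A A ⟶ K⟦j⟧, f = 0) : IsZero ((HF A j).obj K) := by
  have h1 : ∀ g : toD (singleCx j (ModuleCat.of A A)) ⟶ K, g = 0 :=
    hom_single_eq_zero K (ModuleCat.of A A) j h
  have h2 : ∀ φ : ModuleCat.of A A ⟶ (HF A j).obj K, φ = 0 := by
    intro φ
    obtain ⟨g, rfl⟩ := homClass_surjective (k := j) (M := ModuleCat.of A A) K φ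
    rw [h1 g]
    exact (homClass_eq_zero_iff (0 : toD (singleCx j (ModuleCat.of A A)) ⟶ K)).mpr rfl
  rw [IsZero.iff_id_eq_zero]
  ext x
  have h3 := h2 (ModuleCat.ofHom (LinearMap.toSpanSingleton A _ x))
  have h4 := congr($h3 (1 : A))
  simpa using h4

/-- Baer's criterion for the cycles of a complex of injectives. -/
theorem injective_Zc_of_hom_eq_zero (L : Cx A) (hLinj : ∀ n, Injective (L.X n))
    [L.IsKInjective] (b : ℤ)
    (hvan : ∀ (I : Ideal A) (g : toD (singleCx (b + 1) (ModuleCat.of A (A ⧸ I))) ⟶ toD L),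
      g = 0) :
    Module.Injective A (Zc L b) := by
  apply Module.Baer.injective
  intro I g
  have hLb : Module.Injective A (L.X b) := Module.injective_module_of_injective_object A (L.X b)
  obtain ⟨h, hh⟩ := Module.Baer.of_injective hLb I ((Zc L b).subtype.comp g)
  let c₀ : A →ₗ[A] L.X (b + 1) := (L.d b (b + 1)).hom.comp h
  have hc₀ : I ≤ LinearMap.ker c₀ := by
    intro x hx
    rw [LinearMap.mem_ker]
    show (L.d b (b + 1)).hom (h x) = 0
    rw [hh x hx]
    exact (g ⟨x, hx⟩).2
  let c : (A ⧸ I) →ₗ[A] L.X (b + 1) := Submodule.liftQ I c₀ hc₀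
  have hdc : ModuleCat.ofHom c ≫ L.d (b + 1) (b + 1 + 1) = 0 := by
    apply ModuleCat.hom_ext
    apply LinearMap.ext
    intro q
    obtain ⟨x, rfl⟩ := Submodule.Quotient.mk_surjective _ q
    show (L.d (b + 1) (b + 1 + 1)).hom ((L.d b (b + 1)).hom (h x)) = 0
    exact congr($(L.d_comp_d b (b + 1) (b + 1 + 1)) (h x))
  let γ : singleCx (b + 1) (ModuleCat.of A (A ⧸ I)) ⟶ L :=
    HomologicalComplex.mkHomFromSingle (ModuleCat.ofHom c) (fun k hk => by
      have hk' : b + 1 + 1 = k := hk
      subst hk'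
      exact hdc)
  have hQ : DerivedCategory.Q.map γ = DerivedCategory.Q.map (0 : _ ⟶ L) := by
    rw [hvan I (DerivedCategory.Q.map γ), Functor.map_zero]
  obtain ⟨ho⟩ := homotopy_of_Q_map_eq_of_isKInjective _ L γ 0 hQ
  have hcomm := ho.comm (b + 1)
  rw [dNext_eq ho.hom (show (ComplexShape.up ℤ).Rel (b + 1) (b + 1 + 1) by simp),
    prevD_eq ho.hom (show (ComplexShape.up ℤ).Rel b (b + 1) by simp),
    HomologicalComplex.single_obj_d, zero_comp, zero_add, HomologicalComplex.zero_f, add_zero,
    HomologicalComplex.mkHomFromSingle_f] at hcomm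
  let k : (A ⧸ I) →ₗ[A] L.X b :=
    ((HomologicalComplex.singleObjXSelf (ComplexShape.up ℤ) (b + 1)
      (ModuleCat.of A (A ⧸ I))).inv ≫ ho.hom (b + 1) b).hom
  have hk : ∀ q, (L.d b (b + 1)).hom (k q) = c q := by
    intro q
    have h1 : ModuleCat.ofHom c = (HomologicalComplex.singleObjXSelf (ComplexShape.up ℤ) (b + 1)
        (ModuleCat.of A (A ⧸ I))).inv ≫ ho.hom (b + 1) b ≫ L.d b (b + 1) := by
      rw [← hcomm, Iso.inv_hom_id_assoc]
    exact (congr($h1 q)).symm
  let h' : A →ₗ[A] L.X b := h - k.comp (Submodule.mkQ I)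
  have hh' : ∀ x, h' x ∈ Zc L b := by
    intro x
    show (L.d b (b + 1)).hom (h' x) = 0
    show (L.d b (b + 1)).hom (h x - k (Submodule.Quotient.mk x)) = 0
    rw [map_sub, hk]
    exact sub_self _
  refine ⟨LinearMap.codRestrict (Zc L b) h' hh', fun x hx => ?_⟩
  apply Subtype.ext
  show h x - k (Submodule.Quotient.mk x) = (g ⟨x, hx⟩ : L.X b)
  have h0 : (Submodule.Quotient.mk x : A ⧸ I) = 0 := (Submodule.Quotient.mk_eq_zero I).mpr hx
  rw [h0, map_zero, sub_zero, hh x hx]
  rfl

/-- **(3) ⇒ (1)**. -/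
theorem hasInjAmplitudeIn_of_hom_quotient_eq_zero (K : Dual.D A) (a b : ℤ)
    (h : ∀ (I : Ideal A) (i : ℤ), (i < a ∨ b < i) → ∀ f : Dual.inD A (A ⧸ I) ⟶ K⟦i⟧, f = 0) :
    HasInjAmplitudeIn A a b K := by
  have hH : ∀ j : ℤ, (j < a ∨ b < j) → IsZero ((HF A j).obj K) := by
    intro j hj
    apply isZero_HF_of_hom_ring_eq_zero
    intro f
    let e : ModuleCat.of A (A ⧸ (⊥ : Ideal A)) ≅ ModuleCat.of A A :=
      (Submodule.quotEquivOfEqBot (⊥ : Ideal A) rfl).toModuleIso
    have h1 := h ⊥ j hj ((inDMapIso e).hom ≫ f)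
    rw [← cancel_epi (inDMapIso e).hom, h1, comp_zero]
  have hGE : K.IsGE a := by
    rw [DerivedCategory.isGE_iff]
    intro i hi
    exact hH i (Or.inl hi)
  obtain ⟨L₀, hL₀, ⟨e₀⟩⟩ := K.exists_iso_Q_obj_of_isGE a
  obtain ⟨L, ι, hι, hLinj, hLGE⟩ :=
    CochainComplex.Plus.modelCategoryQuillen.exists_quasiIso_injective L₀ a
  have hisoι : IsIso (DerivedCategory.Q.map ι) :=
    (DerivedCategory.isIso_Q_map_iff_quasiIso _ ι).mpr hι
  have e : K ≅ toD L := e₀ ≪≫ asIso (DerivedCategory.Q.map ι)
  have hKI : L.IsKInjective := CochainComplex.isKInjective_of_injective L a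
  have hLE : L.IsLE b := by
    rw [CochainComplex.isLE_iff]
    intro i hi
    exact exactAt_of_isZero_HF L i ((hH i (Or.inr hi)).of_iso ((HF A i).mapIso e.symm))
  have hqi : QuasiIso (L.ιTruncLE b) := (L.quasiIso_ιTruncLE_iff b).mpr hLE
  have hiso : IsIso (DerivedCategory.Q.map (L.ιTruncLE b)) :=
    (DerivedCategory.isIso_Q_map_iff_quasiIso _ (L.ιTruncLE b)).mpr hqi
  have hZ : Module.Injective A (Zc L b) :=
    injective_Zc_of_hom_eq_zero L hLinj b (fun I g => by
      have h1 := hom_single_eq_zero K (ModuleCat.of A (A ⧸ I)) (b + 1)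
        (h I (b + 1) (Or.inr (by omega))) (g ≫ e.inv)
      rw [← cancel_mono e.inv, h1, zero_comp])
  refine ⟨L.truncLE b, ?_, ?_, ⟨asIso (DerivedCategory.Q.map (L.ιTruncLE b)) ≪≫ e.symm⟩⟩
  · intro i hi
    rcases lt_trichotomy i b with h1 | h1 | h1
    · rcases hi with hi | hi
      · exact (L.isZero_of_isStrictlyGE a i hi).of_iso (L.truncLEXIso b i h1)
      · omega
    · subst h1
      rcases hi with hi | hi
      · exact (isZero_cycles_of_isZero L i (L.isZero_of_isStrictlyGE a i hi)).of_iso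
          (L.truncLEXIsoCycles i)
      · omega
    · exact (L.truncLE b).isZero_of_isStrictlyLE b i h1
  · intro i
    rcases lt_trichotomy i b with h1 | h1 | h1
    · have : Injective ((L.truncLE b).X i) :=
        Injective.of_iso (L.truncLEXIso b i h1).symm (hLinj i)
      exact Module.injective_module_of_injective_object A ((L.truncLE b).X i)
    · subst h1
      have h2 : Injective (ModuleCat.of A (Zc L i)) :=
        Module.injective_object_of_injective_module A (Zc L i)
      have : Injective ((L.truncLE i).X i) :=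
        Injective.of_iso ((L.truncLEXIsoCycles i).trans (cyclesIsoZc L i)).symm h2
      exact Module.injective_module_of_injective_object A ((L.truncLE i).X i)
    · have : Injective ((L.truncLE b).X i) :=
        ((L.truncLE b).isZero_of_isStrictlyLE b i h1).injective
      exact Module.injective_module_of_injective_object A ((L.truncLE b).X i)

end Groth.Agent.Lib.Helper36.InjAmp
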