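import Mathlib

/-!
Helper (helper36): if `L : C ⥤ D` has a left adjoint `R`, then a right Kan extension `(LF, α)` of
`F : C ⥤ H` along `L` is computed by `R ⋙ F`; in particular `α.app X` is an isomorphism whenever
the counit `R (L X) ⟶ X` is.
-/

set_option autoImplicit false
universe v₁ v₂ v₃ u₁ u₂ u₃

open CategoryTheory

namespace Groth.Agent.Lib.Helper36.KanAdj

variable {C : Type u₁} {D : Type u₂} {H : Type u₃} [Category.{v₁} C] [Category.{v₂} D]
  [Category.{v₃} H] {L : C ⥤ D} {R : D ⥤ C} (adj : R ⊣ L) {F : C ⥤ H} (LF : D ⥤ H)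
  (α : L ⋙ LF ⟶ F)

/-- The candidate counit exhibiting `R ⋙ F` as a Kan extension. -/
def β : L ⋙ (R ⋙ F) ⟶ F where
  app X := F.map (adj.counit.app X)
  naturality X Y f := by
    show F.map (R.map (L.map f)) ≫ F.map (adj.counit.app Y) = F.map (adj.counit.app X) ≫ F.map f
    rw [← F.map_comp, ← F.map_comp]
    congr 1
    exact adj.counit.naturality f

/-- The comparison map `LF ⟶ R ⋙ F`. -/
def δ : LF ⟶ R ⋙ F where
  app Y := LF.map (adj.unit.app Y) ≫ α.app (R.obj Y)
  naturality Y Z f := by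
    show LF.map f ≫ LF.map (adj.unit.app Z) ≫ α.app (R.obj Z) =
      (LF.map (adj.unit.app Y) ≫ α.app (R.obj Y)) ≫ F.map (R.map f)
    have h1 := α.naturality (R.map f)
    have h2 : LF.map (L.map (R.map f)) ≫ α.app (R.obj Z) = α.app (R.obj Y) ≫ F.map (R.map f) := h1
    have h3 := adj.unit.naturality f
    have h4 : f ≫ adj.unit.app Z = adj.unit.app Y ≫ L.map (R.map f) := h3
    rw [Category.assoc, ← h2, ← Category.assoc, ← LF.map_comp, h4, LF.map_comp, Category.assoc]

variable [LF.IsRightKanExtension α]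

/-- The comparison map `R ⋙ F ⟶ LF`. -/
noncomputable def γ : R ⋙ F ⟶ LF := LF.liftOfIsRightKanExtension α (R ⋙ F) (β adj)

lemma γ_fac (X : C) : (γ adj LF α).app (L.obj X) ≫ α.app X = F.map (adj.counit.app X) :=
  LF.liftOfIsRightKanExtension_fac_app α (R ⋙ F) (β adj) X

lemma δ_γ : δ adj LF α ≫ γ adj LF α = 𝟙 LF := by
  apply LF.hom_ext_of_isRightKanExtension α
  ext X
  show ((LF.map (adj.unit.app (L.obj X)) ≫ α.app (R.obj (L.obj X))) ≫
    (γ adj LF α).app (L.obj X)) ≫ α.app X = 𝟙 _ ≫ α.app X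
  have h1 := α.naturality (adj.counit.app X)
  have h2 : LF.map (L.map (adj.counit.app X)) ≫ α.app X =
    α.app (R.obj (L.obj X)) ≫ F.map (adj.counit.app X) := h1
  rw [Category.assoc, γ_fac, Category.assoc, ← h2, ← Category.assoc, ← LF.map_comp,
    adj.right_triangle_components]
  exact congrArg (· ≫ α.app X) (LF.map_id _)

lemma γ_δ : γ adj LF α ≫ δ adj LF α = 𝟙 (R ⋙ F) := by
  ext Y
  show (γ adj LF α).app Y ≫ LF.map (adj.unit.app Y) ≫ α.app (R.obj Y) = 𝟙 (F.obj (R.obj Y))
  have h1 := (γ adj LF α).naturality (adj.unit.app Y)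
  have h2 : F.map (R.map (adj.unit.app Y)) ≫ (γ adj LF α).app (L.obj (R.obj Y)) =
    (γ adj LF α).app Y ≫ LF.map (adj.unit.app Y) := h1
  have h3 : R.map (adj.unit.app Y) ≫ adj.counit.app (R.obj Y) = 𝟙 _ :=
    adj.left_triangle_components Y
  rw [← Category.assoc, ← h2, Category.assoc, γ_fac, ← F.map_comp, h3, F.map_id]
  rfl

instance : IsIso (γ adj LF α) := ⟨δ adj LF α, γ_δ adj LF α, δ_γ adj LF α⟩

/-- If the counit of the adjunction is an isomorphism at `X`, then so is the counit of the Kan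
extension. -/
theorem isIso_app_of_isIso_counit (X : C) [IsIso (adj.counit.app X)] : IsIso (α.app X) := by
  have h1 := γ_fac adj LF α X
  have h2 : IsIso ((γ adj LF α).app (L.obj X) ≫ α.app X) := by
    rw [h1]
    infer_instance
  exact IsIso.of_isIso_comp_left ((γ adj LF α).app (L.obj X)) (α.app X)

section existence

variable {C : Type u₁} {D : Type u₂} {H : Type u₃} [Category.{v₁} C] [Category.{v₂} D]
  [Category.{v₃} H] {L : C ⥤ D} {R : D ⥤ C} (adj : R ⊣ L) (F : C ⥤ H)

/-- `R ⋙ F` is a right Kan extension of `F` along `L` when `R ⊣ L`. -/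
theorem isRightKanExtension_of_adjunction : (R ⋙ F).IsRightKanExtension (β adj (F := F)) := by
  refine ⟨⟨Limits.IsTerminal.ofUniqueHom (fun Y => CostructuredArrow.homMk
    { app := fun Z => Y.left.map (adj.unit.app Z) ≫ Y.hom.app (R.obj Z)
      naturality := fun Z Z' f => ?_ } ?_) ?_⟩⟩
  · show Y.left.map f ≫ Y.left.map (adj.unit.app Z') ≫ Y.hom.app (R.obj Z') =
      (Y.left.map (adj.unit.app Z) ≫ Y.hom.app (R.obj Z)) ≫ F.map (R.map f)
    have h1 := Y.hom.naturality (R.map f)
    have h2 : Y.left.map (L.map (R.map f)) ≫ Y.hom.app (R.obj Z') =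
      Y.hom.app (R.obj Z) ≫ F.map (R.map f) := h1
    have h3 : f ≫ adj.unit.app Z' = adj.unit.app Z ≫ L.map (R.map f) := adj.unit.naturality f
    rw [Category.assoc, ← h2, ← Category.assoc, ← Y.left.map_comp, h3, Y.left.map_comp,
      Category.assoc]
  · ext X
    show (Y.left.map (adj.unit.app (L.obj X)) ≫ Y.hom.app (R.obj (L.obj X))) ≫
      F.map (adj.counit.app X) = Y.hom.app X
    have h1 := Y.hom.naturality (adj.counit.app X)
    have h2 : Y.left.map (L.map (adj.counit.app X)) ≫ Y.hom.app X =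
      Y.hom.app (R.obj (L.obj X)) ≫ F.map (adj.counit.app X) := h1
    rw [Category.assoc, ← h2, ← Category.assoc, ← Y.left.map_comp, adj.right_triangle_components]
    exact (congrArg (· ≫ Y.hom.app X) (Y.left.map_id _)).trans (Category.id_comp _)
  · intro Y m
    apply CostructuredArrow.hom_ext
    obtain ⟨μ, hμ⟩ : ∃ μ : Y.left ⟶ R ⋙ F, μ = m.left := ⟨m.left, rfl⟩
    have hw := CostructuredArrow.w m
    have hw' : ∀ X, μ.app (L.obj X) ≫ F.map (adj.counit.app X) = Y.hom.app X := fun X => by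
      rw [hμ]
      exact congr(($hw).app X)
    rw [← hμ]
    ext Z
    show μ.app Z = Y.left.map (adj.unit.app Z) ≫ Y.hom.app (R.obj Z)
    have h1 := μ.naturality (adj.unit.app Z)
    have h2 : Y.left.map (adj.unit.app Z) ≫ μ.app (L.obj (R.obj Z)) =
      μ.app Z ≫ F.map (R.map (adj.unit.app Z)) := h1
    have h3 : R.map (adj.unit.app Z) ≫ adj.counit.app (R.obj Z) = 𝟙 _ :=
      adj.left_triangle_components Z
    have h4 : (μ.app Z ≫ F.map (R.map (adj.unit.app Z))) ≫
        F.map (adj.counit.app (R.obj Z)) = μ.app Z := by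
      rw [Category.assoc, ← F.map_comp, h3]
      exact (congrArg (μ.app Z ≫ ·) (F.map_id _)).trans (Category.comp_id _)
    rw [← hw', ← Category.assoc, h2]
    exact h4.symm

end existence

end Groth.Agent.Lib.Helper36.KanAdj
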