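import Mathlib

/-!
Helper (helper36): one step of the semi-free (cell attachment) resolution of a complex of modules.

Given a chain map `p : P ⟶ X` and a set `S` of allowed degrees, `next S p` is the complex obtained
from `P` by adding, for every `n ∈ S` and every pair `(c, x)` with `c ∈ P^{n+1}` a cycle and
`x ∈ X^n` such that `d x = p c`, a free generator `e` in degree `n` with `d e = c`; the map
`nextMap S p : next S p ⟶ X` sends `e` to `x`.
-/

set_option autoImplicit false
universe u

open CategoryTheory CategoryTheory.Limits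
open scoped ZeroObject

namespace Groth.Agent.Lib.Helper36.KP

variable {A : Type u} [Ring A]

/-- Cochain complexes of `A`-modules. -/
abbrev Cx (A : Type u) [Ring A] : Type (u + 1) := CochainComplex (ModuleCat.{u} A) ℤ

variable (S : ℤ → Prop) {X P : Cx A} (p : P ⟶ X)

/-- The cells attached in degree `n`. -/
def Cell (n : ℤ) : Type u :=
  { cx : P.X (n + 1) × X.X n // S n ∧ (P.d (n + 1) (n + 1 + 1)).hom cx.1 = 0 ∧
      (X.d n (n + 1)).hom cx.2 = (p.f (n + 1)).hom cx.1 }

/-- The boundary of a linear combination of cells. -/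
noncomputable def bdry (n : ℤ) : (Cell S p n →₀ A) →ₗ[A] P.X (n + 1) :=
  Finsupp.linearCombination A (fun σ : Cell S p n => σ.1.1)

/-- The image in `X` of a linear combination of cells. -/
noncomputable def cellVal (n : ℤ) : (Cell S p n →₀ A) →ₗ[A] X.X n :=
  Finsupp.linearCombination A (fun σ : Cell S p n => σ.1.2)

@[simp] lemma bdry_single (n : ℤ) (σ : Cell S p n) (a : A) :
    bdry S p n (Finsupp.single σ a) = a • σ.1.1 := by
  simp [bdry]

@[simp] lemma cellVal_single (n : ℤ) (σ : Cell S p n) (a : A) :
    cellVal S p n (Finsupp.single σ a) = a • σ.1.2 := by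
  simp [cellVal]

lemma d_bdry (n : ℤ) (e : Cell S p n →₀ A) :
    (P.d (n + 1) (n + 1 + 1)).hom (bdry S p n e) = 0 := by
  induction e using Finsupp.induction_linear with
  | zero => simp
  | add f g hf hg => rw [map_add, map_add, hf, hg, add_zero]
  | single σ a => rw [bdry_single, map_smul, σ.2.2.1, smul_zero]

lemma d_cellVal (n : ℤ) (e : Cell S p n →₀ A) :
    (X.d n (n + 1)).hom (cellVal S p n e) = (p.f (n + 1)).hom (bdry S p n e) := by
  induction e using Finsupp.induction_linear with
  | zero => simp
  | add f g hf hg => rw [map_add, map_add, hf, hg, map_add, map_add]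
  | single σ a => rw [bdry_single, cellVal_single, map_smul, map_smul, σ.2.2.2]

/-- The terms of the next stage. -/
noncomputable def nextX (n : ℤ) : ModuleCat.{u} A := ModuleCat.of A ((Cell S p n →₀ A) × P.X n)

/-- The differential of the next stage. -/
noncomputable def nextD (n : ℤ) : nextX S p n ⟶ nextX S p (n + 1) :=
  ModuleCat.ofHom ((LinearMap.inr A (Cell S p (n + 1) →₀ A) (P.X (n + 1))).comp
    ((bdry S p n).coprod (P.d n (n + 1)).hom))

lemma nextD_apply (n : ℤ) (e : Cell S p n →₀ A) (y : P.X n) :
    (nextD S p n).hom (e, y) = (0, bdry S p n e + (P.d n (n + 1)).hom y) := rfl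

lemma nextD_comp (n : ℤ) : nextD S p n ≫ nextD S p (n + 1) = 0 := by
  apply ModuleCat.hom_ext
  apply LinearMap.ext
  rintro ⟨e, y⟩
  show (nextD S p (n + 1)).hom ((nextD S p n).hom (e, y)) = 0
  rw [nextD_apply, nextD_apply, map_zero, zero_add, map_add, d_bdry, zero_add]
  have := P.d_comp_d n (n + 1) (n + 1 + 1)
  have h2 : (P.d (n + 1) (n + 1 + 1)).hom ((P.d n (n + 1)).hom y) = 0 := congr($this y)
  rw [h2]
  rfl

/-- The next stage. -/
noncomputable def next : Cx A := CochainComplex.of (nextX S p) (nextD S p) (nextD_comp S p)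

lemma next_d (n : ℤ) : (next S p).d n (n + 1) = nextD S p n := CochainComplex.of_d _ _ _

/-- The inclusion of `P` in the next stage. -/
noncomputable def incl : P ⟶ next S p where
  f n := ModuleCat.ofHom (LinearMap.inr A (Cell S p n →₀ A) (P.X n))
  comm' i j hij := by
    obtain rfl : i + 1 = j := hij
    rw [next_d]
    apply ModuleCat.hom_ext
    apply LinearMap.ext
    intro y
    show (nextD S p i).hom (0, y) =
      ((0 : Cell S p (i + 1) →₀ A), (P.d i (i + 1)).hom y)
    rw [nextD_apply, map_zero, zero_add]

/-- The map from the next stage to `X`. -/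
noncomputable def nextMap : next S p ⟶ X where
  f n := ModuleCat.ofHom ((cellVal S p n).coprod (p.f n).hom)
  comm' i j hij := by
    obtain rfl : i + 1 = j := hij
    rw [next_d]
    apply ModuleCat.hom_ext
    apply LinearMap.ext
    rintro ⟨e, y⟩
    show (X.d i (i + 1)).hom (cellVal S p i e + (p.f i).hom y) =
      ((cellVal S p (i + 1)).coprod (p.f (i + 1)).hom) ((nextD S p i).hom (e, y))
    rw [nextD_apply, LinearMap.coprod_apply, map_zero, zero_add, map_add, map_add, d_cellVal]
    have := p.comm i (i + 1)
    have h2 : (X.d i (i + 1)).hom ((p.f i).hom y) = (p.f (i + 1)).hom ((P.d i (i + 1)).hom y) :=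
      congr($this y)
    rw [h2]

@[reassoc (attr := simp)]
lemma incl_nextMap : incl S p ≫ nextMap S p = p := by
  ext n y
  show cellVal S p n 0 + (p.f n).hom y = (p.f n).hom y
  rw [map_zero, zero_add]

lemma incl_f_apply (n : ℤ) (y : P.X n) : ((incl S p).f n).hom y = ((0 : Cell S p n →₀ A), y) := rfl

lemma nextMap_f_apply (n : ℤ) (e : Cell S p n →₀ A) (y : P.X n) :
    ((nextMap S p).f n).hom (e, y) = cellVal S p n e + (p.f n).hom y := rfl

lemma next_d_apply (n : ℤ) (e : Cell S p n →₀ A) (y : P.X n) :
    ((next S p).d n (n + 1)).hom (e, y) =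
      ((0 : Cell S p (n + 1) →₀ A), bdry S p n e + (P.d n (n + 1)).hom y) := by
  rw [next_d]
  rfl

/-- The element of the next stage given by a cell. -/
noncomputable def cellElt {n : ℤ} (σ : Cell S p n) : (next S p).X n :=
  ((Finsupp.single σ 1 : Cell S p n →₀ A), (0 : P.X n))

lemma d_cellElt {n : ℤ} (σ : Cell S p n) :
    ((next S p).d n (n + 1)).hom (cellElt S p σ) = ((incl S p).f (n + 1)).hom σ.1.1 := by
  unfold cellElt
  rw [next_d_apply, bdry_single, one_smul, map_zero, add_zero]
  rfl

lemma nextMap_cellElt {n : ℤ} (σ : Cell S p n) :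
    ((nextMap S p).f n).hom (cellElt S p σ) = σ.1.2 := by
  unfold cellElt
  rw [nextMap_f_apply, cellVal_single, one_smul, map_zero, add_zero]

/-- A stage of the construction: a complex over `X`. -/
structure Stage (X : Cx A) where
  /-- the complex -/
  P : Cx A
  /-- the map to `X` -/
  p : P ⟶ X

/-- The stages of the semi-free resolution. -/
noncomputable def stage (X : Cx A) : ℕ → Stage X
  | 0 => ⟨0, 0⟩
  | k + 1 => ⟨next S (stage X k).p, nextMap S (stage X k).p⟩

/-- The sequence of stages. -/
noncomputable def seq (X : Cx A) : ℕ ⥤ Cx A :=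
  Functor.ofSequence (X := fun k => (stage S X k).P) (fun k => incl S (stage S X k).p)

lemma seq_obj (X : Cx A) (k : ℕ) : (seq S X).obj k = (stage S X k).P := rfl

lemma seq_map_succ (X : Cx A) (k : ℕ) :
    (seq S X).map (homOfLE (Nat.le_add_right k 1)) = incl S (stage S X k).p :=
  Functor.ofSequence_map_homOfLE_succ _ k

/-- The cocone of the stages over `X`. -/
noncomputable def seqCocone (X : Cx A) : Cocone (seq S X) where
  pt := X
  ι := NatTrans.ofSequence (F := seq S X) (G := (Functor.const ℕ).obj X)
    (fun k => (stage S X k).p) (fun k => by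
      rw [seq_map_succ]
      show incl S (stage S X k).p ≫ nextMap S (stage S X k).p = _
      rw [incl_nextMap]
      simp)

/-- The semi-free resolution. -/
noncomputable def res (X : Cx A) : Cx A := colimit (seq S X)

/-- The map from the semi-free resolution to `X`. -/
noncomputable def resMap (X : Cx A) : res S X ⟶ X := colimit.desc (seq S X) (seqCocone S X)

/-- The map from a stage to the resolution. -/
noncomputable def resι (X : Cx A) (k : ℕ) : (stage S X k).P ⟶ res S X := colimit.ι (seq S X) k

@[reassoc (attr := simp)]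
lemma resι_resMap (X : Cx A) (k : ℕ) : resι S X k ≫ resMap S X = (stage S X k).p :=
  colimit.ι_desc (seqCocone S X) k

@[reassoc (attr := simp)]
lemma incl_resι (X : Cx A) (k : ℕ) :
    incl S (stage S X k).p ≫ resι S X (k + 1) = resι S X k := by
  have := colimit.w (seq S X) (homOfLE (Nat.le_add_right k 1))
  rw [seq_map_succ] at this
  exact this

end Groth.Agent.Lib.Helper36.KP
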