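import Mathlib
import Groth.Agent.Lib.Helper36.KProjStep

/-!
Helper (helper36): elementwise properties of the semi-free resolution `res S X ⟶ X`, and the fact
that it is a quasi-isomorphism.
-/

set_option autoImplicit false
universe u

open CategoryTheory CategoryTheory.Limits CochainComplex HomotopyCategory
open scoped ZeroObject

namespace Groth.Agent.Lib.Helper36.KP

variable {A : Type u} [Ring A] (S : ℤ → Prop) (X : Cx A)

noncomputable instance preservesColimitsOfShape_nat_forget :
    PreservesColimitsOfShape ℕ (forget (ModuleCat.{u} A)) := by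
  have : PreservesFilteredColimitsOfSize.{0, 0} (forget (ModuleCat.{u} A)) :=
    preservesFilteredColimitsOfSize_shrink.{0, u, 0, u} _
  exact PreservesFilteredColimitsOfSize.preserves_filtered_colimits ℕ

/-- The colimit cocone in degree `n`. -/
noncomputable def evalCocone (n : ℤ) :
    Cocone (seq S X ⋙ HomologicalComplex.eval (ModuleCat.{u} A) (ComplexShape.up ℤ) n) :=
  (HomologicalComplex.eval (ModuleCat.{u} A) (ComplexShape.up ℤ) n).mapCocone
    (colimit.cocone (seq S X))

/-- The colimit cocone in degree `n` is a colimit. -/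
noncomputable def evalIsColimit (n : ℤ) : IsColimit (evalCocone S X n) :=
  isColimitOfPreserves (HomologicalComplex.eval (ModuleCat.{u} A) (ComplexShape.up ℤ) n)
    (colimit.isColimit (seq S X))

lemma exists_rep (n : ℤ) (y : (res S X).X n) :
    ∃ (k : ℕ) (y' : (stage S X k).P.X n), ((resι S X k).f n).hom y' = y := by
  obtain ⟨k, y', hy'⟩ := Concrete.isColimit_exists_rep _ (evalIsColimit S X n) y
  exact ⟨k, y', hy'⟩

lemma exists_of_resι_eq_zero (n : ℤ) (k : ℕ) (y' : (stage S X k).P.X n)
    (h : ((resι S X k).f n).hom y' = 0) :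
    ∃ (k' : ℕ) (hkk' : k ≤ k'), (((seq S X).map (homOfLE hkk')).f n).hom y' = 0 := by
  have h1 : (evalCocone S X n).ι.app k y' = (evalCocone S X n).ι.app k 0 := by
    rw [map_zero]
    exact h
  obtain ⟨k', f, g, hfg⟩ :=
    (Concrete.isColimit_rep_eq_iff_exists _ (evalIsColimit S X n) y' 0).mp h1
  refine ⟨k', leOfHom f, ?_⟩
  rw [map_zero] at hfg
  exact hfg

section qis
variable {A : Type u} [Ring A]

/-- A chain map of complexes of modules with the right lifting property against the inclusions
of spheres in disks is a quasi-isomorphism. -/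
theorem quasiIso_of_lifting {P X : Cx A} (f : P ⟶ X)
    (h : ∀ (n : ℤ) (c : P.X (n + 1)) (x : X.X n), (P.d (n + 1) (n + 1 + 1)).hom c = 0 →
      (X.d n (n + 1)).hom x = (f.f (n + 1)).hom c →
      ∃ c' : P.X n, (P.d n (n + 1)).hom c' = c ∧ (f.f n).hom c' = x) : QuasiIso f := by
  have hex : ∀ i : ℤ, (mappingCone f).ExactAt i := by
    intro i
    rw [HomologicalComplex.exactAt_iff' _ (i - 1) i (i + 1) (by simp) (by simp),
      ShortComplex.moduleCat_exact_iff]
    intro z' hz
    obtain ⟨z, rfl⟩ : ∃ z : (mappingCone f).X i, z = z' := ⟨z', rfl⟩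
    have hz' : ((mappingCone f).d i (i + 1)).hom z = 0 := hz
    set a : P.X (i + 1) := ((mappingCone.fst f).1.v i (i + 1) rfl).hom z with ha
    set b : X.X i := ((mappingCone.snd f).v i i (add_zero i)).hom z with hb
    have h1 : (P.d (i + 1) (i + 1 + 1)).hom a = 0 := by
      have e1 := mappingCone.d_fst_v f i (i + 1) (i + 1 + 1) rfl rfl
      have e2 := congr($e1 z)
      have e3 : ((mappingCone.fst f).1.v (i + 1) (i + 1 + 1) rfl).hom
          (((mappingCone f).d i (i + 1)).hom z) = -(P.d (i + 1) (i + 1 + 1)).hom a := e2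
      rw [hz', map_zero] at e3
      exact neg_eq_zero.mp e3.symm
    have h2 : (X.d i (i + 1)).hom (-b) = (f.f (i + 1)).hom a := by
      have e1 := mappingCone.d_snd_v f i (i + 1) rfl
      have e2 := congr($e1 z)
      have e3 : ((mappingCone.snd f).v (i + 1) (i + 1) (add_zero _)).hom
          (((mappingCone f).d i (i + 1)).hom z) = (f.f (i + 1)).hom a + (X.d i (i + 1)).hom b := e2
      rw [hz', map_zero] at e3
      rw [map_neg]
      exact (eq_neg_of_add_eq_zero_left e3.symm).symm
    obtain ⟨c', hc'1, hc'2⟩ := h i a (-b) h1 h2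
    refine ⟨((mappingCone.inl f).v i (i - 1) (by omega)).hom (-c'), ?_⟩
    have e1 := mappingCone.inl_v_d f i (i - 1) (i + 1) (by omega) (by omega)
    have e2 := congr($e1 (-c'))
    have e3 : ((mappingCone f).d (i - 1) i).hom (((mappingCone.inl f).v i (i - 1) (by omega)).hom (-c')) =
        ((mappingCone.inr f).f i).hom ((f.f i).hom (-c')) -
          ((mappingCone.inl f).v (i + 1) i (by omega)).hom ((P.d i (i + 1)).hom (-c')) := e2
    have e4 := mappingCone.id_X f i (i + 1) rfl
    have e5 : ((mappingCone.inl f).v (i + 1) i (by omega)).hom a +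
        ((mappingCone.inr f).f i).hom b = z := congr($e4 z)
    refine Eq.trans ?_ e5
    show ((mappingCone f).d (i - 1) i).hom _ = ((mappingCone.inl f).v (i + 1) i (by omega)).hom a +
        ((mappingCone.inr f).f i).hom b
    rw [e3]
    simp only [map_neg]
    rw [hc'1, hc'2, map_neg, neg_neg, sub_neg_eq_add, add_comm]
  have h2 : (subcategoryAcyclic (ModuleCat.{u} A)) ((HomotopyCategory.quotient _ _).obj
      (mappingCone f)) := (quotient_obj_mem_subcategoryAcyclic_iff_exactAt _).mpr hex
  have h1 : HomotopyCategory.quasiIso _ _ ((HomotopyCategory.quotient _ _).map f) := by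
    rw [quasiIso_eq_trW_subcategoryAcyclic]
    exact ((subcategoryAcyclic (ModuleCat.{u} A)).trW_iff_of_distinguished _
      (mappingCone_triangleh_distinguished f)).mpr h2
  exact (quotient_map_mem_quasiIso_iff f).mp h1

end qis

section props
variable {A : Type u} [Ring A] (S : ℤ → Prop) (X : Cx A)

lemma map_resι {k k' : ℕ} (h : k ≤ k') : (seq S X).map (homOfLE h) ≫ resι S X k' = resι S X k :=
  colimit.w (seq S X) (homOfLE h)

lemma map_resι_apply {k k' : ℕ} (h : k ≤ k') (n : ℤ) (y : (stage S X k).P.X n) :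
    ((resι S X k').f n).hom ((((seq S X).map (homOfLE h)).f n).hom y) =
      ((resι S X k).f n).hom y := by
  have := map_resι S X h
  exact congr(($this).f n y)

lemma resι_resMap_apply (k : ℕ) (n : ℤ) (y : (stage S X k).P.X n) :
    ((resMap S X).f n).hom (((resι S X k).f n).hom y) = ((stage S X k).p.f n).hom y := by
  have := resι_resMap S X k
  exact congr(($this).f n y)

lemma incl_resι_apply (k : ℕ) (n : ℤ) (y : (stage S X k).P.X n) :
    ((resι S X (k + 1)).f n).hom (((incl S (stage S X k).p).f n).hom y) =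
      ((resι S X k).f n).hom y := by
  have := incl_resι S X k
  exact congr(($this).f n y)

lemma isZero_zero_X (n : ℤ) : IsZero ((0 : Cx A).X n) :=
  Functor.map_isZero (HomologicalComplex.eval (ModuleCat.{u} A) (ComplexShape.up ℤ) n)
    (isZero_zero (Cx A))

lemma subsingleton_stage_X (k : ℕ) (n : ℤ) (hn : ¬ S n) :
    Subsingleton ((stage S X k).P.X n) := by
  induction k with
  | zero => exact ModuleCat.subsingleton_of_isZero (isZero_zero_X n)
  | succ k ih =>
    have h1 : IsEmpty (Cell S (stage S X k).p n) := ⟨fun σ => hn σ.2.1⟩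
    show Subsingleton ((Cell S (stage S X k).p n →₀ A) × (stage S X k).P.X n)
    infer_instance

lemma subsingleton_res_X (n : ℤ) (hn : ¬ S n) : Subsingleton ((res S X).X n) := by
  refine ⟨fun y z => ?_⟩
  obtain ⟨k, y', rfl⟩ := exists_rep S X n y
  obtain ⟨k', z', rfl⟩ := exists_rep S X n z
  have h1 := subsingleton_stage_X S X k n hn
  have h2 := subsingleton_stage_X S X k' n hn
  rw [Subsingleton.elim y' 0, Subsingleton.elim z' 0, map_zero, map_zero]

lemma isZero_res_X (n : ℤ) (hn : ¬ S n) : IsZero ((res S X).X n) :=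
  @ModuleCat.isZero_of_subsingleton _ _ _ (subsingleton_res_X S X n hn)

/-- The lifting property of the resolution. -/
theorem resMap_lifting (hS : ∀ n, ¬ S n → ¬ S (n + 1)) (hX : ∀ n, ¬ S n → IsZero (X.X n))
    (n : ℤ) (c : (res S X).X (n + 1)) (x : X.X n)
    (hc : ((res S X).d (n + 1) (n + 1 + 1)).hom c = 0)
    (hx : (X.d n (n + 1)).hom x = ((resMap S X).f (n + 1)).hom c) :
    ∃ c' : (res S X).X n, ((res S X).d n (n + 1)).hom c' = c ∧ ((resMap S X).f n).hom c' = x := by
  by_cases hn : S n
  · obtain ⟨k, c₁, rfl⟩ := exists_rep S X (n + 1) c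
    have h1 : ((resι S X k).f (n + 1 + 1)).hom (((stage S X k).P.d (n + 1) (n + 1 + 1)).hom c₁) = 0 := by
      have := (resι S X k).comm (n + 1) (n + 1 + 1)
      have h2 : ((res S X).d (n + 1) (n + 1 + 1)).hom (((resι S X k).f (n + 1)).hom c₁) =
        ((resι S X k).f (n + 1 + 1)).hom (((stage S X k).P.d (n + 1) (n + 1 + 1)).hom c₁) :=
        congr($this c₁)
      exact h2.symm.trans hc
    obtain ⟨k', hkk', h3⟩ := exists_of_resι_eq_zero S X _ k _ h1
    set c₂ : (stage S X k').P.X (n + 1) := (((seq S X).map (homOfLE hkk')).f (n + 1)).hom c₁ with hc₂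
    have h4 : ((stage S X k').P.d (n + 1) (n + 1 + 1)).hom c₂ = 0 := by
      have := ((seq S X).map (homOfLE hkk')).comm (n + 1) (n + 1 + 1)
      have h2 : ((stage S X k').P.d (n + 1) (n + 1 + 1)).hom
          ((((seq S X).map (homOfLE hkk')).f (n + 1)).hom c₁) =
        (((seq S X).map (homOfLE hkk')).f (n + 1 + 1)).hom
          (((stage S X k).P.d (n + 1) (n + 1 + 1)).hom c₁) := congr($this c₁)
      exact h2.trans h3
    have h5 : ((resι S X k').f (n + 1)).hom c₂ = ((resι S X k).f (n + 1)).hom c₁ :=
      map_resι_apply S X hkk' (n + 1) c₁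
    have h6 : (X.d n (n + 1)).hom x = ((stage S X k').p.f (n + 1)).hom c₂ := by
      rw [hx, ← h5, resι_resMap_apply]
    let σ : Cell S (stage S X k').p n := ⟨(c₂, x), hn, h4, h6⟩
    refine ⟨((resι S X (k' + 1)).f n).hom (cellElt S (stage S X k').p σ), ?_, ?_⟩
    · have := (resι S X (k' + 1)).comm n (n + 1)
      have h2 : ((res S X).d n (n + 1)).hom
          (((resι S X (k' + 1)).f n).hom (cellElt S (stage S X k').p σ)) =
        ((resι S X (k' + 1)).f (n + 1)).hom
          (((next S (stage S X k').p).d n (n + 1)).hom (cellElt S (stage S X k').p σ)) :=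
        congr($this (cellElt S (stage S X k').p σ))
      rw [h2, d_cellElt, incl_resι_apply]
      exact h5
    · rw [resι_resMap_apply]
      exact nextMap_cellElt S (stage S X k').p σ
  · have h1 := subsingleton_res_X S X (n + 1) (hS n hn)
    have h2 : Subsingleton (X.X n) := ModuleCat.subsingleton_of_isZero (hX n hn)
    exact ⟨0, Subsingleton.elim _ _, Subsingleton.elim _ _⟩

theorem quasiIso_resMap (hS : ∀ n, ¬ S n → ¬ S (n + 1)) (hX : ∀ n, ¬ S n → IsZero (X.X n)) :
    QuasiIso (resMap S X) :=
  quasiIso_of_lifting _ (resMap_lifting S X hS hX)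

end props

end Groth.Agent.Lib.Helper36.KP
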