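import Mathlib
import Groth.Agent.Lib.Helper36.KProjRes

/-!
Helper (helper36): the semi-free resolution `res S X` is K-projective and has projective terms.
-/

set_option autoImplicit false
universe u

open CategoryTheory CategoryTheory.Limits CochainComplex HomotopyCategory
open scoped ZeroObject

namespace Groth.Agent.Lib.Helper36.KP

section general

/-- Dependent choice along surjective restriction maps. -/
lemma exists_compatible {D : ℕ → Type*} (r : ∀ k, D (k + 1) → D k)
    (hr : ∀ k, Function.Surjective (r k)) (d0 : D 0) :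
    ∃ d : ∀ k, D k, d 0 = d0 ∧ ∀ k, r k (d (k + 1)) = d k := by
  let d : ∀ k, D k := fun k => Nat.rec d0 (fun k dk => (hr k dk).choose) k
  exact ⟨d, rfl, fun k => (hr k (d k)).choose_spec⟩

variable {A : Type u} [Ring A]

/-- In an acyclic complex of modules, cycles are boundaries. -/
lemma exists_of_acyclic {L : Cx A} (hL : L.Acyclic) (n : ℤ) (z : L.X (n + 1))
    (hz : (L.d (n + 1) (n + 1 + 1)).hom z = 0) : ∃ w : L.X n, (L.d n (n + 1)).hom w = z := by
  have h1 := hL (n + 1)
  rw [HomologicalComplex.exactAt_iff' _ n (n + 1) (n + 1 + 1) (by simp) (by simp),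
    ShortComplex.moduleCat_exact_iff] at h1
  obtain ⟨w, hw⟩ := h1 z hz
  exact ⟨w, hw⟩

/-- A family of maps `h n : P^{n+1} → L^n` satisfying the null-homotopy identity gives a
homotopy to zero. -/
noncomputable def homotopyOfFamily {P L : Cx A} (f : P ⟶ L) (h : ∀ n : ℤ, P.X (n + 1) ⟶ L.X n)
    (hh : ∀ n : ℤ, f.f (n + 1) = h n ≫ L.d n (n + 1) + P.d (n + 1) (n + 1 + 1) ≫ h (n + 1)) :
    Homotopy f 0 where
  hom i j := if hij : j + 1 = i then eqToHom (by rw [hij]) ≫ h j else 0
  zero i j hij := dif_neg hij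
  comm i := by
    obtain ⟨n, rfl⟩ : ∃ n, i = n + 1 := ⟨i - 1, by omega⟩
    rw [dNext_eq _ (show (ComplexShape.up ℤ).Rel (n + 1) (n + 1 + 1) from rfl),
      prevD_eq _ (show (ComplexShape.up ℤ).Rel n (n + 1) from rfl), dif_pos rfl, dif_pos rfl, hh n]
    simp [add_comm]

end general

section step
variable {A : Type u} [Ring A]

/-- Null-homotopy data for a map `g : P ⟶ L`, as a family of maps `h n : P^{n+1} → L^n`. -/
def IsNullFamily {P L : Cx A} (g : P ⟶ L) (h : ∀ n : ℤ, P.X (n + 1) ⟶ L.X n) : Prop :=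
  ∀ n : ℤ, g.f (n + 1) = h n ≫ L.d n (n + 1) + P.d (n + 1) (n + 1 + 1) ≫ h (n + 1)

lemma IsNullFamily.apply {P L : Cx A} {g : P ⟶ L} {h : ∀ n : ℤ, P.X (n + 1) ⟶ L.X n}
    (hh : IsNullFamily g h) (n : ℤ) (y : P.X (n + 1)) :
    (g.f (n + 1)).hom y = (L.d n (n + 1)).hom ((h n).hom y) +
      (h (n + 1)).hom ((P.d (n + 1) (n + 1 + 1)).hom y) := by
  have := hh n
  exact congr($this y)

variable (S : ℤ → Prop) {X P : Cx A} (p : P ⟶ X) {L : Cx A}

theorem exists_extend (hL : L.Acyclic) (g : next S p ⟶ L) (h : ∀ n : ℤ, P.X (n + 1) ⟶ L.X n)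
    (hh : IsNullFamily (incl S p ≫ g) h) :
    ∃ h' : ∀ n : ℤ, (next S p).X (n + 1) ⟶ L.X n, IsNullFamily g h' ∧
      ∀ n : ℤ, (incl S p).f (n + 1) ≫ h' n = h n := by
  have key : ∀ (n : ℤ) (σ : Cell S p (n + 1)), ∃ w : L.X n, (L.d n (n + 1)).hom w =
      (g.f (n + 1)).hom (cellElt S p σ) - (h (n + 1)).hom σ.1.1 := by
    intro n σ
    apply exists_of_acyclic hL
    rw [map_sub]
    have e1 : (L.d (n + 1) (n + 1 + 1)).hom ((g.f (n + 1)).hom (cellElt S p σ)) =
        (g.f (n + 1 + 1)).hom (((incl S p).f (n + 1 + 1)).hom σ.1.1) := by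
      have := g.comm (n + 1) (n + 1 + 1)
      have h2 : (L.d (n + 1) (n + 1 + 1)).hom ((g.f (n + 1)).hom (cellElt S p σ)) =
          (g.f (n + 1 + 1)).hom (((next S p).d (n + 1) (n + 1 + 1)).hom (cellElt S p σ)) :=
        congr($this (cellElt S p σ))
      rw [h2, d_cellElt]
    have e2 := hh.apply (n + 1) σ.1.1
    have e3 : ((incl S p ≫ g).f (n + 1 + 1)).hom σ.1.1 =
        (g.f (n + 1 + 1)).hom (((incl S p).f (n + 1 + 1)).hom σ.1.1) := rfl
    rw [e1, ← e3, e2, σ.2.2.1, map_zero, add_zero, sub_self]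
  choose l hl using key
  let ℓ : ∀ n : ℤ, (Cell S p (n + 1) →₀ A) →ₗ[A] L.X n := fun n => Finsupp.linearCombination A (l n)
  have hℓ : ∀ (n : ℤ) (e : Cell S p (n + 1) →₀ A),
      (g.f (n + 1)).hom ((e, (0 : P.X (n + 1))) : (Cell S p (n + 1) →₀ A) × P.X (n + 1)) =
        (L.d n (n + 1)).hom (ℓ n e) + (h (n + 1)).hom (bdry S p (n + 1) e) := by
    intro n e
    have : (g.f (n + 1)).hom.comp (LinearMap.inl A (Cell S p (n + 1) →₀ A) (P.X (n + 1))) =
        (L.d n (n + 1)).hom.comp (ℓ n) + (h (n + 1)).hom.comp (bdry S p (n + 1)) := by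
      apply Finsupp.lhom_ext
      intro σ a
      let G : (Cell S p (n + 1) →₀ A) × P.X (n + 1) →ₗ[A] L.X (n + 1) := (g.f (n + 1)).hom
      have e1 : G (Finsupp.single σ a, 0) = a • G (Finsupp.single σ 1, 0) := by
        rw [← map_smul, Prod.smul_mk, Finsupp.smul_single, smul_eq_mul, mul_one, smul_zero]
      have e2 : G (Finsupp.single σ 1, 0) = (g.f (n + 1)).hom (cellElt S p σ) := rfl
      show G (Finsupp.single σ a, 0) =
        (L.d n (n + 1)).hom (Finsupp.linearCombination A (l n) (Finsupp.single σ a)) +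
          (h (n + 1)).hom (bdry S p (n + 1) (Finsupp.single σ a))
      rw [e1, e2, bdry_single, map_smul, Finsupp.linearCombination_single, map_smul, hl, smul_sub,
        sub_add_cancel]
    exact congr($this e)
  refine ⟨fun n => ModuleCat.ofHom ((ℓ n).coprod (h n).hom), ?_, ?_⟩
  · intro n
    apply ModuleCat.hom_ext
    apply LinearMap.ext
    rintro ⟨e, y⟩
    show (g.f (n + 1)).hom ((e, y) : (Cell S p (n + 1) →₀ A) × P.X (n + 1)) =
      (L.d n (n + 1)).hom (((ℓ n).coprod (h n).hom) (e, y)) +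
        ((ℓ (n + 1)).coprod (h (n + 1)).hom) (((next S p).d (n + 1) (n + 1 + 1)).hom (e, y))
    let G : (Cell S p (n + 1) →₀ A) × P.X (n + 1) →ₗ[A] L.X (n + 1) := (g.f (n + 1)).hom
    have e1 : G (e, y) = G (e, 0) + G (0, y) := by
      rw [← map_add]
      simp
    have e2 := hh.apply n y
    have e3 : ((incl S p ≫ g).f (n + 1)).hom y = G (0, y) := rfl
    have e4 : G (e, 0) = (L.d n (n + 1)).hom (ℓ n e) + (h (n + 1)).hom (bdry S p (n + 1) e) :=
      hℓ n e
    rw [next_d_apply, LinearMap.coprod_apply, LinearMap.coprod_apply, map_zero, zero_add,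
      map_add, map_add]
    show G (e, y) = _
    rw [e1, e4, ← e3, e2]
    abel
  · intro n
    apply ModuleCat.hom_ext
    apply LinearMap.ext
    intro y
    show ((ℓ n).coprod (h n).hom) ((0 : Cell S p (n + 1) →₀ A), y) = (h n).hom y
    rw [LinearMap.coprod_apply, map_zero, zero_add]

end step

section assemble
variable {A : Type u} [Ring A] (S : ℤ → Prop) (X : Cx A)

/-- The inclusion of a stage in the next one. -/
noncomputable def inclS (k : ℕ) : (stage S X k).P ⟶ (stage S X (k + 1)).P :=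
  incl S (stage S X k).p

@[reassoc (attr := simp)]
lemma inclS_resι (k : ℕ) : inclS S X k ≫ resι S X (k + 1) = resι S X k := incl_resι S X k

lemma seq_map_succ' (k : ℕ) :
    (seq S X).map (homOfLE (Nat.le_add_right k 1)) = inclS S X k := seq_map_succ S X k

theorem exists_extend' {L : Cx A} (hL : L.Acyclic) (k : ℕ) (g : (stage S X (k + 1)).P ⟶ L)
    (h : ∀ n : ℤ, (stage S X k).P.X (n + 1) ⟶ L.X n)
    (hh : IsNullFamily (inclS S X k ≫ g) h) :
    ∃ h' : ∀ n : ℤ, (stage S X (k + 1)).P.X (n + 1) ⟶ L.X n, IsNullFamily g h' ∧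
      ∀ n : ℤ, (inclS S X k).f (n + 1) ≫ h' n = h n :=
  exists_extend S (stage S X k).p hL g h hh

/-- Maps out of a term of the resolution are given by compatible families on the stages. -/
noncomputable def descX (n : ℤ) {Y : ModuleCat.{u} A} (φ : ∀ k, (stage S X k).P.X n ⟶ Y)
    (hφ : ∀ k, (inclS S X k).f n ≫ φ (k + 1) = φ k) : (res S X).X n ⟶ Y :=
  (evalIsColimit S X n).desc
    { pt := Y
      ι := NatTrans.ofSequence
        (F := seq S X ⋙ HomologicalComplex.eval (ModuleCat.{u} A) (ComplexShape.up ℤ) n)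
        (G := (Functor.const ℕ).obj Y) φ (fun k => by
          have h1 : ((seq S X).map (homOfLE (Nat.le_add_right k 1))).f n ≫ φ (k + 1) = φ k := by
            rw [seq_map_succ']
            exact hφ k
          exact h1.trans (Category.comp_id _).symm) }

@[reassoc (attr := simp)]
lemma resι_descX (n : ℤ) {Y : ModuleCat.{u} A} (φ : ∀ k, (stage S X k).P.X n ⟶ Y)
    (hφ : ∀ k, (inclS S X k).f n ≫ φ (k + 1) = φ k) (k : ℕ) :
    (resι S X k).f n ≫ descX S X n φ hφ = φ k :=
  (evalIsColimit S X n).fac _ k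

lemma hom_ext_X (n : ℤ) {Y : ModuleCat.{u} A} (f g : (res S X).X n ⟶ Y)
    (h : ∀ k, (resι S X k).f n ≫ f = (resι S X k).f n ≫ g) : f = g :=
  (evalIsColimit S X n).hom_ext h

/-- The resolution is K-projective. -/
theorem isKProjective_res : (res S X).IsKProjective := by
  refine ⟨fun {L} f hL => ?_⟩
  -- data on stage `k`
  let D : ℕ → Type u := fun k => { h : ∀ n : ℤ, (stage S X k).P.X (n + 1) ⟶ L.X n //
    IsNullFamily (resι S X k ≫ f) h }
  let r : ∀ k, D (k + 1) → D k := fun k h =>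
    ⟨fun n => (inclS S X k).f (n + 1) ≫ h.1 n, by
      intro n
      have h1 := h.2 n
      have h2 : (resι S X k ≫ f).f (n + 1) =
          (inclS S X k).f (n + 1) ≫ (resι S X (k + 1) ≫ f).f (n + 1) := by
        rw [← HomologicalComplex.comp_f, inclS_resι_assoc]
      have h3 := (inclS S X k).comm (n + 1) (n + 1 + 1)
      show _ = ((inclS S X k).f (n + 1) ≫ h.1 n) ≫ L.d n (n + 1) +
        (stage S X k).P.d (n + 1) (n + 1 + 1) ≫ ((inclS S X k).f (n + 1 + 1) ≫ h.1 (n + 1))
      rw [h2, h1, Preadditive.comp_add, Category.assoc, ← Category.assoc _ _ (h.1 (n + 1)), h3,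
        Category.assoc]⟩
  have hr : ∀ k, Function.Surjective (r k) := by
    intro k h
    have h0 : IsNullFamily (inclS S X k ≫ resι S X (k + 1) ≫ f) h.1 := by
      have h4 : inclS S X k ≫ resι S X (k + 1) ≫ f = resι S X k ≫ f := inclS_resι_assoc S X k f
      intro n
      rw [h4]
      exact h.2 n
    obtain ⟨h', h1, h2⟩ := exists_extend' S X hL k (resι S X (k + 1) ≫ f) h.1 h0
    exact ⟨⟨h', h1⟩, Subtype.ext (funext h2)⟩
  have d0 : D 0 := ⟨fun n => 0, fun n => (isZero_zero_X (n + 1)).eq_of_src _ _⟩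
  obtain ⟨d, -, hd⟩ := exists_compatible r hr d0
  have hd' : ∀ k n, (inclS S X k).f (n + 1) ≫ (d (k + 1)).1 n = (d k).1 n := by
    intro k n
    have := hd k
    exact congr(($this).1 n)
  refine ⟨homotopyOfFamily f (fun n => descX S X (n + 1) (fun k => (d k).1 n) (fun k => hd' k n)) ?_⟩
  intro n
  apply hom_ext_X
  intro k
  rw [Preadditive.comp_add, resι_descX_assoc]
  have h1 := (d k).2 n
  have h2 := (resι S X k).comm (n + 1) (n + 1 + 1)
  have h3 : (resι S X k).f (n + 1) ≫ (res S X).d (n + 1) (n + 1 + 1) ≫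
      descX S X (n + 1 + 1) (fun k => (d k).1 (n + 1)) (fun k => hd' k (n + 1)) =
      (stage S X k).P.d (n + 1) (n + 1 + 1) ≫ (d k).1 (n + 1) := by
    rw [← Category.assoc, h2, Category.assoc, resι_descX]
  rw [h3]
  exact h1

end assemble

section projective
variable {A : Type u} [Ring A] (S : ℤ → Prop)

theorem exists_extend_lift {X P : Cx A} (p : P ⟶ X) (n : ℤ) {E Y : ModuleCat.{u} A} (e : E ⟶ Y)
    [Epi e] (f' : (next S p).X n ⟶ Y) (l : P.X n ⟶ E) (hl : l ≫ e = (incl S p).f n ≫ f') :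
    ∃ l' : (next S p).X n ⟶ E, l' ≫ e = f' ∧ (incl S p).f n ≫ l' = l := by
  let F : (Cell S p n →₀ A) × P.X n →ₗ[A] Y := f'.hom
  have hsurj : Function.Surjective e.hom := (ModuleCat.epi_iff_surjective e).mp inferInstance
  obtain ⟨h, hh⟩ := Module.projective_lifting_property e.hom
    (F.comp (LinearMap.inl A (Cell S p n →₀ A) (P.X n))) hsurj
  refine ⟨ModuleCat.ofHom (h.coprod l.hom), ?_, ?_⟩
  · apply ModuleCat.hom_ext
    apply LinearMap.ext
    rintro ⟨c, y⟩
    show e.hom ((h.coprod l.hom) (c, y)) = F (c, y)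
    have e1 : F (c, y) = F (c, 0) + F (0, y) := by
      rw [← map_add]
      simp
    have e2 : e.hom (h c) = F (c, 0) := congr($hh c)
    have e3 : e.hom (l.hom y) = F (0, y) := congr($hl y)
    rw [LinearMap.coprod_apply, map_add, e1, e2, e3]
  · apply ModuleCat.hom_ext
    apply LinearMap.ext
    intro y
    show (h.coprod l.hom) ((0 : Cell S p n →₀ A), y) = l.hom y
    rw [LinearMap.coprod_apply, map_zero, zero_add]

variable (X : Cx A)

theorem exists_extend_lift' (k : ℕ) (n : ℤ) {E Y : ModuleCat.{u} A} (e : E ⟶ Y)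
    [Epi e] (f' : (stage S X (k + 1)).P.X n ⟶ Y) (l : (stage S X k).P.X n ⟶ E)
    (hl : l ≫ e = (inclS S X k).f n ≫ f') :
    ∃ l' : (stage S X (k + 1)).P.X n ⟶ E, l' ≫ e = f' ∧ (inclS S X k).f n ≫ l' = l :=
  exists_extend_lift S (stage S X k).p n e f' l hl

/-- The terms of the resolution are projective objects. -/
theorem projective_res_X' (n : ℤ) : Projective ((res S X).X n) := by
  refine ⟨fun {E Y} f e _ => ?_⟩
  let D : ℕ → Type u := fun k => { l : (stage S X k).P.X n ⟶ E // l ≫ e = (resι S X k).f n ≫ f }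
  have hw : ∀ k, (inclS S X k).f n ≫ (resι S X (k + 1)).f n = (resι S X k).f n := fun k => by
    rw [← HomologicalComplex.comp_f, inclS_resι]
  let r : ∀ k, D (k + 1) → D k := fun k l =>
    ⟨(inclS S X k).f n ≫ l.1, by rw [Category.assoc, l.2, ← Category.assoc, hw]⟩
  have hr : ∀ k, Function.Surjective (r k) := by
    intro k l
    obtain ⟨l', h1, h2⟩ := exists_extend_lift' S X k n e ((resι S X (k + 1)).f n ≫ f) l.1 (by
      rw [l.2, ← Category.assoc, hw])
    exact ⟨⟨l', h1⟩, Subtype.ext h2⟩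
  have d0 : D 0 := ⟨0, (isZero_zero_X n).eq_of_src _ _⟩
  obtain ⟨d, -, hd⟩ := exists_compatible r hr d0
  have hd' : ∀ k, (inclS S X k).f n ≫ (d (k + 1)).1 = (d k).1 := fun k => congr(($(hd k)).1)
  refine ⟨descX S X n (fun k => (d k).1) hd', ?_⟩
  apply hom_ext_X
  intro k
  rw [resι_descX_assoc]
  exact (d k).2

theorem projective_res_X (n : ℤ) : Module.Projective A ((res S X).X n) :=
  have := projective_res_X' S X n
  ModuleCat.projective_of_module_projective _

end projective

section main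
variable {A : Type u} [Ring A]

/-- Every complex of modules has a K-projective resolution with projective terms. -/
theorem exists_resolution (X : Cx A) : ∃ (P : Cx A) (f : P ⟶ X), QuasiIso f ∧ P.IsKProjective ∧
    ∀ n, Module.Projective A (P.X n) :=
  ⟨res (fun _ => True) X, resMap _ X,
    quasiIso_resMap _ X (fun _ hn => (hn trivial).elim) (fun _ hn => (hn trivial).elim),
    isKProjective_res _ X, projective_res_X _ X⟩

/-- Every bounded above complex of modules has a bounded above K-projective resolution with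
projective terms. -/
theorem exists_resolution_above (X : Cx A) (b : ℤ) (hX : ∀ n, b < n → IsZero (X.X n)) :
    ∃ (P : Cx A) (f : P ⟶ X), QuasiIso f ∧ P.IsKProjective ∧
      (∀ n, Module.Projective A (P.X n)) ∧ ∀ n, b < n → IsZero (P.X n) :=
  ⟨res (fun n => n ≤ b) X, resMap _ X,
    quasiIso_resMap _ X (fun n hn => by omega) (fun n hn => hX n (by omega)),
    isKProjective_res _ X, projective_res_X _ X, fun n hn => isZero_res_X _ X n (by omega)⟩

end main

end Groth.Agent.Lib.Helper36.KP
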