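import Mathlib
import Groth.Agent.Lib.Helper36.KProjHtpy
import Groth.Agent.Lib.Helper36.KanAdjunction

/-!
Helper (helper36): the localization functor `Qh : K(A) ⥤ D(A)` has a left adjoint (K-projective
resolutions), and consequently left derived functors (right Kan extensions along `Qh`) are computed
on K-projective complexes.
-/

set_option autoImplicit false
universe u

open CategoryTheory CategoryTheory.Limits CochainComplex DerivedCategory

attribute [local instance] HasDerivedCategory.standard

namespace Groth.Agent.Lib.Helper36.LT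

open Groth.Agent.Lib.Helper36.KP

variable {A : Type u} [Ring A]

/-- The homotopy category of complexes of `A`-modules. -/
abbrev KA (A : Type u) [Ring A] : Type (u + 1) :=
  HomotopyCategory (ModuleCat.{u} A) (ComplexShape.up ℤ)

/-- The derived category of `A`-modules. -/
abbrev DA (A : Type u) [Ring A] : Type (u + 1) := DerivedCategory (ModuleCat.{u} A)

/-- The image in the homotopy category. -/
noncomputable abbrev toK (P : Cx A) : KA A := (HomotopyCategory.quotient _ _).obj P

/-- A morphism between the images of K-projective complexes in `K(A)` which becomes an isomorphism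
in `D(A)` is an isomorphism. -/
theorem isIso_of_isIso_Qh_map {P P' : Cx A} [P.IsKProjective] [P'.IsKProjective]
    (g : toK P ⟶ toK P') (h : IsIso (Qh.map g)) : IsIso g := by
  obtain ⟨ψ, hψ⟩ := (IsKProjective.Qh_map_bijective P' (toK P)).surjective (inv (Qh.map g))
  refine ⟨ψ, ?_, ?_⟩
  · apply (IsKProjective.Qh_map_bijective P (toK P)).injective
    rw [Functor.map_comp, hψ, IsIso.hom_inv_id, CategoryTheory.Functor.map_id]
  · apply (IsKProjective.Qh_map_bijective P' (toK P')).injective
    rw [Functor.map_comp, hψ, IsIso.inv_hom_id, CategoryTheory.Functor.map_id]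

/-- Resolution data for an object of the derived category. -/
structure ResData (Y : DA A) where
  /-- the resolving complex -/
  P : Cx A
  /-- it is K-projective -/
  kproj : P.IsKProjective
  /-- the comparison isomorphism -/
  iso : Y ≅ Qh.obj (toK P)

lemma nonempty_resData (Y : DA A) : Nonempty (ResData Y) := by
  obtain ⟨P, f, hf, hP, -⟩ := exists_resolution (Q.objPreimage Y)
  exact ⟨⟨P, hP, (Q.objObjPreimageIso Y).symm ≪≫ (asIso (Q.map f)).symm ≪≫
    ((quotientCompQhIso (ModuleCat.{u} A)).app P).symm⟩⟩

/-- A choice of resolution data. -/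
noncomputable def resData (Y : DA A) : ResData Y := (nonempty_resData Y).some

instance (Y : DA A) : (resData Y).P.IsKProjective := (resData Y).kproj

/-- The hom-set bijection of the adjunction. -/
noncomputable def resEquiv (Y : DA A) (Z : KA A) :
    (toK (resData Y).P ⟶ Z) ≃ (Y ⟶ Qh.obj Z) :=
  (Equiv.ofBijective _ (IsKProjective.Qh_map_bijective (resData Y).P Z)).trans
    (Iso.homFromEquiv (resData Y).iso).symm

lemma resEquiv_apply (Y : DA A) (Z : KA A) (g : toK (resData Y).P ⟶ Z) :
    resEquiv Y Z g = (resData Y).iso.hom ≫ Qh.map g := rfl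

lemma resEquiv_comp (X : DA A) (Y Y' : KA A) (g : Y ⟶ Y') (h : toK (resData X).P ⟶ Y) :
    resEquiv X Y' (h ≫ g) = resEquiv X Y h ≫ Qh.map g := by
  rw [resEquiv_apply, resEquiv_apply, Functor.map_comp, Category.assoc]

/-- The left adjoint of `Qh`. -/
noncomputable def resFunctor : DA A ⥤ KA A :=
  Adjunction.leftAdjointOfEquiv (G := Qh) (F_obj := fun Y : DA A => toK (resData Y).P)
    resEquiv resEquiv_comp

/-- `resFunctor ⊣ Qh`. -/
noncomputable def resAdj : resFunctor (A := A) ⊣ Qh :=
  Adjunction.adjunctionOfEquivLeft (G := Qh) (F_obj := fun Y : DA A => toK (resData Y).P)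
    resEquiv resEquiv_comp

lemma resAdj_counit_app (Z : KA A) :
    (resAdj (A := A)).counit.app Z = (resEquiv (Qh.obj Z) Z).symm (𝟙 _) :=
  Adjunction.adjunctionOfEquivLeft_counit_app (G := Qh)
    (F_obj := fun Y : DA A => toK (resData Y).P) resEquiv resEquiv_comp Z

/-- The counit of the adjunction is an isomorphism at K-projective complexes. -/
instance isIso_resAdj_counit_app (P : Cx A) [P.IsKProjective] :
    IsIso ((resAdj (A := A)).counit.app (toK P)) := by
  rw [resAdj_counit_app]
  set ε : toK (resData (Qh.obj (toK P))).P ⟶ toK P := (resEquiv (Qh.obj (toK P)) (toK P)).symm (𝟙 _)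
    with hε
  have h2 : (resData (Qh.obj (toK P))).iso.hom ≫ Qh.map ε = 𝟙 _ := by
    rw [← resEquiv_apply, hε, Equiv.apply_symm_apply]
  have h3 : IsIso (Qh.map ε) := by
    have : IsIso ((resData (Qh.obj (toK P))).iso.hom ≫ Qh.map ε) := by
      rw [h2]
      infer_instance
    exact IsIso.of_isIso_comp_left (resData (Qh.obj (toK P))).iso.hom _
  exact isIso_of_isIso_Qh_map (P := (resData (Qh.obj (toK P))).P) ε h3

/-- **Left derived functors are computed on K-projective complexes.** -/
theorem isIso_counit_app_of_isKProjective {H : Type*} [Category H] (F : KA A ⥤ H)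
    (LF : DA A ⥤ H) (α : Qh ⋙ LF ⟶ F)
    [LF.IsLeftDerivedFunctor α (HomotopyCategory.quasiIso (ModuleCat.{u} A) (ComplexShape.up ℤ))]
    (P : Cx A) [P.IsKProjective] : IsIso (α.app (toK P)) := by
  have := Functor.IsLeftDerivedFunctor.isRightKanExtension LF α
    (HomotopyCategory.quasiIso (ModuleCat.{u} A) (ComplexShape.up ℤ))
  exact KanAdj.isIso_app_of_isIso_counit (resAdj (A := A)) LF α (toK P)

end Groth.Agent.Lib.Helper36.LT
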