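import Mathlib
import Groth.Prelude.Def_DDual2
import Groth.Agent.Lib.Helper12.DRingFlatAcyclic
import Groth.Agent.Lib.Helper12.DRingFlatCone

/-!
Helper (helper36): tensor-like functors preserve acyclicity of bounded above acyclic complexes of
flat modules, hence preserve quasi-isomorphisms between bounded above complexes of flat modules.
-/

set_option autoImplicit false
universe u

open CategoryTheory CategoryTheory.Limits CochainComplex HomotopyCategory MonoidalCategory

namespace Groth.Agent.Lib.Helper36.FT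

open Groth.Agent.Lib.Helper12 DRing

variable {A B : Type u} [CommRing A] [CommRing B]

/-- A functor behaving like `- ⊗ T` on short exact sequences. -/
structure TensorLike (G : ModuleCat.{u} A ⥤ ModuleCat.{u} B) : Prop where
  surj : ∀ {M N : ModuleCat.{u} A} (f : M ⟶ N), Function.Surjective f.hom →
    Function.Surjective (G.map f).hom
  exact : ∀ {M N P : ModuleCat.{u} A} (g : M ⟶ N) (f : N ⟶ P), Function.Exact g.hom f.hom →
    Function.Surjective f.hom → Function.Exact (G.map g).hom (G.map f).hom
  inj : ∀ {M N P : ModuleCat.{u} A} (g : M ⟶ N) (f : N ⟶ P), Function.Injective g.hom →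
    Function.Surjective f.hom → Function.Exact g.hom f.hom → Module.Flat A P →
    Function.Injective (G.map g).hom

lemma tensorLike_tensorRight (T : ModuleCat.{u} A) : TensorLike (tensorRight T) where
  surj f hf := by
    show Function.Surjective (f ▷ T).hom
    rw [ModuleCat.hom_whiskerRight]
    exact LinearMap.rTensor_surjective T hf
  exact g f hgf hf := by
    show Function.Exact (g ▷ T).hom (f ▷ T).hom
    rw [ModuleCat.hom_whiskerRight, ModuleCat.hom_whiskerRight]
    exact rTensor_exact T hgf hf
  inj g f hg hf hgf hP := by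
    show Function.Injective (g ▷ T).hom
    rw [ModuleCat.hom_whiskerRight, ← LinearMap.lTensor_inj_iff_rTensor_inj]
    exact LinearMap.lTensor_injective_of_exact_of_flat f.hom hf g.hom hg hgf T

lemma tensorLike_extendScalars (φ : A →+* B) :
    TensorLike (ModuleCat.extendScalars.{u, u, u} φ) where
  surj {M N} f hf := by
    have h1 : ⇑((ModuleCat.extendScalars.{u, u, u} φ).map f).hom =
      ⇑(LinearMap.lTensor ((ModuleCat.restrictScalars φ).obj (ModuleCat.of B B)) f.hom) := rfl
    rw [h1]
    exact LinearMap.lTensor_surjective _ hf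
  exact {M N P} g f hgf hf := by
    have h1 : ⇑((ModuleCat.extendScalars.{u, u, u} φ).map f).hom =
      ⇑(LinearMap.lTensor ((ModuleCat.restrictScalars φ).obj (ModuleCat.of B B)) f.hom) := rfl
    have h2 : ⇑((ModuleCat.extendScalars.{u, u, u} φ).map g).hom =
      ⇑(LinearMap.lTensor ((ModuleCat.restrictScalars φ).obj (ModuleCat.of B B)) g.hom) := rfl
    rw [h1, h2]
    exact lTensor_exact _ hgf hf
  inj {M N P} g f hg hf hgf hP := by
    have h2 : ⇑((ModuleCat.extendScalars.{u, u, u} φ).map g).hom =
      ⇑(LinearMap.lTensor ((ModuleCat.restrictScalars φ).obj (ModuleCat.of B B)) g.hom) := rfl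
    rw [h2]
    exact LinearMap.lTensor_injective_of_exact_of_flat f.hom hf g.hom hg hgf _

/-- Tensor-like functors preserve acyclicity of bounded above acyclic complexes of flat modules. -/
theorem exactAt_map (G : ModuleCat.{u} A ⥤ ModuleCat.{u} B) [G.Additive] (hG : TensorLike G)
    (C : Cx A) (hac : ∀ i, C.ExactAt i) (b : ℤ) (hb : VanishesAbove C b)
    (hfl : ∀ i, Module.Flat A (C.X i)) (i : ℤ) :
    ((G.mapHomologicalComplex (ComplexShape.up ℤ)).obj C).ExactAt i := by
  obtain ⟨j, rfl⟩ : ∃ j, i = j + 1 := ⟨i - 1, by omega⟩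
  rw [HomologicalComplex.exactAt_iff' _ j (j + 1) (j + 1 + 1) (by simp) (by simp),
    ShortComplex.moduleCat_exact_iff]
  intro z' hz
  obtain ⟨z, rfl⟩ : ∃ z : G.obj (C.X (j + 1)), z = z' := ⟨z', rfl⟩
  have hz' : (G.map (C.d (j + 1) (j + 1 + 1))).hom z = 0 := hz
  let ι : ∀ k, ModuleCat.of A (Zc C k) ⟶ C.X k := fun k => ModuleCat.ofHom (Zc C k).subtype
  let π : ∀ k, C.X k ⟶ ModuleCat.of A (Zc C (k + 1)) := fun k => ModuleCat.ofHom (dToZc C k)
  have hπι : ∀ k, π k ≫ ι (k + 1) = C.d k (k + 1) := fun k => by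
    ext x
    rfl
  have hπs : ∀ k, Function.Surjective (π k).hom := fun k => dToZc_surjective C k (hac _)
  have hex : ∀ k, Function.Exact (ι k).hom (π k).hom := by
    intro k x
    constructor
    · intro hx
      have hx' : (C.d k (k + 1)).hom x = 0 := congrArg Subtype.val hx
      exact ⟨⟨x, hx'⟩, rfl⟩
    · rintro ⟨y, rfl⟩
      exact Subtype.ext y.2
  have hflZ : ∀ k, Module.Flat A (Zc C k) := fun k =>
    flat_Zc C hac b hb (b - k + 1).toNat k (by omega) (fun j _ => hfl j)
  have hinj : Function.Injective (G.map (ι (j + 1 + 1))).hom :=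
    hG.inj (ι (j + 1 + 1)) (π (j + 1 + 1)) Subtype.val_injective (hπs _) (hex _) (hflZ _)
  have h1 : (G.map (π (j + 1))).hom z = 0 := by
    apply hinj
    rw [map_zero]
    have : G.map (C.d (j + 1) (j + 1 + 1)) = G.map (π (j + 1)) ≫ G.map (ι (j + 1 + 1)) := by
      rw [← G.map_comp, hπι]
    rw [this] at hz'
    exact hz'
  obtain ⟨y, hy⟩ := (hG.exact (ι (j + 1)) (π (j + 1)) (hex _) (hπs _) z).mp h1
  obtain ⟨w, hw⟩ := hG.surj (π j) (hπs j) y
  refine ⟨w, ?_⟩
  show (G.map (C.d j (j + 1))).hom w = z
  rw [← hπι j, G.map_comp]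
  show (G.map (ι (j + 1))).hom ((G.map (π j)).hom w) = z
  rw [hw, hy]

/-- A morphism of complexes with acyclic mapping cone is a quasi-isomorphism. -/
theorem quasiIso_of_exactAt_mappingCone {P X : Cx B} (f : P ⟶ X)
    (hex : ∀ i : ℤ, (mappingCone f).ExactAt i) : QuasiIso f := by
  have h2 : (subcategoryAcyclic (ModuleCat.{u} B)) ((HomotopyCategory.quotient _ _).obj
      (mappingCone f)) := (quotient_obj_mem_subcategoryAcyclic_iff_exactAt _).mpr hex
  have h1 : HomotopyCategory.quasiIso _ _ ((HomotopyCategory.quotient _ _).map f) := by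
    rw [quasiIso_eq_trW_subcategoryAcyclic]
    exact ((subcategoryAcyclic (ModuleCat.{u} B)).trW_iff_of_distinguished _
      (mappingCone_triangleh_distinguished f)).mpr h2
  exact (quotient_map_mem_quasiIso_iff f).mp h1

/-- Tensor-like functors preserve quasi-isomorphisms between bounded above complexes of flat
modules. -/
theorem quasiIso_map (G : ModuleCat.{u} A ⥤ ModuleCat.{u} B) [G.Additive] (hG : TensorLike G)
    {P E : Cx A} (f : P ⟶ E) [QuasiIso f] (b : ℤ) (hPb : VanishesAbove P b)
    (hEb : VanishesAbove E b) (hP : ∀ i, Module.Flat A (P.X i)) (hE : ∀ i, Module.Flat A (E.X i)) :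
    QuasiIso ((G.mapHomologicalComplex (ComplexShape.up ℤ)).map f) := by
  apply quasiIso_of_exactAt_mappingCone
  intro i
  have h1 := exactAt_map G hG (mappingCone f) (exactAt_mappingCone_of_quasiIso f) b
    (fun j hj => vanishesAbove_cone f hPb hEb j (by
      have := max_le (show b - 1 ≤ b by omega) (le_refl b)
      omega))
    (termwise_cone (flatP A) f hP hE) i
  exact (_root_.exactAt_iff_of_quasiIsoAt
    (mappingCone.mapHomologicalComplexIso f G).hom i).mp h1

end Groth.Agent.Lib.Helper36.FT
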