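import Mathlib
import Groth.Agent.Lib.Helper32.TwoTermRep

/-!
Helper (helper36): for a projective module `P` and any `Y : D(R)`, the map
`Hom_{D(R)}(P[0], Y) → Hom_R(P, H^0(Y))`, `φ ↦ H^0(φ)` is bijective (`Φ_bijective`), naturally in
`P` and `Y`.
-/

set_option autoImplicit false
universe u
open CategoryTheory CategoryTheory.Limits

namespace Groth.Agent.Lib.Helper36.HSP
open Pretriangulated DerivedCategory
open Groth.Agent.S14388 (tt eq_zero_of_comp_mor₁)
open Groth.Agent.S0973 (isIso_homologyMap_truncLTι isIso_homologyMap_truncGEπ)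
open Groth.Agent.Lib.Helper32.TwoTermRep (hom_single_projective_eq_zero)

attribute [local instance] HasDerivedCategory.standard

variable {R : Type u} [CommRing R]

/-- The map `Hom_{D(R)}(P[0], Y) → Hom_R(P, H^0(Y))`. -/
noncomputable def Φ (P : ModuleCat.{u} R) (Y : Dual.D R)
    (φ : (singleFunctor (ModuleCat.{u} R) 0).obj P ⟶ Y) :
    P ⟶ (homologyFunctor (ModuleCat.{u} R) 0).obj Y :=
  (singleFunctorCompHomologyFunctorIso (ModuleCat.{u} R) 0).inv.app P ≫
    (homologyFunctor (ModuleCat.{u} R) 0).map φ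

lemma Φ_comp (P : ModuleCat.{u} R) {Y Y' : Dual.D R}
    (φ : (singleFunctor (ModuleCat.{u} R) 0).obj P ⟶ Y) (a : Y ⟶ Y') :
    Φ P Y' (φ ≫ a) = Φ P Y φ ≫ (homologyFunctor (ModuleCat.{u} R) 0).map a := by
  simp only [Φ, Functor.map_comp, Category.assoc]

lemma Φ_precomp {P P' : ModuleCat.{u} R} (u : P' ⟶ P) (Y : Dual.D R)
    (φ : (singleFunctor (ModuleCat.{u} R) 0).obj P ⟶ Y) :
    Φ P' Y ((singleFunctor (ModuleCat.{u} R) 0).map u ≫ φ) = u ≫ Φ P Y φ := by
  have := (singleFunctorCompHomologyFunctorIso (ModuleCat.{u} R) 0).inv.naturality u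
  simp only [Functor.id_map, Functor.comp_map] at this
  simp only [Φ, Functor.map_comp]
  rw [← Category.assoc, ← this, Category.assoc]

lemma Φ_add (P : ModuleCat.{u} R) (Y : Dual.D R)
    (φ ψ : (singleFunctor (ModuleCat.{u} R) 0).obj P ⟶ Y) :
    Φ P Y (φ + ψ) = Φ P Y φ + Φ P Y ψ := by
  simp only [Φ, Functor.map_add, Preadditive.comp_add]

/-- Step (i): the case of a module in degree `0`. -/
lemma Φ_bijective_single (P M : ModuleCat.{u} R) :
    Function.Bijective (Φ P ((singleFunctor (ModuleCat.{u} R) 0).obj M : Dual.D R)) := by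
  have hnat : ∀ g : P ⟶ M, Φ P ((singleFunctor (ModuleCat.{u} R) 0).obj M : Dual.D R)
      ((singleFunctor (ModuleCat.{u} R) 0).map g) =
      g ≫ (singleFunctorCompHomologyFunctorIso (ModuleCat.{u} R) 0).inv.app M := by
    intro g
    have := (singleFunctorCompHomologyFunctorIso (ModuleCat.{u} R) 0).inv.naturality g
    simp only [Functor.id_map, Functor.comp_map] at this
    rw [Φ, this]
  constructor
  · intro φ ψ h
    obtain ⟨g, rfl⟩ := (singleFunctor (ModuleCat.{u} R) 0).map_surjective φ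
    obtain ⟨g', rfl⟩ := (singleFunctor (ModuleCat.{u} R) 0).map_surjective ψ
    rw [hnat, hnat] at h
    have h' := congrArg
      (fun k => k ≫ (singleFunctorCompHomologyFunctorIso (ModuleCat.{u} R) 0).hom.app M) h
    simp only [Category.assoc, Iso.inv_hom_id_app, Functor.id_obj] at h'
    rw [Category.comp_id, Category.comp_id] at h'
    rw [h']
  · intro g
    refine ⟨(singleFunctor (ModuleCat.{u} R) 0).map
      (g ≫ (singleFunctorCompHomologyFunctorIso (ModuleCat.{u} R) 0).hom.app M), ?_⟩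
    rw [hnat, Category.assoc, Iso.hom_inv_id_app]
    exact Category.comp_id g

/-- Transport along an isomorphism of the target. -/
lemma Φ_bijective_of_iso (P : ModuleCat.{u} R) {Y Y' : Dual.D R} (e : Y ≅ Y')
    (h : Function.Bijective (Φ P Y')) : Function.Bijective (Φ P Y) := by
  have : Φ P Y = (fun g => g ≫ (homologyFunctor (ModuleCat.{u} R) 0).map e.inv) ∘ Φ P Y' ∘
      (fun φ => φ ≫ e.hom) := by
    funext φ
    simp only [Function.comp_apply]
    rw [← Φ_comp, Category.assoc, Iso.hom_inv_id, Category.comp_id]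
  rw [this]
  refine Function.Bijective.comp ?_ (Function.Bijective.comp h ?_)
  · constructor
    · intro a b hab
      exact (cancel_mono _).mp hab
    · intro g
      exact ⟨g ≫ (homologyFunctor (ModuleCat.{u} R) 0).map e.hom, by
        show (g ≫ (homologyFunctor (ModuleCat.{u} R) 0).map e.hom) ≫
          (homologyFunctor (ModuleCat.{u} R) 0).map e.inv = g
        rw [Category.assoc, ← Functor.map_comp, Iso.hom_inv_id, CategoryTheory.Functor.map_id,
          Category.comp_id]⟩
  · constructor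
    · intro a b hab
      exact (cancel_mono _).mp hab
    · intro g
      exact ⟨g ≫ e.inv, by simp⟩

/-- Step (ii): objects concentrated in degree `0`. -/
lemma Φ_bijective_of_isGE_of_isLE (P : ModuleCat.{u} R) (Y : Dual.D R) [Y.IsGE 0] [Y.IsLE 0] :
    Function.Bijective (Φ P Y) := by
  obtain ⟨M, ⟨e⟩⟩ := exists_iso_singleFunctor_obj_of_isGE_of_isLE Y 0
  exact Φ_bijective_of_iso P e (Φ_bijective_single P M)

lemma bijective_comp_of_isIso {X Y Z : ModuleCat.{u} R} (a : Y ⟶ Z) [IsIso a] :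
    Function.Bijective (fun g : X ⟶ Y => g ≫ a) := by
  constructor
  · intro g g' h
    have h' := congrArg (fun k => k ≫ inv a) h
    simpa using h'
  · intro k
    exact ⟨k ≫ inv a, by simp⟩

/-- Step (iii): objects of `D^{≤ 0}`. -/
lemma Φ_bijective_of_isLE (P : ModuleCat.{u} R) [Module.Projective R P] (Z : Dual.D R)
    [Z.IsLE 0] : Function.Bijective (Φ P Z) := by
  let t := tt (ModuleCat.{u} R)
  let W := (t.truncGE 0).obj Z
  have : W.IsLE 0 := inferInstanceAs (t.IsLE ((t.truncGE 0).obj Z) 0)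
  have : W.IsGE 0 := inferInstanceAs (t.IsGE ((t.truncGE 0).obj Z) 0)
  have hW := Φ_bijective_of_isGE_of_isLE P W
  have hT := t.triangleLTGE_distinguished 0 Z
  have iπ := isIso_homologyMap_truncGEπ Z 0 0 le_rfl
  have h1 : t.IsLE ((t.truncLT 0).obj Z) (-1) :=
    inferInstanceAs (t.IsLE ((t.truncLT 0).obj Z) (0 - 1))
  have h2 : t.IsLE (((t.truncLT 0).obj Z)⟦(1 : ℤ)⟧) (-2) := t.isLE_shift _ (-1) 1 (-2)
  have h3 : t.IsLE (((t.truncLT 0).obj Z)⟦(1 : ℤ)⟧) (-1) := t.isLE_of_le _ (-2) (-1)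
  have hπ : Function.Bijective
      (fun φ : (singleFunctor (ModuleCat.{u} R) 0).obj P ⟶ Z => φ ≫ (t.truncGEπ 0).app Z) := by
    constructor
    · intro a b hab
      have h0 : (a - b) ≫ ((t.triangleLTGE 0).obj Z).mor₂ = 0 := by
        rw [Preadditive.sub_comp]
        exact sub_eq_zero.mpr hab
      obtain ⟨ψ, hψ⟩ := Triangle.coyoneda_exact₂ _ hT (a - b) h0
      have : ψ = 0 := @hom_single_projective_eq_zero _ _ P _ _ h1 ψ
      rw [this, zero_comp] at hψ
      exact sub_eq_zero.mp hψ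
    · intro q
      have hq : q ≫ ((t.triangleLTGE 0).obj Z).mor₃ = 0 :=
        @hom_single_projective_eq_zero _ _ P _ _ h3 _
      obtain ⟨s, hs⟩ := Triangle.coyoneda_exact₃ _ hT q hq
      exact ⟨s, hs.symm⟩
  have hcomp : (fun g : P ⟶ (homologyFunctor (ModuleCat.{u} R) 0).obj Z =>
        g ≫ (homologyFunctor (ModuleCat.{u} R) 0).map ((t.truncGEπ 0).app Z)) ∘ Φ P Z =
      Φ P W ∘ (fun φ => φ ≫ (t.truncGEπ 0).app Z) := by
    funext φ
    simp only [Function.comp_apply, Φ_comp]
    rfl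
  have h4 : Function.Bijective ((fun g : P ⟶ (homologyFunctor (ModuleCat.{u} R) 0).obj Z =>
        g ≫ (homologyFunctor (ModuleCat.{u} R) 0).map ((t.truncGEπ 0).app Z)) ∘ Φ P Z) := by
    rw [hcomp]
    exact hW.comp hπ
  exact (Function.Bijective.of_comp_iff' (bijective_comp_of_isIso _) _).mp h4

/-- Step (iv): the general case. -/
theorem Φ_bijective (P : ModuleCat.{u} R) [Module.Projective R P] (Y : Dual.D R) :
    Function.Bijective (Φ P Y) := by
  let t := tt (ModuleCat.{u} R)
  let Z := (t.truncLT 1).obj Y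
  have : Z.IsLE 0 := inferInstanceAs (t.IsLE ((t.truncLT 1).obj Y) (1 - 1))
  have hZ := Φ_bijective_of_isLE P Z
  have hT := t.triangleLTGE_distinguished 1 Y
  have iι := isIso_homologyMap_truncLTι Y 1 0 (by omega)
  have hP0 : t.IsLE ((singleFunctor (ModuleCat.{u} R) 0).obj P) 0 := by infer_instance
  have hP1 : t.IsLE (((singleFunctor (ModuleCat.{u} R) 0).obj P)⟦(1 : ℤ)⟧) (-1) :=
    t.isLE_shift _ 0 1 (-1)
  have hG : t.IsGE ((t.truncGE 1).obj Y) 1 := by infer_instance
  have hι : Function.Bijective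
      (fun ψ : (singleFunctor (ModuleCat.{u} R) 0).obj P ⟶ Z => ψ ≫ (t.truncLTι 1).app Y) := by
    constructor
    · intro a b hab
      have h0 : (a - b) ≫ ((t.triangleLTGE 1).obj Y).mor₁ = 0 := by
        rw [Preadditive.sub_comp]
        exact sub_eq_zero.mpr hab
      have := eq_zero_of_comp_mor₁ _ hT (a - b) h0 (fun y => t.zero y (-1) 1)
      exact sub_eq_zero.mp this
    · intro φ
      have hφ : φ ≫ ((t.triangleLTGE 1).obj Y).mor₂ = 0 := t.zero _ 0 1
      obtain ⟨ψ, hψ⟩ := Triangle.coyoneda_exact₂ _ hT φ hφ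
      exact ⟨ψ, hψ.symm⟩
  have hcomp : Φ P Y ∘ (fun ψ => ψ ≫ (t.truncLTι 1).app Y) =
      (fun g : P ⟶ (homologyFunctor (ModuleCat.{u} R) 0).obj Z =>
        g ≫ (homologyFunctor (ModuleCat.{u} R) 0).map ((t.truncLTι 1).app Y)) ∘ Φ P Z := by
    funext ψ
    simp only [Function.comp_apply, Φ_comp]
    rfl
  have h4 : Function.Bijective (Φ P Y ∘ (fun ψ => ψ ≫ (t.truncLTι 1).app Y)) := by
    rw [hcomp]
    exact (bijective_comp_of_isIso _).comp hZ
  exact (Function.Bijective.of_comp_iff _ hι).mp h4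

end Groth.Agent.Lib.Helper36.HSP
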