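import Mathlib
import Groth.Prelude.Def_DDual2

/-!
Helper (helper36): `(A ⊗[S] X) ⊗[A] M ≃ X ⊗[S] M`, naturally in `X`, and the induced transfer of
exactness.
-/

set_option autoImplicit false
universe u

open TensorProduct

namespace Groth.Agent.Lib.Helper36.CBC

/-- Exactness along a ladder of bijections. -/
theorem exact_of_ladder {X₁ X₂ X₃ Y₁ Y₂ Y₃ : Type*} [Zero X₃] [Zero Y₃] (f₁ : X₁ → X₂)
    (f₂ : X₂ → X₃) (g₁ : Y₁ → Y₂) (g₂ : Y₂ → Y₃) (e₁ : X₁ ≃ Y₁) (e₂ : X₂ ≃ Y₂) (e₃ : X₃ ≃ Y₃)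
    (he₃ : e₃ 0 = 0) (h₁ : ∀ x, e₂ (f₁ x) = g₁ (e₁ x)) (h₂ : ∀ x, e₃ (f₂ x) = g₂ (e₂ x))
    (H : Function.Exact f₁ f₂) : Function.Exact g₁ g₂ := by
  intro y
  obtain ⟨x, rfl⟩ := e₂.surjective y
  rw [← h₂, ← he₃, e₃.injective.eq_iff, H x]
  constructor
  · rintro ⟨z, rfl⟩
    exact ⟨e₁ z, (h₁ z).symm⟩
  · rintro ⟨z, hz⟩
    obtain ⟨z, rfl⟩ := e₁.surjective z
    rw [← h₁] at hz
    exact ⟨z, e₂.injective hz⟩

section unbundled

variable (S A : Type u) [CommRing S] [CommRing A] [Algebra S A]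
variable (M : Type u) [AddCommGroup M] [Module A M] [Module S M] [IsScalarTower S A M]
variable (X Y Z : Type u) [AddCommGroup X] [Module S X] [AddCommGroup Y] [Module S Y]
  [AddCommGroup Z] [Module S Z]

/-- `(A ⊗[S] X) ⊗[A] M ≃ X ⊗[S] M`. -/
noncomputable def θ : (A ⊗[S] X) ⊗[A] M ≃+ X ⊗[S] M :=
  (TensorProduct.comm A (A ⊗[S] X) M).toAddEquiv.trans
    ((AlgebraTensorModule.cancelBaseChange S A A M X).toAddEquiv.trans
      (TensorProduct.comm S M X).toAddEquiv)

theorem θ_tmul (a : A) (x : X) (m : M) : θ S A M X ((a ⊗ₜ[S] x) ⊗ₜ[A] m) = x ⊗ₜ[S] (a • m) := rfl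

variable {X Y Z}

theorem θ_naturality (d : X →ₗ[S] Y) (t : (A ⊗[S] X) ⊗[A] M) :
    θ S A M Y (((d.baseChange A).rTensor M) t) = (d.rTensor M) (θ S A M X t) := by
  induction t using TensorProduct.induction_on with
  | zero => simp
  | tmul y m =>
    induction y using TensorProduct.induction_on with
    | zero => simp
    | tmul a x =>
      rw [LinearMap.rTensor_tmul, LinearMap.baseChange_tmul, θ_tmul, θ_tmul, LinearMap.rTensor_tmul]
    | add y₁ y₂ h₁ h₂ =>
      rw [add_tmul, map_add, map_add, h₁, h₂, map_add, map_add]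
  | add t₁ t₂ h₁ h₂ => rw [map_add, map_add, h₁, h₂, map_add, map_add]

theorem exact_rTensor_iff (d₁ : X →ₗ[S] Y) (d₂ : Y →ₗ[S] Z) :
    Function.Exact ((d₁.baseChange A).rTensor M) ((d₂.baseChange A).rTensor M) ↔
      Function.Exact (d₁.rTensor M) (d₂.rTensor M) := by
  constructor
  · intro H
    exact exact_of_ladder _ _ _ _ (θ S A M X).toEquiv (θ S A M Y).toEquiv (θ S A M Z).toEquiv
      (map_zero (θ S A M Z)) (θ_naturality S A M d₁) (θ_naturality S A M d₂) H
  · intro H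
    refine exact_of_ladder _ _ _ _ (θ S A M X).symm.toEquiv (θ S A M Y).symm.toEquiv
      (θ S A M Z).symm.toEquiv (map_zero (θ S A M Z).symm) ?_ ?_ H
    · intro x
      apply (θ S A M Y).injective
      simp [θ_naturality]
    · intro x
      apply (θ S A M Z).injective
      simp [θ_naturality]

end unbundled

section bundled

open CategoryTheory MonoidalCategory

variable {R' R : Type u} [CommRing R'] [CommRing R] (φ : R' →+* R) (M : ModuleCat.{u} R)

/-- Transfer of exactness between `(P ⊗_{R'} R) ⊗_R M` and `P ⊗_{R'} M`. -/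
theorem exact_whiskerRight_extendScalars_iff {X Y Z : ModuleCat.{u} R'} (d₁ : X ⟶ Y) (d₂ : Y ⟶ Z) :
    Function.Exact (((ModuleCat.extendScalars.{u, u, u} φ).map d₁) ▷ M).hom
        (((ModuleCat.extendScalars.{u, u, u} φ).map d₂) ▷ M).hom ↔
      Function.Exact (d₁ ▷ (ModuleCat.restrictScalars φ).obj M).hom
        (d₂ ▷ (ModuleCat.restrictScalars φ).obj M).hom := by
  let _ : Algebra R' R := φ.toAlgebra
  have hst : IsScalarTower R' R ((ModuleCat.restrictScalars φ).obj M) := by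
    constructor
    intro r' r m
    show (φ r' * r) • (show M from m) = φ r' • (r • (show M from m))
    rw [mul_smul]
  rw [ModuleCat.hom_whiskerRight, ModuleCat.hom_whiskerRight, ModuleCat.hom_whiskerRight,
    ModuleCat.hom_whiskerRight]
  exact exact_rTensor_iff R' R ((ModuleCat.restrictScalars φ).obj M) d₁.hom d₂.hom

end bundled

end Groth.Agent.Lib.Helper36.CBC
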