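import Mathlib
import Groth.Prelude.Def_DDual2
import Groth.Agent.Lib.Helper36.CancelBaseChange

/-!
Helper (helper36): `(κ ⊗[A] B) ⊗[B] M ≃ M ⊗[A] κ`, naturally in the `B`-module `M`, and the induced
transfer of exactness.
-/

set_option autoImplicit false
universe u

open TensorProduct

namespace Groth.Agent.Lib.Helper36.FibreCancel

attribute [local instance] Algebra.TensorProduct.rightAlgebra

section unbundled

variable (A κ B : Type u) [CommRing A] [CommRing κ] [CommRing B] [Algebra A κ] [Algebra A B]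
variable (M M' M'' : Type u) [AddCommGroup M] [Module A M] [Module B M] [IsScalarTower A B M]
  [AddCommGroup M'] [Module A M'] [Module B M'] [IsScalarTower A B M']
  [AddCommGroup M''] [Module A M''] [Module B M''] [IsScalarTower A B M'']

/-- `(κ ⊗[A] B) ⊗[B] M ≃ M ⊗[A] κ` -/
noncomputable def θ : (κ ⊗[A] B) ⊗[B] M ≃+ M ⊗[A] κ :=
  (Algebra.IsPushout.cancelBaseChange A κ B (κ ⊗[A] B) M).toAddEquiv.trans
    (TensorProduct.comm A κ M).toAddEquiv

theorem θ_symm_tmul (m : M) (k : κ) :
    (θ A κ B M).symm (m ⊗ₜ[A] k) = (k ⊗ₜ[A] (1 : B)) ⊗ₜ[B] m := by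
  show (Algebra.IsPushout.cancelBaseChange A κ B (κ ⊗[A] B) M).symm
    ((TensorProduct.comm A κ M).symm (m ⊗ₜ[A] k)) = _
  rw [TensorProduct.comm_symm_tmul, Algebra.IsPushout.cancelBaseChange_symm_tmul]
  rfl

variable {M M' M''}

theorem θ_symm_naturality (d : M →ₗ[B] M') (t : M ⊗[A] κ) :
    (θ A κ B M').symm (((d.restrictScalars A).rTensor κ) t) =
      (d.baseChange (κ ⊗[A] B)) ((θ A κ B M).symm t) := by
  induction t using TensorProduct.induction_on with
  | zero => simp
  | tmul m k =>
    rw [LinearMap.rTensor_tmul, θ_symm_tmul, θ_symm_tmul, LinearMap.baseChange_tmul]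
    rfl
  | add t₁ t₂ h₁ h₂ => rw [map_add, map_add, h₁, h₂, map_add, map_add]

theorem exact_baseChange_iff (d₁ : M →ₗ[B] M') (d₂ : M' →ₗ[B] M'') :
    Function.Exact (d₁.baseChange (κ ⊗[A] B)) (d₂.baseChange (κ ⊗[A] B)) ↔
      Function.Exact ((d₁.restrictScalars A).rTensor κ) ((d₂.restrictScalars A).rTensor κ) := by
  constructor
  · intro H
    refine CBC.exact_of_ladder _ _ _ _ (θ A κ B M).toEquiv (θ A κ B M').toEquiv
      (θ A κ B M'').toEquiv (map_zero (θ A κ B M'')) ?_ ?_ H
    · intro x
      apply (θ A κ B M').symm.injective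
      simp [θ_symm_naturality]
    · intro x
      apply (θ A κ B M'').symm.injective
      simp [θ_symm_naturality]
  · intro H
    exact CBC.exact_of_ladder _ _ _ _ (θ A κ B M).symm.toEquiv (θ A κ B M').symm.toEquiv
      (θ A κ B M'').symm.toEquiv (map_zero (θ A κ B M'').symm) (θ_symm_naturality A κ B d₁)
      (θ_symm_naturality A κ B d₂) H

end unbundled

section bundled

open CategoryTheory MonoidalCategory

variable {A B : Type u} [CommRing A] [CommRing B] [Algebra A B] (κ : Type u) [CommRing κ]
  [Algebra A κ]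

/-- Transfer of exactness between `(κ ⊗_A B) ⊗_B P` and `P ⊗_A κ`. -/
theorem exact_extendScalars_includeRight_iff {X Y Z : ModuleCat.{u} B} (d₁ : X ⟶ Y) (d₂ : Y ⟶ Z) :
    Function.Exact ((ModuleCat.extendScalars.{u, u, u}
          (Algebra.TensorProduct.includeRight : B →ₐ[A] κ ⊗[A] B).toRingHom).map d₁).hom
        ((ModuleCat.extendScalars.{u, u, u}
          (Algebra.TensorProduct.includeRight : B →ₐ[A] κ ⊗[A] B).toRingHom).map d₂).hom ↔
      Function.Exact
        (((ModuleCat.restrictScalars (algebraMap A B)).map d₁) ▷ (ModuleCat.of A κ)).hom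
        (((ModuleCat.restrictScalars (algebraMap A B)).map d₂) ▷ (ModuleCat.of A κ)).hom := by
  let iX : Module A X := ((ModuleCat.restrictScalars (algebraMap A B)).obj X).isModule
  let iY : Module A Y := ((ModuleCat.restrictScalars (algebraMap A B)).obj Y).isModule
  let iZ : Module A Z := ((ModuleCat.restrictScalars (algebraMap A B)).obj Z).isModule
  have hX : IsScalarTower A B X := ⟨fun a b x => by
    show (a • b) • x = algebraMap A B a • (b • x)
    rw [Algebra.smul_def, mul_smul]⟩
  have hY : IsScalarTower A B Y := ⟨fun a b x => by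
    show (a • b) • x = algebraMap A B a • (b • x)
    rw [Algebra.smul_def, mul_smul]⟩
  have hZ : IsScalarTower A B Z := ⟨fun a b x => by
    show (a • b) • x = algebraMap A B a • (b • x)
    rw [Algebra.smul_def, mul_smul]⟩
  rw [ModuleCat.hom_whiskerRight, ModuleCat.hom_whiskerRight]
  exact exact_baseChange_iff A κ B d₁.hom d₂.hom

end bundled

end Groth.Agent.Lib.Helper36.FibreCancel
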