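import Mathlib
import Groth.Prelude.Def_DDual2
import Groth.Agent.Lib.Helper36.QhAdjoint

/-!
Helper (helper36): computation of `DRing.LTensor` and `DRing.LBaseChange` on K-projective complexes.
-/

set_option autoImplicit false
universe u

open CategoryTheory CategoryTheory.Limits CochainComplex DerivedCategory MonoidalCategory

attribute [local instance] HasDerivedCategory.standard

namespace Groth.Agent.Lib.Helper36.LT

open Groth.Agent.Lib.Helper36.KP

section generic

variable {A B : Type u} [Ring A] [Ring B] (G : ModuleCat.{u} A ⥤ ModuleCat.{u} B) [G.Additive]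

/-- The functor `K(A) ⥤ D(B)` induced termwise by `G`. -/
noncomputable abbrev mapKh : KA A ⥤ DA B := G.mapHomotopyCategory (ComplexShape.up ℤ) ⋙ Qh

/-- The value of `mapKh` on the image of a complex. -/
noncomputable def mapKhObjIso (P : Cx A) :
    (mapKh G).obj (toK P) ≅ Q.obj ((G.mapHomologicalComplex (ComplexShape.up ℤ)).obj P) :=
  Qh.mapIso ((G.mapHomotopyCategoryFactors (ComplexShape.up ℤ)).app P) ≪≫
    (quotientCompQhIso (ModuleCat.{u} B)).app _

/-- The total left derived functor of `mapKh G` is computed termwise on K-projective complexes. -/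
noncomputable def totalLeftDerivedObjIso
    [(mapKh G).HasLeftDerivedFunctor (HomotopyCategory.quasiIso (ModuleCat.{u} A) (ComplexShape.up ℤ))]
    (P : Cx A) [P.IsKProjective] :
    ((mapKh G).totalLeftDerived Qh
      (HomotopyCategory.quasiIso (ModuleCat.{u} A) (ComplexShape.up ℤ))).obj (Q.obj P) ≅
      Q.obj ((G.mapHomologicalComplex (ComplexShape.up ℤ)).obj P) :=
  have := isIso_counit_app_of_isKProjective (mapKh G) _
    ((mapKh G).totalLeftDerivedCounit Qh
      (HomotopyCategory.quasiIso (ModuleCat.{u} A) (ComplexShape.up ℤ))) P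
  ((mapKh G).totalLeftDerived Qh _).mapIso ((quotientCompQhIso (ModuleCat.{u} A)).app P).symm ≪≫
    asIso (((mapKh G).totalLeftDerivedCounit Qh
      (HomotopyCategory.quasiIso (ModuleCat.{u} A) (ComplexShape.up ℤ))).app (toK P)) ≪≫
    mapKhObjIso G P

end generic

section DRing

variable {A B : Type u} [CommRing A] [CommRing B]

/-- `K ⊗^L_A M` is computed termwise on K-projective complexes. -/
noncomputable def lTensorObjIso (M : ModuleCat.{u} A) [DRing.HasLTensor A M] (P : Cx A)
    [P.IsKProjective] :
    (DRing.LTensor A M).obj (Q.obj P) ≅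
      Q.obj (((tensorRight M).mapHomologicalComplex (ComplexShape.up ℤ)).obj P) :=
  totalLeftDerivedObjIso (tensorRight M) P

/-- `K ⊗^L_A B` is computed termwise on K-projective complexes. -/
noncomputable def lBaseChangeObjIso (φ : A →+* B) [DRing.HasLBaseChange φ] (P : Cx A)
    [P.IsKProjective] :
    (DRing.LBaseChange φ).obj (Q.obj P) ≅
      Q.obj (((ModuleCat.extendScalars.{u, u, u} φ).mapHomologicalComplex
        (ComplexShape.up ℤ)).obj P) :=
  totalLeftDerivedObjIso (ModuleCat.extendScalars.{u, u, u} φ) P

end DRing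

end Groth.Agent.Lib.Helper36.LT
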