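import Mathlib
import Groth.Agent.Lib.Helper36.LeftDerivedCompute
import Groth.Agent.Lib.Helper36.FlatTensorAcyclic

/-!
Helper (helper36): computation of `DRing.LTensor` and `DRing.LBaseChange` on bounded above
complexes of flat modules.
-/

set_option autoImplicit false
universe u

open CategoryTheory CategoryTheory.Limits CochainComplex DerivedCategory MonoidalCategory

attribute [local instance] HasDerivedCategory.standard

namespace Groth.Agent.Lib.Helper36.LT

open Groth.Agent.Lib.Helper36.KP Groth.Agent.Lib.Helper36.FT DRing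

variable {A B : Type u} [CommRing A] [CommRing B]

/-- The total left derived functor of a tensor-like functor is computed termwise on bounded above
complexes of flat modules. -/
theorem nonempty_totalLeftDerivedObjIso_of_flat (G : ModuleCat.{u} A ⥤ ModuleCat.{u} B)
    [G.Additive] (hG : TensorLike G)
    [(mapKh G).HasLeftDerivedFunctor (HomotopyCategory.quasiIso (ModuleCat.{u} A) (ComplexShape.up ℤ))]
    (E : DRing.Cx A) (b : ℤ) (hb : VanishesAbove E b) (hfl : ∀ i, Module.Flat A (E.X i)) :
    Nonempty (((mapKh G).totalLeftDerived Qh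
      (HomotopyCategory.quasiIso (ModuleCat.{u} A) (ComplexShape.up ℤ))).obj (Q.obj E) ≅
      Q.obj ((G.mapHomologicalComplex (ComplexShape.up ℤ)).obj E)) := by
  obtain ⟨P, f, hf, hP, hproj, hPb⟩ := exists_resolution_above E b hb
  have hPfl : ∀ i, Module.Flat A (P.X i) := fun i => by
    have := hproj i
    infer_instance
  have hq : QuasiIso ((G.mapHomologicalComplex (ComplexShape.up ℤ)).map f) :=
    quasiIso_map G hG f b hPb hb hPfl hfl
  exact ⟨(((mapKh G).totalLeftDerived Qh
      (HomotopyCategory.quasiIso (ModuleCat.{u} A) (ComplexShape.up ℤ))).mapIso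
        (asIso (Q.map f))).symm ≪≫ totalLeftDerivedObjIso G P ≪≫
      asIso (Q.map ((G.mapHomologicalComplex (ComplexShape.up ℤ)).map f))⟩

/-- `K ⊗^L_A M` is computed termwise on bounded above complexes of flat modules. -/
theorem nonempty_lTensorObjIso_of_flat (M : ModuleCat.{u} A) [DRing.HasLTensor A M] (E : DRing.Cx A)
    (b : ℤ) (hb : VanishesAbove E b) (hfl : ∀ i, Module.Flat A (E.X i)) :
    Nonempty ((DRing.LTensor A M).obj (Q.obj E) ≅
      Q.obj (((tensorRight M).mapHomologicalComplex (ComplexShape.up ℤ)).obj E)) :=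
  nonempty_totalLeftDerivedObjIso_of_flat (tensorRight M) (tensorLike_tensorRight M) E b hb hfl

/-- `K ⊗^L_A B` is computed termwise on bounded above complexes of flat modules. -/
theorem nonempty_lBaseChangeObjIso_of_flat (φ : A →+* B) [DRing.HasLBaseChange φ] (E : DRing.Cx A)
    (b : ℤ) (hb : VanishesAbove E b) (hfl : ∀ i, Module.Flat A (E.X i)) :
    Nonempty ((DRing.LBaseChange φ).obj (Q.obj E) ≅
      Q.obj (((ModuleCat.extendScalars.{u, u, u} φ).mapHomologicalComplex
        (ComplexShape.up ℤ)).obj E)) :=
  nonempty_totalLeftDerivedObjIso_of_flat (ModuleCat.extendScalars.{u, u, u} φ)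
    (tensorLike_extendScalars φ) E b hb hfl

end Groth.Agent.Lib.Helper36.LT
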