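import Mathlib
import Groth.Prelude.Def_DDual2

/-!
Helper (helper36): a left adjoint whose right adjoint preserves acyclic complexes preserves
K-projective complexes; in particular extension of scalars preserves K-projectivity.
-/

set_option autoImplicit false
universe u

open CategoryTheory CategoryTheory.Limits CochainComplex

namespace Groth.Agent.Lib.Helper36.BCKP

section general

variable {C D : Type*} [Category C] [Category D] [Abelian C] [Abelian D]

/-- A left adjoint whose right adjoint preserves acyclic complexes preserves K-projectivity. -/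
theorem isKProjective_map_of_adjunction (G : C ⥤ D) (F : D ⥤ C) (adj : G ⊣ F) [G.Additive]
    [F.Additive]
    (hF : ∀ L : CochainComplex D ℤ, L.Acyclic →
      ((F.mapHomologicalComplex (ComplexShape.up ℤ)).obj L).Acyclic)
    (P : CochainComplex C ℤ) [P.IsKProjective] :
    CochainComplex.IsKProjective ((G.mapHomologicalComplex (ComplexShape.up ℤ)).obj P) := by
  refine ⟨fun {L} f hL => ?_⟩
  let fc : ∀ n, G.obj (P.X n) ⟶ L.X n := fun n => f.f n
  have hfc : ∀ i j, fc i ≫ L.d i j = G.map (P.d i j) ≫ fc j := fun i j => f.comm i j
  let f' : P ⟶ (F.mapHomologicalComplex (ComplexShape.up ℤ)).obj L :=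
    { f := fun n => adj.homEquiv _ _ (fc n)
      comm' := by
        intro i j _
        show adj.homEquiv _ _ (fc i) ≫ F.map (L.d i j) = P.d i j ≫ adj.homEquiv _ _ (fc j)
        rw [← adj.homEquiv_naturality_right, ← adj.homEquiv_naturality_left, hfc] }
  let ε : (G.mapHomologicalComplex (ComplexShape.up ℤ)).obj
      ((F.mapHomologicalComplex (ComplexShape.up ℤ)).obj L) ⟶ L :=
    { f := fun n => adj.counit.app (L.X n)
      comm' := by
        intro i j _
        show adj.counit.app (L.X i) ≫ L.d i j = G.map (F.map (L.d i j)) ≫ adj.counit.app (L.X j)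
        exact (adj.counit.naturality (L.d i j)).symm }
  have hf : f = (G.mapHomologicalComplex (ComplexShape.up ℤ)).map f' ≫ ε := by
    ext n
    show fc n = G.map (adj.homEquiv _ _ (fc n)) ≫ adj.counit.app (L.X n)
    exact ((adj.homEquiv _ _).symm_apply_apply (fc n)).symm.trans (adj.homEquiv_counit ..)
  have h := IsKProjective.homotopyZero f' (hF L hL)
  have h2 := (G.mapHomotopy h).compRight ε
  exact ⟨(Homotopy.ofEq hf).trans (h2.trans (Homotopy.ofEq (by simp)))⟩

end general

section modules

variable {A B : Type u} [CommRing A] [CommRing B] (φ : A →+* B)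

/-- Restriction of scalars preserves acyclic complexes. -/
theorem acyclic_restrictScalars (L : DRing.Cx B) (hL : L.Acyclic) :
    (((ModuleCat.restrictScalars.{u} φ).mapHomologicalComplex (ComplexShape.up ℤ)).obj L).Acyclic := by
  intro i
  have h := hL i
  rw [HomologicalComplex.exactAt_iff' _ (i - 1) i (i + 1) (by simp) (by simp),
    ShortComplex.ShortExact.moduleCat_exact_iff_function_exact] at h ⊢
  exact h

/-- Extension of scalars preserves K-projective complexes. -/
theorem isKProjective_extendScalars (P : DRing.Cx A) [P.IsKProjective] :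
    CochainComplex.IsKProjective
      (((ModuleCat.extendScalars.{u, u, u} φ).mapHomologicalComplex (ComplexShape.up ℤ)).obj P) :=
  isKProjective_map_of_adjunction _ _ (ModuleCat.extendRestrictScalarsAdj.{u, u, u} φ)
    (acyclic_restrictScalars φ) P

end modules

end Groth.Agent.Lib.Helper36.BCKP
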