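import Mathlib
import Groth.Agent.Lib.Helper36.LeftDerivedCompute

/-!
Helper (helper36): every functor `K(A) ⥤ H` has a left derived functor with respect to
quasi-isomorphisms; in particular `DRing.HasLTensor A M` and `DRing.HasLBaseChange φ` always hold.
-/

set_option autoImplicit false
universe u

open CategoryTheory CategoryTheory.Limits CochainComplex DerivedCategory MonoidalCategory

attribute [local instance] HasDerivedCategory.standard

namespace Groth.Agent.Lib.Helper36.LT

open Groth.Agent.Lib.Helper36.KP

theorem hasLeftDerivedFunctor_of_Qh {A : Type u} [Ring A] {H : Type*} [Category H] (F : KA A ⥤ H) :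
    F.HasLeftDerivedFunctor (HomotopyCategory.quasiIso (ModuleCat.{u} A) (ComplexShape.up ℤ)) := by
  have h1 := KanAdj.isRightKanExtension_of_adjunction (resAdj (A := A)) F
  have : (resFunctor (A := A) ⋙ F).IsLeftDerivedFunctor (KanAdj.β (resAdj (A := A)) (F := F))
      (HomotopyCategory.quasiIso (ModuleCat.{u} A) (ComplexShape.up ℤ)) := ⟨h1⟩
  exact Functor.HasLeftDerivedFunctor.mk' (resFunctor (A := A) ⋙ F)
    (KanAdj.β (resAdj (A := A)) (F := F))

theorem hasLTensor (A : Type u) [CommRing A] (M : ModuleCat.{u} A) : DRing.HasLTensor A M :=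
  hasLeftDerivedFunctor_of_Qh _

theorem hasLBaseChange {A B : Type u} [CommRing A] [CommRing B] (φ : A →+* B) :
    DRing.HasLBaseChange φ :=
  hasLeftDerivedFunctor_of_Qh _

end Groth.Agent.Lib.Helper36.LT
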