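import Mathlib

/-!
Helper (helper36): a flatness criterion: the cokernel of a universally injective map into a flat
module is flat.
-/

set_option autoImplicit false
universe u v

open TensorProduct LinearMap

namespace Groth.Agent.Lib.Helper36.FlatCrit

variable {R : Type u} [CommRing R] {Z P N : Type v} [AddCommGroup Z] [AddCommGroup P]
  [AddCommGroup N] [Module R Z] [Module R P] [Module R N]

/-- In `0 → Z → P → N → 0` with `P` flat, if `(R ⧸ I) ⊗ Z → (R ⧸ I) ⊗ P` is injective for every
ideal `I`, then `N` is flat. -/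
theorem flat_of_injective_lTensor_quotient (ι : Z →ₗ[R] P) (π : P →ₗ[R] N)
    (hπ : Function.Surjective π) (hex : Function.Exact ι π)
    [Module.Flat R P] (h : ∀ I : Ideal R, Function.Injective (ι.lTensor (R ⧸ I))) :
    Module.Flat R N := by
  rw [Module.Flat.iff_rTensor_injective']
  intro I
  rw [injective_iff_map_eq_zero]
  intro x hx
  -- lift `x` to `y ∈ I ⊗ P`
  obtain ⟨y, rfl⟩ := LinearMap.lTensor_surjective I hπ x
  have hb : Function.Injective (I.subtype.rTensor P) :=
    Module.Flat.rTensor_preserves_injective_linearMap _ Subtype.val_injective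
  -- `b y` is killed by `R ◁ π`
  have h1 : (π.lTensor R) ((I.subtype.rTensor P) y) = 0 := by
    have : (π.lTensor R).comp (I.subtype.rTensor P) = (I.subtype.rTensor N).comp (π.lTensor I) := by
      rw [lTensor_comp_rTensor, rTensor_comp_lTensor]
    have h2 := congr($this y)
    simp only [coe_comp, Function.comp_apply] at h2
    rw [h2, hx]
  obtain ⟨z, hz⟩ := (lTensor_exact R hex hπ ((I.subtype.rTensor P) y)).mp h1
  -- the image of `z` in `(R ⧸ I) ⊗ Z` vanishes
  have hcolZ : Function.Exact (I.subtype.rTensor Z) ((Submodule.mkQ I).rTensor Z) :=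
    rTensor_exact Z (LinearMap.exact_subtype_mkQ I) (Submodule.mkQ_surjective I)
  have h3 : ((Submodule.mkQ I).rTensor Z) z = 0 := by
    apply h I
    rw [map_zero]
    have e1 : (ι.lTensor (R ⧸ I)).comp ((Submodule.mkQ I).rTensor Z) =
        ((Submodule.mkQ I).rTensor P).comp (ι.lTensor R) := by
      rw [lTensor_comp_rTensor, rTensor_comp_lTensor]
    have e2 := congr($e1 z)
    simp only [coe_comp, Function.comp_apply] at e2
    rw [e2, hz]
    have e3 : ((Submodule.mkQ I).rTensor P).comp (I.subtype.rTensor P) = 0 := by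
      rw [← rTensor_comp]
      have : (Submodule.mkQ I).comp I.subtype = 0 := by
        ext a
        simp only [coe_comp, Submodule.coe_subtype, Function.comp_apply, Submodule.mkQ_apply,
          LinearMap.zero_apply]
        exact (Submodule.Quotient.mk_eq_zero I).mpr a.2
      rw [this, rTensor_zero]
    exact congr($e3 y)
  obtain ⟨w, hw⟩ := (hcolZ z).mp h3
  -- then `y = (I ◁ ι) w`
  have h4 : (ι.lTensor I) w = y := by
    apply hb
    have e1 : (I.subtype.rTensor P).comp (ι.lTensor I) = (ι.lTensor R).comp (I.subtype.rTensor Z) := by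
      rw [lTensor_comp_rTensor, rTensor_comp_lTensor]
    have e2 := congr($e1 w)
    simp only [coe_comp, Function.comp_apply] at e2
    rw [e2, hw, hz]
  rw [← h4]
  have e5 : (π.lTensor I).comp (ι.lTensor I) = 0 := by
    rw [← lTensor_comp, hex.linearMap_comp_eq_zero, lTensor_zero]
  exact congr($e5 w)

/-- Variant with the tensor factor on the right. -/
theorem flat_of_injective_rTensor_quotient (ι : Z →ₗ[R] P) (π : P →ₗ[R] N)
    (hπ : Function.Surjective π) (hex : Function.Exact ι π)
    [Module.Flat R P] (h : ∀ I : Ideal R, Function.Injective (ι.rTensor (R ⧸ I))) :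
    Module.Flat R N :=
  flat_of_injective_lTensor_quotient ι π hπ hex
    (fun I => (LinearMap.lTensor_inj_iff_rTensor_inj _ _).mpr (h I))

/-- Given `X₁ → X₂ → X₃` exact at `X₂` and remaining exact at `X₂ ⊗ M` after tensoring with any
cyclic module `M`, with `X₃` flat, the cokernel of `X₂ → X₃` is flat. -/
theorem flat_quotient_range {X₁ X₂ X₃ : Type v} [AddCommGroup X₁] [AddCommGroup X₂]
    [AddCommGroup X₃] [Module R X₁] [Module R X₂] [Module R X₃] (d₁ : X₁ →ₗ[R] X₂)
    (d₂ : X₂ →ₗ[R] X₃) [Module.Flat R X₃] (hex : Function.Exact d₁ d₂)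
    (h : ∀ I : Ideal R, Function.Exact (d₁.rTensor (R ⧸ I)) (d₂.rTensor (R ⧸ I))) :
    Module.Flat R (X₃ ⧸ LinearMap.range d₂) := by
  apply flat_of_injective_rTensor_quotient (LinearMap.range d₂).subtype (LinearMap.range d₂).mkQ
    (Submodule.mkQ_surjective _) (LinearMap.exact_subtype_mkQ _)
  intro I
  rw [injective_iff_map_eq_zero]
  intro t ht
  have hsurj : Function.Surjective d₂.rangeRestrict := LinearMap.surjective_rangeRestrict d₂
  obtain ⟨s, rfl⟩ := LinearMap.rTensor_surjective (R ⧸ I) hsurj t
  have h1 : (d₂.rTensor (R ⧸ I)) s = 0 := by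
    have : d₂ = (LinearMap.range d₂).subtype.comp d₂.rangeRestrict := by
      ext x
      rfl
    rw [this, rTensor_comp]
    exact ht
  obtain ⟨r, rfl⟩ := (h I s).mp h1
  have h2 : (d₂.rangeRestrict.rTensor (R ⧸ I)).comp (d₁.rTensor (R ⧸ I)) = 0 := by
    rw [← rTensor_comp]
    have : d₂.rangeRestrict.comp d₁ = 0 := by
      ext x
      exact hex.apply_apply_eq_zero x
    rw [this, rTensor_zero]
  exact congr($h2 r)

end Groth.Agent.Lib.Helper36.FlatCrit
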