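import Mathlib
import Groth.Agent.Lib.Helper36.LeftDerivedFlat
import Groth.Agent.Lib.Helper36.FlatCrit
import Groth.Agent.Lib.Helper12.DRingTruncRep

/-!
Helper (helper36): API for `DRing.LTensor`: unit, cohomology vanishing, flatness of `opcycles`.
-/

set_option autoImplicit false
universe u

open CategoryTheory CategoryTheory.Limits CochainComplex DerivedCategory MonoidalCategory

attribute [local instance] HasDerivedCategory.standard

namespace Groth.Agent.Lib.Helper36.LT

open Groth.Agent.Lib.Helper36.KP Groth.Agent.Lib.Helper36.FT DRing Groth.Agent.Lib.Helper12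

variable {A : Type u} [CommRing A]

/-- The complex `P ⊗ M` (termwise). -/
noncomputable abbrev tensorCx (M : ModuleCat.{u} A) (P : DRing.Cx A) : DRing.Cx A :=
  ((tensorRight M).mapHomologicalComplex (ComplexShape.up ℤ)).obj P

/-- `P ⊗ A ≅ P`. -/
noncomputable def tensorCxUnitIso (P : DRing.Cx A) : tensorCx (𝟙_ (ModuleCat.{u} A)) P ≅ P :=
  (NatIso.mapHomologicalComplex (rightUnitorNatIso (ModuleCat.{u} A)) (ComplexShape.up ℤ)).app P ≪≫
    (Functor.mapHomologicalComplexIdIso (ModuleCat.{u} A) (ComplexShape.up ℤ)).app P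

/-- `K ⊗^L A ≅ K`. -/
theorem nonempty_lTensorUnitIso [DRing.HasLTensor A (𝟙_ (ModuleCat.{u} A))] (K : Dual.D A) :
    Nonempty ((DRing.LTensor A (𝟙_ (ModuleCat.{u} A))).obj K ≅ K) := by
  let d := resData K
  let e₀ : K ≅ Q.obj d.P := d.iso ≪≫ (quotientCompQhIso (ModuleCat.{u} A)).app d.P
  exact ⟨(DRing.LTensor A (𝟙_ (ModuleCat.{u} A))).mapIso e₀ ≪≫ lTensorObjIso _ d.P ≪≫
    Q.mapIso (tensorCxUnitIso d.P) ≪≫ e₀.symm⟩

/-- Cohomology vanishing of `K ⊗^L M` gives exactness of `P ⊗ M` for a K-projective representative. -/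
theorem exactAt_tensorCx_of_subsingleton (M : ModuleCat.{u} A) [DRing.HasLTensor A M]
    (P : DRing.Cx A) [P.IsKProjective] {K : Dual.D A} (e : toD P ≅ K) (i : ℤ)
    (h : Subsingleton (Dual.HD A ((DRing.LTensor A M).obj K) i)) : (tensorCx M P).ExactAt i := by
  apply exactAt_of_isZero_HF
  have e' : (DRing.LTensor A M).obj K ≅ toD (tensorCx M P) :=
    (DRing.LTensor A M).mapIso e.symm ≪≫ lTensorObjIso M P
  exact (@ModuleCat.isZero_of_subsingleton _ _ _ h).of_iso ((HF A i).mapIso e'.symm)

/-- Cohomology of `K ⊗^L M` vanishes where a flat bounded above representative tensored with `M`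
vanishes. -/
theorem subsingleton_HD_lTensor_of_flat (M : ModuleCat.{u} A) [DRing.HasLTensor A M]
    (E : DRing.Cx A) (b : ℤ) (hb : VanishesAbove E b) (hfl : ∀ i, Module.Flat A (E.X i))
    {K : Dual.D A} (e : toD E ≅ K) (i : ℤ) (h : IsZero (E.X i)) :
    Subsingleton (Dual.HD A ((DRing.LTensor A M).obj K) i) := by
  obtain ⟨e₁⟩ := nonempty_lTensorObjIso_of_flat M E b hb hfl
  have e' : (DRing.LTensor A M).obj K ≅ toD (tensorCx M E) :=
    (DRing.LTensor A M).mapIso e.symm ≪≫ e₁
  have h1 : IsZero ((tensorCx M E).X i) := (tensorRight M).map_isZero h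
  exact ModuleCat.subsingleton_of_isZero
    ((isZero_HF_toD_of_isZero_X _ i h1).of_iso ((HF A i).mapIso e'))

/-- **Flatness criterion for the bottom cokernel**: if `P^a` is flat, `P` is exact in degree `a - 1`
and stays so after tensoring with every cyclic module, then `coker (P^{a-1} → P^a)` is flat. -/
theorem flat_opcycles_of_exactAt_tensorCx (P : DRing.Cx A) (a : ℤ) (hfl : Module.Flat A (P.X a))
    (hex : P.ExactAt (a - 1))
    (h : ∀ I : Ideal A, (tensorCx (ModuleCat.of A (A ⧸ I)) P).ExactAt (a - 1)) :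
    Module.Flat A (P.opcycles a) := by
  rw [flat_opcycles_iff_quot]
  apply FlatCrit.flat_quotient_range (P.d (a - 2) (a - 1)).hom (P.d (a - 1) a).hom
  · rw [HomologicalComplex.exactAt_iff' _ (a - 2) (a - 1) a (by simp; omega) (by simp),
      ShortComplex.ShortExact.moduleCat_exact_iff_function_exact] at hex
    exact hex
  · intro I
    have h1 := h I
    rw [HomologicalComplex.exactAt_iff' _ (a - 2) (a - 1) a (by simp; omega) (by simp),
      ShortComplex.ShortExact.moduleCat_exact_iff_function_exact] at h1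
    exact h1

end Groth.Agent.Lib.Helper36.LT
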