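import Mathlib
import Groth.Agent.Lib.Helper36.LTensorAPI
import Groth.Agent.Lib.Helper36.CancelBaseChange
import Groth.Agent.Lib.Helper36.BaseChangeKProj

/-!
Helper (helper36): vanishing of `H^i(P ⊗ N)` for modules killed by a power of an ideal `I`, from
vanishing for modules killed by `I`.
-/

set_option autoImplicit false
universe u

open CategoryTheory CategoryTheory.Limits MonoidalCategory TensorProduct

namespace Groth.Agent.Lib.Helper36.NilTor

open Groth.Agent.Lib.Helper36.LT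

section chase

variable {S : Type*} [Ring S] {A₁ A₂ A₃ B₁ B₂ B₃ C₁ C₂ C₃ : Type*}
  [AddCommGroup A₁] [AddCommGroup A₂] [AddCommGroup A₃] [AddCommGroup B₁] [AddCommGroup B₂]
  [AddCommGroup B₃] [AddCommGroup C₁] [AddCommGroup C₂] [AddCommGroup C₃]
  [Module S A₁] [Module S A₂] [Module S A₃] [Module S B₁] [Module S B₂] [Module S B₃]
  [Module S C₁] [Module S C₂] [Module S C₃]

/-- The middle complex of a short exact sequence of three-term complexes is exact if the outer
ones are. -/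
theorem exact_middle (dA₁ : A₁ →ₗ[S] A₂) (dA₂ : A₂ →ₗ[S] A₃) (dB₁ : B₁ →ₗ[S] B₂)
    (dB₂ : B₂ →ₗ[S] B₃) (dC₁ : C₁ →ₗ[S] C₂) (dC₂ : C₂ →ₗ[S] C₃)
    (α₁ : A₁ →ₗ[S] B₁) (α₂ : A₂ →ₗ[S] B₂) (α₃ : A₃ →ₗ[S] B₃)
    (β₁ : B₁ →ₗ[S] C₁) (β₂ : B₂ →ₗ[S] C₂) (β₃ : B₃ →ₗ[S] C₃)
    (hB : ∀ x, dB₂ (dB₁ x) = 0)
    (cα₁ : ∀ x, α₂ (dA₁ x) = dB₁ (α₁ x)) (cα₂ : ∀ x, α₃ (dA₂ x) = dB₂ (α₂ x))
    (cβ₁ : ∀ x, β₂ (dB₁ x) = dC₁ (β₁ x)) (cβ₂ : ∀ x, β₃ (dB₂ x) = dC₂ (β₂ x))
    (hα₃ : Function.Injective α₃) (hβ₁ : Function.Surjective β₁)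
    (hαβ₂ : Function.Exact α₂ β₂)
    (hA : Function.Exact dA₁ dA₂) (hC : Function.Exact dC₁ dC₂) : Function.Exact dB₁ dB₂ := by
  intro x
  constructor
  · intro hx
    have h1 : dC₂ (β₂ x) = 0 := by rw [← cβ₂, hx, map_zero]
    obtain ⟨c, hc⟩ := (hC _).mp h1
    obtain ⟨b, rfl⟩ := hβ₁ c
    have h2 : β₂ (x - dB₁ b) = 0 := by rw [map_sub, cβ₁, hc, sub_self]
    obtain ⟨a, ha⟩ := (hαβ₂ _).mp h2
    have h3 : α₃ (dA₂ a) = 0 := by rw [cα₂, ha, map_sub, hx, hB, sub_self]
    have h4 : dA₂ a = 0 := hα₃ (by rw [h3, map_zero])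
    obtain ⟨a', rfl⟩ := (hA _).mp h4
    refine ⟨b + α₁ a', ?_⟩
    rw [map_add, ← cα₁, ha]
    abel
  · rintro ⟨y, rfl⟩
    exact hB y

end chase

section ses

variable {S : Type u} [CommRing S] {X₁ X₂ X₃ : Type u} [AddCommGroup X₁] [AddCommGroup X₂]
  [AddCommGroup X₃] [Module S X₁] [Module S X₂] [Module S X₃]

/-- Exactness of `X ⊗ N` from exactness of `X ⊗ N₁` and `X ⊗ (N ⧸ N₁)`, for `X₃` flat. -/
theorem exact_rTensor_of_submodule [Module.Flat S X₃] (d₁ : X₁ →ₗ[S] X₂) (d₂ : X₂ →ₗ[S] X₃)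
    (h0 : d₂.comp d₁ = 0) (N : Type u) [AddCommGroup N] [Module S N] (N₁ : Submodule S N)
    (h₁ : Function.Exact (d₁.rTensor N₁) (d₂.rTensor N₁))
    (h₂ : Function.Exact (d₁.rTensor (N ⧸ N₁)) (d₂.rTensor (N ⧸ N₁))) :
    Function.Exact (d₁.rTensor N) (d₂.rTensor N) := by
  refine exact_middle (d₁.rTensor N₁) (d₂.rTensor N₁) (d₁.rTensor N) (d₂.rTensor N)
    (d₁.rTensor (N ⧸ N₁)) (d₂.rTensor (N ⧸ N₁))
    (N₁.subtype.lTensor X₁) (N₁.subtype.lTensor X₂) (N₁.subtype.lTensor X₃)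
    (N₁.mkQ.lTensor X₁) (N₁.mkQ.lTensor X₂) (N₁.mkQ.lTensor X₃) ?_ ?_ ?_ ?_ ?_ ?_ ?_ ?_ h₁ h₂
  · intro x
    rw [← LinearMap.comp_apply, ← LinearMap.rTensor_comp, h0, LinearMap.rTensor_zero,
      LinearMap.zero_apply]
  · intro x
    rw [← LinearMap.comp_apply, ← LinearMap.comp_apply, LinearMap.lTensor_comp_rTensor,
      LinearMap.rTensor_comp_lTensor]
  · intro x
    rw [← LinearMap.comp_apply, ← LinearMap.comp_apply, LinearMap.lTensor_comp_rTensor,
      LinearMap.rTensor_comp_lTensor]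
  · intro x
    rw [← LinearMap.comp_apply, ← LinearMap.comp_apply, LinearMap.lTensor_comp_rTensor,
      LinearMap.rTensor_comp_lTensor]
  · intro x
    rw [← LinearMap.comp_apply, ← LinearMap.comp_apply, LinearMap.lTensor_comp_rTensor,
      LinearMap.rTensor_comp_lTensor]
  · exact Module.Flat.lTensor_preserves_injective_linearMap N₁.subtype N₁.injective_subtype
  · exact LinearMap.lTensor_surjective X₁ (Submodule.mkQ_surjective N₁)
  · exact lTensor_exact X₂ (LinearMap.exact_subtype_mkQ N₁) (Submodule.mkQ_surjective N₁)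

/-- Induction along the `I`-adic filtration. -/
theorem exact_rTensor_of_pow [Module.Flat S X₃] (d₁ : X₁ →ₗ[S] X₂) (d₂ : X₂ →ₗ[S] X₃)
    (h0 : d₂.comp d₁ = 0) (I : Ideal S)
    (hI : ∀ (N : Type u) [AddCommGroup N] [Module S N], (∀ x ∈ I, ∀ n : N, x • n = 0) →
      Function.Exact (d₁.rTensor N) (d₂.rTensor N)) (k : ℕ) :
    ∀ (N : Type u) [AddCommGroup N] [Module S N], (∀ x ∈ I ^ k, ∀ n : N, x • n = 0) →
      Function.Exact (d₁.rTensor N) (d₂.rTensor N) := by
  induction k with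
  | zero =>
    intro N _ _ hN
    apply hI N
    intro x _ n
    have h1 : n = 0 := by
      have := hN 1 (by simp) n
      rwa [one_smul] at this
    rw [h1, smul_zero]
  | succ k ih =>
    intro N _ _ hN
    let N₁ : Submodule S N := I • (⊤ : Submodule S N)
    apply exact_rTensor_of_submodule d₁ d₂ h0 N N₁
    · apply ih
      rintro x hx ⟨n, hn⟩
      apply Subtype.ext
      show x • n = 0
      refine Submodule.smul_induction_on hn ?_ ?_
      · intro y hy m _
        rw [← mul_smul]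
        exact hN _ (by rw [pow_succ]; exact Ideal.mul_mem_mul hx hy) m
      · intro a b ha hb
        rw [smul_add, ha, hb, add_zero]
    · apply hI
      intro x hx q
      obtain ⟨n, rfl⟩ := Submodule.Quotient.mk_surjective _ q
      rw [← Submodule.Quotient.mk_smul, Submodule.Quotient.mk_eq_zero]
      exact Submodule.smul_mem_smul hx Submodule.mem_top

end ses

section congr

variable {S : Type*} [CommRing S] {X₁ X₂ X₃ : Type*} [AddCommGroup X₁] [AddCommGroup X₂]
  [AddCommGroup X₃] [Module S X₁] [Module S X₂] [Module S X₃]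

/-- Exactness of `- ⊗ T` only depends on the isomorphism class of `T`. -/
theorem exact_rTensor_congr {T T' : Type*} [AddCommGroup T] [Module S T] [AddCommGroup T']
    [Module S T'] (e : T ≃ₗ[S] T') (d₁ : X₁ →ₗ[S] X₂) (d₂ : X₂ →ₗ[S] X₃)
    (h : Function.Exact (d₁.rTensor T) (d₂.rTensor T)) :
    Function.Exact (d₁.rTensor T') (d₂.rTensor T') := by
  refine Function.Exact.of_ladder_linearEquiv_of_exact (e₁ := e.lTensor X₁) (e₂ := e.lTensor X₂)
    (e₃ := e.lTensor X₃) ?_ ?_ h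
  · ext t x
    simp
  · ext t x
    simp

end congr

section surj

variable {R' R : Type u} [CommRing R'] [CommRing R] (φ : R' →+* R)

/-- A module killed by the kernel of a surjection `φ` is a restriction of scalars along `φ`. -/
theorem exists_restrictScalars_equiv (hφ : Function.Surjective φ) (N : Type u) [AddCommGroup N]
    [Module R' N] (hN : ∀ x ∈ RingHom.ker φ, ∀ n : N, x • n = 0) :
    ∃ M : ModuleCat.{u} R, Nonempty (((ModuleCat.restrictScalars φ).obj M) ≃ₗ[R'] N) := by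
  let sm : SMul R N := ⟨fun r n => Function.surjInv hφ r • n⟩
  have hsm : ∀ (c : R') (x : N), (φ c) • x = c • x := by
    intro c x
    show Function.surjInv hφ (φ c) • x = c • x
    have h1 : Function.surjInv hφ (φ c) - c ∈ RingHom.ker φ := by
      rw [RingHom.mem_ker, map_sub, Function.surjInv_eq hφ (φ c), sub_self]
    have h2 := hN _ h1 x
    rwa [sub_smul, sub_eq_zero] at h2
  let inst : Module R N := Function.Surjective.moduleLeft φ hφ hsm
  refine ⟨@ModuleCat.of R _ N _ inst, ⟨?_⟩⟩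
  exact
    { toFun := fun x => x
      invFun := fun x => x
      map_add' := fun _ _ => rfl
      map_smul' := fun c x => hsm c x
      left_inv := fun _ => rfl
      right_inv := fun _ => rfl }

end surj

section main

variable {R' R : Type u} [CommRing R'] [CommRing R] (φ : R' →+* R)

/-- Exactness of `P ⊗ N`, concretely. -/
theorem exactAt_tensorCx_iff (P : DRing.Cx R') (N : ModuleCat.{u} R') (i : ℤ) :
    (tensorCx N P).ExactAt i ↔
      Function.Exact ((P.d (i - 1) i) ▷ N).hom ((P.d i (i + 1)) ▷ N).hom := by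
  rw [HomologicalComplex.exactAt_iff' _ (i - 1) i (i + 1) (by simp) (by simp),
    ShortComplex.ShortExact.moduleCat_exact_iff_function_exact]
  rfl

/-- **Nilpotent thickenings**: if `(P ⊗_{R'} R) ⊗_R M` is exact in degree `i` for every `R`-module
`M`, then `P ⊗_{R'} N` is exact in degree `i` for every `R'`-module `N`. -/
theorem exactAt_tensorCx_of_nilpotent (hφ : Function.Surjective φ)
    (hnil : IsNilpotent (RingHom.ker φ)) (P : DRing.Cx R') (hfl : ∀ n, Module.Flat R' (P.X n))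
    (i : ℤ)
    (h : ∀ M : ModuleCat.{u} R, (tensorCx M (((ModuleCat.extendScalars.{u, u, u}
      φ).mapHomologicalComplex (ComplexShape.up ℤ)).obj P)).ExactAt i)
    (N : ModuleCat.{u} R') : (tensorCx N P).ExactAt i := by
  rw [exactAt_tensorCx_iff, ModuleCat.hom_whiskerRight, ModuleCat.hom_whiskerRight]
  obtain ⟨k, hk⟩ := hnil
  have h0 : (P.d i (i + 1)).hom.comp (P.d (i - 1) i).hom = 0 := by
    rw [← ModuleCat.hom_comp, P.d_comp_d]
    rfl
  have := hfl (i + 1)
  refine exact_rTensor_of_pow (P.d (i - 1) i).hom (P.d i (i + 1)).hom h0 (RingHom.ker φ) ?_ k N ?_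
  · intro N' _ _ hN'
    obtain ⟨M, ⟨e⟩⟩ := exists_restrictScalars_equiv φ hφ N' hN'
    apply exact_rTensor_congr e
    have h1 := h M
    rw [exactAt_tensorCx_iff] at h1
    have h2 := (CBC.exact_whiskerRight_extendScalars_iff φ M (P.d (i - 1) i)
      (P.d i (i + 1))).mp h1
    rw [ModuleCat.hom_whiskerRight, ModuleCat.hom_whiskerRight] at h2
    exact h2
  · intro x hx n
    rw [hk] at hx
    have : x = 0 := hx
    rw [this, zero_smul]

end main

end Groth.Agent.Lib.Helper36.NilTor
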