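import Mathlib
import Groth.Prelude.Def_DDual2
import Groth.Agent.Lib.Helper36.NilpotentTor
import Groth.Agent.Lib.Helper36.BaseChangeKProj
import Groth.Agent.Lib.Helper36.LTensorAPI
import Groth.Agent.Lib.Helper36.HasLeftDerived
import Groth.Agent.Lib.Helper36.KProjHtpy
import Groth.Agent.Lib.Helper12.DRingPCRep
import Groth.Agent.Lib.Helper12.DRingTruncRep

/-!
Helper (helper36): if `K ⊗^L R/I` has no cohomology in positive degrees, neither has `K ⊗^L N` for
`N` killed by a power of `I`.
-/

set_option autoImplicit false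
universe u

open CategoryTheory CategoryTheory.Limits MonoidalCategory DRing

attribute [local instance] HasDerivedCategory.standard

namespace Groth.Agent.Lib.Helper36.PowTor

open Groth.Agent.Lib.Helper36.NilTor Groth.Agent.Lib.Helper36.LT Groth.Agent.Lib.Helper12

section main

variable {R' R : Type u} [CommRing R'] [CommRing R] (φ : R' →+* R)

/-- variant of `exactAt_tensorCx_of_nilpotent` for modules killed by a power of the kernel -/
theorem exactAt_tensorCx_of_pow (hφ : Function.Surjective φ)
    (P : DRing.Cx R') (hfl : ∀ n, Module.Flat R' (P.X n)) (i : ℤ)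
    (h : ∀ M : ModuleCat.{u} R, (tensorCx M (((ModuleCat.extendScalars.{u, u, u}
      φ).mapHomologicalComplex (ComplexShape.up ℤ)).obj P)).ExactAt i)
    (N : ModuleCat.{u} R') (k : ℕ) (hN : ∀ x ∈ (RingHom.ker φ) ^ k, ∀ n : N, x • n = 0) :
    (tensorCx N P).ExactAt i := by
  rw [exactAt_tensorCx_iff, ModuleCat.hom_whiskerRight, ModuleCat.hom_whiskerRight]
  have h0 : (P.d i (i + 1)).hom.comp (P.d (i - 1) i).hom = 0 := by
    rw [← ModuleCat.hom_comp, P.d_comp_d]
    rfl
  have := hfl (i + 1)
  refine exact_rTensor_of_pow (P.d (i - 1) i).hom (P.d i (i + 1)).hom h0 (RingHom.ker φ) ?_ k N hN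
  intro N' _ _ hN'
  obtain ⟨M, ⟨e⟩⟩ := exists_restrictScalars_equiv φ hφ N' hN'
  apply exact_rTensor_congr e
  have h1 := h M
  rw [exactAt_tensorCx_iff] at h1
  have h2 := (CBC.exact_whiskerRight_extendScalars_iff φ M (P.d (i - 1) i)
    (P.d i (i + 1))).mp h1
  rw [ModuleCat.hom_whiskerRight, ModuleCat.hom_whiskerRight] at h2
  exact h2

end main

section above

variable {S : Type u} [CommRing S]

lemma isZero_HF_of_exactAt (E : DRing.Cx S) (i : ℤ) (h : E.ExactAt i) :
    IsZero ((HF S i).obj (toD E)) := by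
  rw [HomologicalComplex.exactAt_iff_isZero_homology] at h
  exact h.of_iso ((DerivedCategory.homologyFunctorFactors (ModuleCat.{u} S) i).app E)

/-- tensoring a K-projective complex, exact above degree `b`, with a module stays exact above
degree `b` -/
theorem exactAt_tensorCx_of_exactAbove (P : DRing.Cx S) [P.IsKProjective] (b : ℤ)
    (hP : ∀ i, b < i → P.ExactAt i) (M : ModuleCat.{u} S) (i : ℤ) (hi : b < i) :
    (tensorCx M P).ExactAt i := by
  have := LT.hasLTensor S M
  obtain ⟨Q, hQb, hQp, ⟨e⟩⟩ := exists_projective_rep (toD P) b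
    (fun j hj => isZero_HF_of_exactAt P j (hP j hj))
  have hfl : ∀ j, Module.Flat S (Q.X j) := fun j => by
    have := hQp j
    infer_instance
  have hs := subsingleton_HD_lTensor_of_flat M Q b hQb hfl e i (hQb i hi)
  exact exactAt_tensorCx_of_subsingleton M P (Iso.refl _) i hs

end above

section quot

variable {R : Type u} [CommRing R] (I : Ideal R)

/-- `R/I` with its usual module structure is the restriction of scalars of the unit `R/I`-module -/
noncomputable def resUnitEquiv :
    ((ModuleCat.restrictScalars (Ideal.Quotient.mk I)).obj (𝟙_ (ModuleCat.{u} (R ⧸ I)))) ≃ₗ[R]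
      (R ⧸ I) where
  toFun x := x
  invFun x := x
  map_add' _ _ := rfl
  map_smul' c x := by
    let y : R ⧸ I := x
    show (Ideal.Quotient.mk I c) * y = c • y
    rw [Algebra.smul_def]
    rfl
  left_inv _ := rfl
  right_inv _ := rfl

/-- exactness of `P ⊗_R R/I` from exactness of the complex `P ⊗ (R/I)` -/
theorem exactAt_extendScalars_of_tensorCx (P : DRing.Cx R) (i : ℤ)
    (h : (tensorCx (ModuleCat.of R (R ⧸ I)) P).ExactAt i) :
    (((ModuleCat.extendScalars.{u, u, u} (Ideal.Quotient.mk I)).mapHomologicalComplex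
      (ComplexShape.up ℤ)).obj P).ExactAt i := by
  refine HomologicalComplex.ExactAt.of_iso ?_ (tensorCxUnitIso _)
  rw [exactAt_tensorCx_iff]
  refine (CBC.exact_whiskerRight_extendScalars_iff (Ideal.Quotient.mk I)
    (𝟙_ (ModuleCat.{u} (R ⧸ I))) (P.d (i - 1) i) (P.d i (i + 1))).mpr ?_
  rw [exactAt_tensorCx_iff] at h
  rw [ModuleCat.hom_whiskerRight, ModuleCat.hom_whiskerRight] at h ⊢
  exact exact_rTensor_congr (resUnitEquiv I).symm _ _ h

end quot

end Groth.Agent.Lib.Helper36.PowTor
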