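import Mathlib

/-!
Helper (helper36): over a local ring, a complex `A → B → C` of finite modules with `C` free which is
exact (in the middle) after tensoring with the residue field is exact, and the cokernel of `B → C`
is free.
-/

set_option autoImplicit false
universe u v

open TensorProduct LinearMap

namespace Groth.Agent.Lib.Helper36.LocalExact

section general

variable {R : Type u} [CommRing R] {X₁ X₂ X₃ : Type v} [AddCommGroup X₁] [AddCommGroup X₂]
  [AddCommGroup X₃] [Module R X₁] [Module R X₂] [Module R X₃]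

/-- If `T ⊗ X₁ → T ⊗ X₂ → T ⊗ X₃` is exact and `d₂ ∘ d₁ = 0`, then `T ⊗ im d₂ → T ⊗ X₃` is
injective. -/
theorem injective_lTensor_range_subtype (T : Type*) [AddCommGroup T] [Module R T]
    (d₁ : X₁ →ₗ[R] X₂) (d₂ : X₂ →ₗ[R] X₃) (h0 : d₂.comp d₁ = 0)
    (h : Function.Exact (d₁.lTensor T) (d₂.lTensor T)) :
    Function.Injective ((LinearMap.range d₂).subtype.lTensor T) := by
  rw [injective_iff_map_eq_zero]
  intro t ht
  have hsurj : Function.Surjective d₂.rangeRestrict := LinearMap.surjective_rangeRestrict d₂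
  obtain ⟨s, rfl⟩ := LinearMap.lTensor_surjective T hsurj t
  have h1 : (d₂.lTensor T) s = 0 := by
    have : d₂ = (LinearMap.range d₂).subtype.comp d₂.rangeRestrict := by
      ext x
      rfl
    rw [this, lTensor_comp]
    exact ht
  obtain ⟨r, rfl⟩ := (h s).mp h1
  have h2 : (d₂.rangeRestrict.lTensor T).comp (d₁.lTensor T) = 0 := by
    rw [← lTensor_comp]
    have : d₂.rangeRestrict.comp d₁ = 0 := by
      ext x
      exact congr($h0 x)
    rw [this, lTensor_zero]
  exact congr($h2 r)

/-- Exactness of `T ⊗ -` only depends on the isomorphism class of `T`. -/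
theorem exact_lTensor_congr {T T' : Type*} [AddCommGroup T] [Module R T] [AddCommGroup T']
    [Module R T'] (e : T ≃ₗ[R] T') (d₁ : X₁ →ₗ[R] X₂) (d₂ : X₂ →ₗ[R] X₃)
    (h : Function.Exact (d₁.lTensor T) (d₂.lTensor T)) :
    Function.Exact (d₁.lTensor T') (d₂.lTensor T') := by
  refine Function.Exact.of_ladder_linearEquiv_of_exact (e₁ := e.rTensor X₁) (e₂ := e.rTensor X₂)
    (e₃ := e.rTensor X₃) ?_ ?_ h
  · ext t x
    simp
  · ext t x
    simp

end general

variable {R : Type u} [CommRing R] [IsLocalRing R] {X₁ X₂ X₃ : Type u} [AddCommGroup X₁]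
  [AddCommGroup X₂] [AddCommGroup X₃] [Module R X₁] [Module R X₂] [Module R X₃]

/-- The cokernel of `d₂` is free. -/
theorem free_quotient_range [Module.Finite R X₂] [Module.Finite R X₃] [Module.Free R X₃]
    (d₁ : X₁ →ₗ[R] X₂) (d₂ : X₂ →ₗ[R] X₃) (h0 : d₂.comp d₁ = 0)
    (h : Function.Exact (d₁.lTensor (IsLocalRing.ResidueField R))
      (d₂.lTensor (IsLocalRing.ResidueField R))) :
    Module.Free R (X₃ ⧸ LinearMap.range d₂) := by
  have : Module.Finite R (LinearMap.range d₂) := Module.Finite.range d₂
  exact Module.free_of_lTensor_residueField_injective (LinearMap.range d₂).subtype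
    (LinearMap.range d₂).mkQ (Submodule.mkQ_surjective _) (LinearMap.exact_subtype_mkQ _)
    (injective_lTensor_range_subtype _ d₁ d₂ h0 h)

/-- The complex is exact. -/
theorem exact_of_exact_lTensor_residueField [Module.Finite R X₂] [Module.Finite R X₃]
    [Module.Free R X₃] (d₁ : X₁ →ₗ[R] X₂) (d₂ : X₂ →ₗ[R] X₃) (h0 : d₂.comp d₁ = 0)
    (h : Function.Exact (d₁.lTensor (IsLocalRing.ResidueField R))
      (d₂.lTensor (IsLocalRing.ResidueField R))) :
    Function.Exact d₁ d₂ := by
  have hfree := free_quotient_range d₁ d₂ h0 h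
  -- `Z = im d₂` is a retract of `X₃`, hence projective
  obtain ⟨σ, hσ⟩ := Module.projective_lifting_property (LinearMap.range d₂).mkQ LinearMap.id
    (Submodule.mkQ_surjective _)
  let r : X₃ →ₗ[R] LinearMap.range d₂ :=
    LinearMap.codRestrict (LinearMap.range d₂) (LinearMap.id - σ.comp (LinearMap.range d₂).mkQ) (by
      intro x
      have := congr($hσ ((LinearMap.range d₂).mkQ x))
      simp only [LinearMap.comp_apply, LinearMap.id_apply] at this
      apply (Submodule.Quotient.mk_eq_zero (LinearMap.range d₂)).mp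
      change (LinearMap.range d₂).mkQ
        ((LinearMap.id - σ.comp (LinearMap.range d₂).mkQ : X₃ →ₗ[R] X₃) x) = 0
      rw [LinearMap.sub_apply, map_sub, LinearMap.id_apply, LinearMap.comp_apply, this, sub_self])
  have hr : r.comp (LinearMap.range d₂).subtype = LinearMap.id := by
    ext ⟨x, hx⟩
    have hx' : (LinearMap.range d₂).mkQ x = 0 := by
      rw [← LinearMap.mem_ker, Submodule.ker_mkQ]
      exact hx
    simp [r, hx']
  have hZproj : Module.Projective R (LinearMap.range d₂) :=
    Module.Projective.of_split (LinearMap.range d₂).subtype r hr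
  -- a section of `X₂ → Z`
  obtain ⟨s, hs⟩ := Module.projective_lifting_property d₂.rangeRestrict LinearMap.id
    (LinearMap.surjective_rangeRestrict d₂)
  let p : X₂ →ₗ[R] X₂ := LinearMap.id - s.comp d₂.rangeRestrict
  have hp_mem : ∀ x, p x ∈ LinearMap.ker d₂ := by
    intro x
    rw [LinearMap.mem_ker]
    have h1 : d₂.rangeRestrict (p x) = 0 := by
      have := congr($hs (d₂.rangeRestrict x))
      simp only [LinearMap.comp_apply, LinearMap.id_apply] at this
      simp [p, this]
    exact congrArg Subtype.val h1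
  have hp_id : ∀ x ∈ LinearMap.ker d₂, p x = x := by
    intro x hx
    have h1 : d₂.rangeRestrict x = 0 := Subtype.ext hx
    simp [p, h1]
  -- Nakayama
  have hKfg : (LinearMap.ker d₂).FG := by
    have : LinearMap.ker d₂ = LinearMap.range p := by
      apply le_antisymm
      · intro x hx
        exact ⟨x, hp_id x hx⟩
      · rintro _ ⟨x, rfl⟩
        exact hp_mem x
    rw [this, LinearMap.range_eq_map]
    exact (Module.Finite.fg_top).map p
  have hle : LinearMap.ker d₂ ≤ LinearMap.range d₁ := by
    apply Submodule.le_of_le_smul_of_le_jacobson_bot hKfg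
      (IsLocalRing.maximalIdeal_le_jacobson (⊥ : Ideal R))
    intro x hx
    have h1 : (d₂.lTensor (IsLocalRing.ResidueField R)) ((1 : IsLocalRing.ResidueField R) ⊗ₜ x) = 0 := by
      rw [LinearMap.lTensor_tmul, LinearMap.mem_ker.mp hx, tmul_zero]
    obtain ⟨t, ht⟩ := (h _).mp h1
    obtain ⟨a, rfl⟩ := TensorProduct.mk_surjective R X₁ (IsLocalRing.ResidueField R)
      Ideal.Quotient.mk_surjective t
    have h2 : TensorProduct.mk R (R ⧸ IsLocalRing.maximalIdeal R) X₂ 1 (x - d₁ a) = 0 := by
      rw [map_sub]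
      have : TensorProduct.mk R (R ⧸ IsLocalRing.maximalIdeal R) X₂ 1 (d₁ a) =
          (d₁.lTensor (IsLocalRing.ResidueField R))
            (TensorProduct.mk R (IsLocalRing.ResidueField R) X₁ 1 a) := rfl
      rw [this, ht]
      exact sub_self _
    have h3 : x - d₁ a ∈ IsLocalRing.maximalIdeal R • (⊤ : Submodule R X₂) := by
      rw [← LinearMap.ker_tensorProductMk]
      exact h2
    have h4 : x - d₁ a ∈ LinearMap.ker d₂ := by
      rw [LinearMap.mem_ker, map_sub, LinearMap.mem_ker.mp hx]
      have := congr($h0 a)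
      simp only [LinearMap.comp_apply, LinearMap.zero_apply] at this
      rw [this, sub_zero]
    have h5 : x - d₁ a ∈ IsLocalRing.maximalIdeal R • LinearMap.ker d₂ := by
      rw [← hp_id _ h4]
      have h6 : p (x - d₁ a) ∈ (IsLocalRing.maximalIdeal R • (⊤ : Submodule R X₂)).map p :=
        Submodule.mem_map_of_mem h3
      rw [Submodule.map_smul''] at h6
      refine Submodule.smul_mono le_rfl ?_ h6
      rintro _ ⟨y, -, rfl⟩
      exact hp_mem y
    have : x = d₁ a + (x - d₁ a) := by abel
    rw [this]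
    exact Submodule.add_mem_sup ⟨a, rfl⟩ h5
  intro x
  constructor
  · intro hx
    exact hle hx
  · rintro ⟨a, rfl⟩
    exact congr($h0 a)

/-- Variant with a module `T` isomorphic to the residue field. -/
theorem free_quotient_range' {T : Type*} [AddCommGroup T] [Module R T]
    (e : T ≃ₗ[R] IsLocalRing.ResidueField R) [Module.Finite R X₂] [Module.Finite R X₃]
    [Module.Free R X₃] (d₁ : X₁ →ₗ[R] X₂) (d₂ : X₂ →ₗ[R] X₃) (h0 : d₂.comp d₁ = 0)
    (h : Function.Exact (d₁.lTensor T) (d₂.lTensor T)) :
    Module.Free R (X₃ ⧸ LinearMap.range d₂) :=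
  free_quotient_range d₁ d₂ h0 (exact_lTensor_congr e d₁ d₂ h)

/-- Variant with a module `T` isomorphic to the residue field. -/
theorem exact_of_exact_lTensor_residueField' {T : Type*} [AddCommGroup T] [Module R T]
    (e : T ≃ₗ[R] IsLocalRing.ResidueField R) [Module.Finite R X₂] [Module.Finite R X₃]
    [Module.Free R X₃] (d₁ : X₁ →ₗ[R] X₂) (d₂ : X₂ →ₗ[R] X₃) (h0 : d₂.comp d₁ = 0)
    (h : Function.Exact (d₁.lTensor T) (d₂.lTensor T)) :
    Function.Exact d₁ d₂ :=
  exact_of_exact_lTensor_residueField d₁ d₂ h0 (exact_lTensor_congr e d₁ d₂ h)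

end Groth.Agent.Lib.Helper36.LocalExact
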