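import Mathlib
import Groth.Agent.Lib.Helper36.LocalExact

/-!
Helper (helper36): a complex `X₁ → X₂ → X₃` of finite modules with `X₃` projective which is exact
after tensoring with `R ⧸ m` for every maximal ideal `m` is exact, and the cokernel of `X₂ → X₃` is
projective.
-/

set_option autoImplicit false
universe u

open TensorProduct LinearMap

namespace Groth.Agent.Lib.Helper36.LocalGlobal

variable {R : Type u} [CommRing R]

section fixed

variable (m : Ideal R) [m.IsMaximal]

/-- `R ⧸ m ≃ κ(m)` as `R`-modules. -/
noncomputable def quotEquiv : (R ⧸ m) ≃ₗ[R] m.ResidueField :=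
  LinearEquiv.ofBijective ((IsScalarTower.toAlgHom R (R ⧸ m) m.ResidueField).toLinearMap)
    m.bijective_algebraMap_quotient_residueField

variable (X : Type u) [AddCommGroup X] [Module R X]

/-- The base change `X → X_m → κ ⊗[R_m] X_m`. -/
noncomputable def toFibre :
    X →ₗ[R] m.ResidueField ⊗[Localization.AtPrime m] LocalizedModule m.primeCompl X :=
  ((TensorProduct.mk (Localization.AtPrime m) m.ResidueField
    (LocalizedModule m.primeCompl X) 1).restrictScalars R).comp
    (LocalizedModule.mkLinearMap m.primeCompl X)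

theorem isBaseChange_toFibre : IsBaseChange m.ResidueField (toFibre m X) :=
  IsBaseChange.comp (LocalizedModule.isBaseChange m.primeCompl X)
    (TensorProduct.isBaseChange _ _ _)

/-- The comparison `κ ⊗[R] X ≃ κ ⊗[R_m] X_m`. -/
noncomputable def fibreEquiv : m.ResidueField ⊗[R] X ≃ₗ[m.ResidueField]
    m.ResidueField ⊗[Localization.AtPrime m] LocalizedModule m.primeCompl X :=
  (isBaseChange_toFibre m X).equiv

theorem fibreEquiv_tmul (k : m.ResidueField) (x : X) :
    fibreEquiv m X (k ⊗ₜ x) = k ⊗ₜ[Localization.AtPrime m] LocalizedModule.mk x 1 := by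
  have h1 := (isBaseChange_toFibre m X).equiv_tmul k x
  have h2 : toFibre m X x =
      (1 : m.ResidueField) ⊗ₜ[Localization.AtPrime m] LocalizedModule.mk x 1 := rfl
  rw [h2, TensorProduct.smul_tmul', smul_eq_mul, mul_one] at h1
  exact h1

variable {X}
variable {X' : Type u} [AddCommGroup X'] [Module R X']

theorem fibreEquiv_naturality (d : X →ₗ[R] X') (t : m.ResidueField ⊗[R] X) :
    ((LocalizedModule.map m.primeCompl d).lTensor m.ResidueField) (fibreEquiv m X t) =
      fibreEquiv m X' (d.lTensor m.ResidueField t) := by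
  induction t using TensorProduct.induction_on with
  | zero => simp
  | tmul k x =>
    rw [fibreEquiv_tmul, LinearMap.lTensor_tmul, LinearMap.lTensor_tmul, fibreEquiv_tmul,
      LocalizedModule.map_mk]
  | add a b ha hb => rw [map_add, map_add, ha, hb, map_add, map_add]

variable {X'' : Type u} [AddCommGroup X''] [Module R X'']

theorem exact_lTensor_localized (d₁ : X →ₗ[R] X') (d₂ : X' →ₗ[R] X'')
    (h : Function.Exact (d₁.lTensor (R ⧸ m)) (d₂.lTensor (R ⧸ m))) :
    Function.Exact ((LocalizedModule.map m.primeCompl d₁).lTensor m.ResidueField)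
      ((LocalizedModule.map m.primeCompl d₂).lTensor m.ResidueField) := by
  have h' : Function.Exact (d₁.lTensor m.ResidueField) (d₂.lTensor m.ResidueField) :=
    LocalExact.exact_lTensor_congr (quotEquiv m) d₁ d₂ h
  intro y
  obtain ⟨t, rfl⟩ := (fibreEquiv m X').surjective y
  rw [fibreEquiv_naturality, LinearEquiv.map_eq_zero_iff, h' t]
  constructor
  · rintro ⟨s, rfl⟩
    exact ⟨fibreEquiv m X s, fibreEquiv_naturality m d₁ s⟩
  · rintro ⟨s, hs⟩
    obtain ⟨s, rfl⟩ := (fibreEquiv m X).surjective s
    rw [fibreEquiv_naturality] at hs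
    exact ⟨s, (fibreEquiv m X').injective hs⟩

end fixed

variable {X₁ X₂ X₃ : Type u} [AddCommGroup X₁] [AddCommGroup X₂] [AddCommGroup X₃]
  [Module R X₁] [Module R X₂] [Module R X₃]

theorem localized_comp_eq_zero (S : Submonoid R) (d₁ : X₁ →ₗ[R] X₂) (d₂ : X₂ →ₗ[R] X₃)
    (h0 : d₂.comp d₁ = 0) :
    (LocalizedModule.map S d₂).comp (LocalizedModule.map S d₁) = 0 := by
  ext x
  induction x using LocalizedModule.induction_on with
  | h a s =>
    have := congr($h0 a)
    simp only [LinearMap.comp_apply, LinearMap.zero_apply] at this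
    rw [LinearMap.comp_apply, LocalizedModule.map_mk, LocalizedModule.map_mk, this,
      LocalizedModule.zero_mk, LinearMap.zero_apply]

/-- **Local-to-global exactness**: a complex of finite modules with projective target which is
exact modulo every maximal ideal is exact. -/
theorem exact_of_exact_lTensor_quotient_maximal [Module.Finite R X₂] [Module.Finite R X₃]
    [Module.Projective R X₃] (d₁ : X₁ →ₗ[R] X₂) (d₂ : X₂ →ₗ[R] X₃) (h0 : d₂.comp d₁ = 0)
    (h : ∀ m : Ideal R, m.IsMaximal →
      Function.Exact (d₁.lTensor (R ⧸ m)) (d₂.lTensor (R ⧸ m))) :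
    Function.Exact d₁ d₂ := by
  apply exact_of_localized_maximal
  intro m hm
  have : Module.Free (Localization.AtPrime m) (LocalizedModule m.primeCompl X₃) :=
    Module.free_of_flat_of_isLocalRing
  exact LocalExact.exact_of_exact_lTensor_residueField (LocalizedModule.map m.primeCompl d₁)
    (LocalizedModule.map m.primeCompl d₂) (localized_comp_eq_zero _ d₁ d₂ h0)
    (exact_lTensor_localized m d₁ d₂ (h m hm))

/-- **Local-to-global projectivity of the cokernel**. -/
theorem projective_quotient_range [Module.Finite R X₂] [Module.Finite R X₃]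
    [Module.Projective R X₃] (d₁ : X₁ →ₗ[R] X₂) (d₂ : X₂ →ₗ[R] X₃) (h0 : d₂.comp d₁ = 0)
    (h : ∀ m : Ideal R, m.IsMaximal →
      Function.Exact (d₁.lTensor (R ⧸ m)) (d₂.lTensor (R ⧸ m))) :
    Module.Projective R (X₃ ⧸ LinearMap.range d₂) := by
  have hfp3 : Module.FinitePresentation R X₃ := Module.finitePresentation_of_projective R X₃
  have hfp : Module.FinitePresentation R (X₃ ⧸ LinearMap.range d₂) := by
    apply Module.finitePresentation_of_surjective (LinearMap.range d₂).mkQ
      (Submodule.mkQ_surjective _)
    rw [Submodule.ker_mkQ, LinearMap.range_eq_map]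
    exact (Module.Finite.fg_top).map d₂
  apply Module.projective_of_localization_maximal
  intro m hm
  have : Module.Free (Localization.AtPrime m) (LocalizedModule m.primeCompl X₃) :=
    Module.free_of_flat_of_isLocalRing
  have hfree := LocalExact.free_quotient_range (LocalizedModule.map m.primeCompl d₁)
    (LocalizedModule.map m.primeCompl d₂) (localized_comp_eq_zero _ d₁ d₂ h0)
    (exact_lTensor_localized m d₁ d₂ (h m hm))
  have hrange : (LinearMap.range d₂).localized m.primeCompl =
      LinearMap.range (LocalizedModule.map m.primeCompl d₂) :=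
    LinearMap.localized'_range_eq_range_localizedMap (Localization.AtPrime m) m.primeCompl
      (LocalizedModule.mkLinearMap m.primeCompl X₂) (LocalizedModule.mkLinearMap m.primeCompl X₃) d₂
  have e1 := localizedQuotientEquiv m.primeCompl (LinearMap.range d₂)
  have e2 := Submodule.quotEquivOfEq _ _ hrange
  exact Module.Projective.of_equiv (e2.symm.trans e1)

end Groth.Agent.Lib.Helper36.LocalGlobal
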