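import Groth.Agent.Lib.Helper12.DRingCanTrunc
import Groth.Agent.Lib.Helper12.DRingTrunc

/-!
Helper (helper36): degree-dependent variants of helper12's induction principles
`homology_induction` and `bounded_induction`.
-/

set_option autoImplicit false
universe u

open CategoryTheory CategoryTheory.Limits DRing
open CategoryTheory.Pretriangulated

attribute [local instance] HasDerivedCategory.standard

namespace Groth.Agent.Lib.Helper36.DegInd

open Groth.Agent.Lib.Helper12

variable {A : Type u} [CommRing A]

/-- Induction on the cohomological amplitude via canonical truncations, with a degree-dependent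
condition on the cohomology modules. -/
theorem homology_induction' (Pr : Dual.D A → Prop) (Qm : ℤ → ModuleCat.{u} A → Prop)
    (hQiso : ∀ (i : ℤ) {M N : ModuleCat.{u} A}, (M ≅ N) → Qm i M → Qm i N)
    (hQzero : ∀ (i : ℤ) {M : ModuleCat.{u} A}, IsZero M → Qm i M)
    (hiso : ∀ {K K' : Dual.D A}, (K ≅ K') → Pr K → Pr K')
    (hzero : ∀ K : Dual.D A, IsZero K → Pr K)
    (hsingle : ∀ (M : ModuleCat.{u} A) (a : ℤ), Qm a M →
      Pr ((DerivedCategory.singleFunctor (ModuleCat.{u} A) a).obj M))
    (hext : ∀ T : Triangle (Dual.D A), T ∈ distTriang (Dual.D A) → Pr T.obj₁ → Pr T.obj₃ →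
      Pr T.obj₂)
    (K : Dual.D A) (a b : ℤ) (hK : ∀ i, i < a ∨ b < i → IsZero ((HF A i).obj K))
    (hQ : ∀ i, Qm i ((HF A i).obj K)) : Pr K := by
  suffices H : ∀ (n : ℕ) (a b : ℤ), b < a + n → ∀ K : Dual.D A,
      (∀ i, i < a ∨ b < i → IsZero ((HF A i).obj K)) → (∀ i, Qm i ((HF A i).obj K)) → Pr K by
    obtain ⟨n, hn⟩ : ∃ n : ℕ, b < a + n := ⟨(b - a + 1).toNat, by omega⟩
    exact H n a b hn K hK hQ
  intro n
  induction n with
  | zero =>
    intro a b hab K hK hQ
    apply hzero
    apply isZero_of_forall_isZero_HF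
    intro i
    apply hK
    simp only [Nat.cast_zero, add_zero] at hab
    omega
  | succ n ih =>
    intro a b hab K hK hQ
    have hT := truncTriangle_distinguished K b
    have hK2 : (truncTriangle K b).obj₂ = K := rfl
    refine hK2 ▸ hext (truncTriangle K b) hT ?_ ?_
    · refine ih a (b - 1) (by push_cast at hab; omega) _ ?_ ?_
      · intro i hi
        by_cases hib : i < b
        · exact IsZero.of_iso (hK i (by omega)) (HFTruncLTIso K b i hib)
        · exact isZero_HF_truncLT K b i (by omega)
      · intro i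
        by_cases hib : i < b
        · exact hQiso i (HFTruncLTIso K b i hib).symm (hQ i)
        · exact hQzero i (isZero_HF_truncLT K b i (by omega))
    · have h1 : (truncTriangle K b).obj₃.IsGE b := inferInstance
      have h2 : (truncTriangle K b).obj₃.IsLE b := by
        rw [DerivedCategory.isLE_iff]
        intro i hi
        exact IsZero.of_iso (hK i (by omega)) (HFTruncGEIso K b i (by omega)).symm
      obtain ⟨Y, ⟨e⟩⟩ := DerivedCategory.exists_iso_singleFunctor_obj_of_isGE_of_isLE
        (truncTriangle K b).obj₃ b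
      have eY : (HF A b).obj K ≅ Y :=
        HFTruncGEIso K b b le_rfl ≪≫ (HF A b).mapIso e ≪≫ HFSingleIso b Y
      exact hiso e.symm (hsingle Y b (hQiso b eY (hQ b)))

/-- Induction on bounded complexes via peeling off the bottom term, with a degree-dependent
condition on the terms. -/
theorem bounded_induction' (Pr : Dual.D A → Prop) (Qm : ℤ → ModuleCat.{u} A → Prop)
    (hQiso : ∀ (i : ℤ) {M N : ModuleCat.{u} A}, (M ≅ N) → Qm i M → Qm i N)
    (hQzero : ∀ (i : ℤ) {M : ModuleCat.{u} A}, IsZero M → Qm i M)
    (hzero : ∀ K : Dual.D A, IsZero K → Pr K)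
    (hsingle : ∀ (M : ModuleCat.{u} A) (a : ℤ), Qm a M → Pr (toD (singleCx a M)))
    (hext : ∀ T : Triangle (Dual.D A), T ∈ distTriang (Dual.D A) → Pr T.obj₁ → Pr T.obj₃ →
      Pr T.obj₂)
    (E : Cx A) (a b : ℤ) (hE : VanishesOutside E a b) (hQ : ∀ i, Qm i (E.X i)) : Pr (toD E) := by
  suffices H : ∀ (n : ℕ) (a b : ℤ), b < a + n → ∀ E : Cx A, VanishesOutside E a b →
      (∀ i, Qm i (E.X i)) → Pr (toD E) by
    obtain ⟨n, hn⟩ : ∃ n : ℕ, b < a + n := ⟨(b - a + 1).toNat, by omega⟩
    exact H n a b hn E hE hQ
  intro n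
  induction n with
  | zero =>
    intro a b hab E hE hQ
    apply hzero
    apply isZero_toD_of_forall_isZero
    intro i
    apply hE
    simp only [Nat.cast_zero, add_zero] at hab
    omega
  | succ n ih =>
    intro a b hab E hE hQ
    have h0 : IsZero (E.X (a - 1)) := hE (a - 1) (Or.inl (by omega))
    refine hext (bottomTriangle E a h0) (bottomTriangle_distinguished E a h0) ?_ ?_
    · refine ih (a + 1) b (by push_cast at hab; omega) (bottomKer E a h0)
        (vanishesOutside_bottomKer hE) ?_
      intro i
      by_cases hi : i = a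
      · subst hi; exact hQzero i (isZero_bottomKer_X_self E i h0)
      · exact hQiso i (bottomKerXIsoOfNe E a h0 i hi).symm (hQ i)
    · exact hsingle _ a (hQ a)

end Groth.Agent.Lib.Helper36.DegInd
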