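import Mathlib
import Groth.Agent.Lib.Helper36.LeftDerivedCompute

/-!
Helper (helper36): the left adjoint of `Qh` is triangulated, and left derived functors of
triangulated functors `K(A) ⥤ D(B)` composed with cohomology are homological functors.
-/

set_option autoImplicit false
universe u

open CategoryTheory CategoryTheory.Limits CochainComplex DerivedCategory MonoidalCategory

attribute [local instance] HasDerivedCategory.standard

namespace Groth.Agent.Lib.Helper36.LT

open Groth.Agent.Lib.Helper36.KP

variable {A B : Type u} [Ring A] [Ring B]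

noncomputable instance resFunctor_commShift : (resFunctor (A := A)).CommShift ℤ :=
  (resAdj (A := A)).leftAdjointCommShift ℤ

instance resAdj_commShift : (resAdj (A := A)).CommShift ℤ :=
  Adjunction.commShift_of_rightAdjoint (resAdj (A := A)) ℤ

instance resFunctor_isTriangulated : (resFunctor (A := A)).IsTriangulated :=
  (resAdj (A := A)).isTriangulated_leftAdjoint

variable (G : ModuleCat.{u} A ⥤ ModuleCat.{u} B) [G.Additive]

/-- The natural isomorphism computing a left derived functor by resolutions. -/
noncomputable def resCompIso
    [(mapKh G).HasLeftDerivedFunctor (HomotopyCategory.quasiIso (ModuleCat.{u} A) (ComplexShape.up ℤ))] :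
    resFunctor (A := A) ⋙ mapKh G ≅ (mapKh G).totalLeftDerived Qh
      (HomotopyCategory.quasiIso (ModuleCat.{u} A) (ComplexShape.up ℤ)) :=
  have := Functor.IsLeftDerivedFunctor.isRightKanExtension
    ((mapKh G).totalLeftDerived Qh (HomotopyCategory.quasiIso (ModuleCat.{u} A) (ComplexShape.up ℤ)))
    ((mapKh G).totalLeftDerivedCounit Qh
      (HomotopyCategory.quasiIso (ModuleCat.{u} A) (ComplexShape.up ℤ)))
    (HomotopyCategory.quasiIso (ModuleCat.{u} A) (ComplexShape.up ℤ))
  asIso (KanAdj.γ (resAdj (A := A)) _ ((mapKh G).totalLeftDerivedCounit Qh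
      (HomotopyCategory.quasiIso (ModuleCat.{u} A) (ComplexShape.up ℤ))))

/-- Cohomology of a left derived functor is a homological functor. -/
theorem isHomological_totalLeftDerived_comp_homology
    [(mapKh G).HasLeftDerivedFunctor (HomotopyCategory.quasiIso (ModuleCat.{u} A) (ComplexShape.up ℤ))]
    (i : ℤ) :
    ((mapKh G).totalLeftDerived Qh
      (HomotopyCategory.quasiIso (ModuleCat.{u} A) (ComplexShape.up ℤ)) ⋙
        DerivedCategory.homologyFunctor (ModuleCat.{u} B) i).IsHomological := by
  have h1 : ((resFunctor (A := A) ⋙ mapKh G) ⋙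
      DerivedCategory.homologyFunctor (ModuleCat.{u} B) i).IsHomological := inferInstance
  exact Functor.IsHomological.of_iso
    (Functor.isoWhiskerRight (resCompIso G) (DerivedCategory.homologyFunctor (ModuleCat.{u} B) i))

end Groth.Agent.Lib.Helper36.LT
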