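import Mathlib
import Groth.Agent.S7027
import Groth.Agent.Lib.Helper36.DegInduction
import Groth.Agent.Lib.Helper12.DRingSingle

/-!
Helper (helper36): tor amplitude from the tor amplitude of the cohomology modules / of the terms.
-/

set_option autoImplicit false
universe u

open CategoryTheory CategoryTheory.Limits DRing
open CategoryTheory.Pretriangulated
open scoped ZeroObject

attribute [local instance] HasDerivedCategory.standard

namespace Groth.Agent.Lib.Helper36.TorAmpExt

open Groth.Agent.Lib.Helper12

variable {A : Type u} [CommRing A]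

lemma hasTorAmplitudeIn_of_isZero {K : Dual.D A} (h : IsZero K) (a b : ℤ) :
    HasTorAmplitudeIn A a b K := by
  refine ⟨(0 : Cx A), fun i _ => ?_, fun i => ?_, ⟨?_⟩⟩
  · exact (HomologicalComplex.eval _ _ i).map_isZero (isZero_zero _)
  · exact flat_of_isZero _ ((HomologicalComplex.eval _ _ i).map_isZero (isZero_zero _))
  · exact (DerivedCategory.Q.map_isZero (isZero_zero _)).iso h

/-- A module in degree `i` whose degree-zero incarnation has tor amplitude in `[a - i, b - i]` has
tor amplitude in `[a, b]`. -/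
lemma hasTorAmplitudeIn_single (M : ModuleCat.{u} A) (i a b : ℤ)
    (h : HasTorAmplitudeIn A (a - i) (b - i) (Dual.inD A M)) :
    HasTorAmplitudeIn A a b ((DerivedCategory.singleFunctor (ModuleCat.{u} A) i).obj M) := by
  have h1 := hasTorAmplitudeIn_shift h (-i)
  have e1 : a - i - -i = a := by omega
  have e2 : b - i - -i = b := by omega
  rw [e1, e2] at h1
  exact hasTorAmplitudeIn_of_iso (singleFunctorShiftIso i M).symm h1

variable [∀ M : ModuleCat.{u} A, DRing.HasLTensor A M]

/-- Tor amplitude from the tor amplitude of the cohomology modules. -/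
theorem hasTorAmplitudeIn_of_homology (a b : ℤ) (K : Dual.D A) (c d : ℤ)
    (hK : ∀ i, i < c ∨ d < i → IsZero ((HF A i).obj K))
    (hQ : ∀ i, HasTorAmplitudeIn A (a - i) (b - i) (Dual.inD A ((HF A i).obj K))) :
    HasTorAmplitudeIn A a b K :=
  DegInd.homology_induction' (HasTorAmplitudeIn A a b)
    (fun i M => HasTorAmplitudeIn A (a - i) (b - i) (Dual.inD A M))
    (fun _ _ _ e h => hasTorAmplitudeIn_of_iso (inDMapIso e) h)
    (fun _ _ h => hasTorAmplitudeIn_of_isZero (isZero_inD h) _ _)
    (fun e h => hasTorAmplitudeIn_of_iso e h)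
    (fun _ h => hasTorAmplitudeIn_of_isZero h a b)
    (fun M i h => hasTorAmplitudeIn_single M i a b h)
    (fun T hT h1 h3 => Groth.Agent.S7027.hasTorAmplitudeIn_ext A a b T hT h1 h3)
    K c d hK hQ

/-- Tor amplitude from the tor amplitude of the terms of a bounded complex. -/
theorem hasTorAmplitudeIn_of_terms (a b : ℤ) (E : Cx A) (c d : ℤ) (hE : VanishesOutside E c d)
    (hQ : ∀ i, HasTorAmplitudeIn A (a - i) (b - i) (Dual.inD A (E.X i))) :
    HasTorAmplitudeIn A a b (toD E) :=
  DegInd.bounded_induction' (HasTorAmplitudeIn A a b)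
    (fun i M => HasTorAmplitudeIn A (a - i) (b - i) (Dual.inD A M))
    (fun _ _ _ e h => hasTorAmplitudeIn_of_iso (inDMapIso e) h)
    (fun _ _ h => hasTorAmplitudeIn_of_isZero (isZero_inD h) _ _)
    (fun _ h => hasTorAmplitudeIn_of_isZero h a b)
    (fun M i h => hasTorAmplitudeIn_of_iso (toDSingleIso' i M).symm
      (hasTorAmplitudeIn_single M i a b h))
    (fun T hT h1 h3 => Groth.Agent.S7027.hasTorAmplitudeIn_ext A a b T hT h1 h3)
    E c d hE hQ

end Groth.Agent.Lib.Helper36.TorAmpExt
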