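import Mathlib
import Groth.Agent.Lib.Helper36.TorAmpExt

/-!
Helper (helper36): tor amplitude of modules of finite projective dimension.
-/

set_option autoImplicit false
universe u

open CategoryTheory CategoryTheory.Limits DRing
open CategoryTheory.Pretriangulated

attribute [local instance] HasDerivedCategory.standard

namespace Groth.Agent.Lib.Helper36.TorAmpExt

open Groth.Agent.Lib.Helper12

variable {A : Type u} [CommRing A]

/-- A flat module in degree `0` has tor amplitude in `[0, 0]`. -/
lemma hasTorAmplitudeIn_single_of_flat (M : ModuleCat.{u} A) [Module.Flat A M] :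
    HasTorAmplitudeIn A 0 0 ((DerivedCategory.singleFunctor (ModuleCat.{u} A) 0).obj M) := by
  refine ⟨singleCx 0 M, fun i hi => isZero_singleCx_X 0 M i (by omega), fun i => ?_,
    ⟨toDSingleIso' 0 M⟩⟩
  by_cases hi : i = 0
  · subst hi
    exact Module.Flat.of_linearEquiv
      (HomologicalComplex.singleObjXSelf (ComplexShape.up ℤ) 0 M).toLinearEquiv
  · exact flat_of_isZero _ (isZero_singleCx_X 0 M i hi)

variable [∀ M : ModuleCat.{u} A, DRing.HasLTensor A M]

/-- A module of projective dimension `≤ d` has tor amplitude in `[-d, 0]`. -/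
theorem hasTorAmplitudeIn_single_of_projDim (d : ℕ) : ∀ (M : ModuleCat.{u} A),
    HasProjectiveDimensionLT M (d + 1) →
    HasTorAmplitudeIn A (-(d : ℤ)) 0 ((DerivedCategory.singleFunctor (ModuleCat.{u} A) 0).obj M) := by
  induction d with
  | zero =>
    intro M hM
    have : Projective M := projective_iff_hasProjectiveDimensionLT_one.mpr hM
    have : Module.Projective A M := ModuleCat.projective_of_module_projective M
    have : Module.Flat A M := inferInstance
    exact hasTorAmplitudeIn_mono' (hasTorAmplitudeIn_single_of_flat M) (by simp) le_rfl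
  | succ d ih =>
    intro M hM
    let F : ModuleCat.{u} A := ModuleCat.of A (M →₀ A)
    let π : F ⟶ M := ModuleCat.ofHom (Finsupp.linearCombination A id)
    have hπ : Epi π := by
      rw [ModuleCat.epi_iff_surjective]
      exact Finsupp.linearCombination_id_surjective A M
    let S : ShortComplex (ModuleCat.{u} A) := ShortComplex.mk (kernel.ι π) π (kernel.condition π)
    have hS : S.ShortExact := by
      have : Mono S.f := by dsimp [S]; infer_instance
      have : Epi S.g := hπ
      exact ShortComplex.ShortExact.mk (ShortComplex.exact_of_f_is_kernel _ (kernelIsKernel π))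
    have hFp : Module.Projective A (M →₀ A) := inferInstance
    have hFproj : Projective F := ModuleCat.projective_of_categoryTheory_projective F
    have hF1 : HasProjectiveDimensionLT S.X₂ (d + 1) :=
      hasProjectiveDimensionLT_of_ge F 1 (d + 1) (by omega)
    have hK : HasProjectiveDimensionLT S.X₁ (d + 1) :=
      hS.hasProjectiveDimensionLT_X₁ (d + 1) hF1 hM
    have h1 := ih S.X₁ hK
    have hFfl : Module.Flat A F := inferInstanceAs (Module.Flat A (M →₀ A))
    have h2 : HasTorAmplitudeIn A (-((d + 1 : ℕ) : ℤ)) 0
        ((DerivedCategory.singleFunctor (ModuleCat.{u} A) 0).obj F) :=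
      hasTorAmplitudeIn_mono' (hasTorAmplitudeIn_single_of_flat F) (by simp) le_rfl
    have h3 : HasTorAmplitudeIn A (-((d + 1 : ℕ) : ℤ)) 0
        (((DerivedCategory.singleFunctor (ModuleCat.{u} A) 0).obj S.X₁)⟦(1 : ℤ)⟧) :=
      hasTorAmplitudeIn_mono' (hasTorAmplitudeIn_shift h1 1) (by push_cast; omega) (by omega)
    have hT := rot_of_distTriang _ hS.singleTriangle_distinguished
    exact Groth.Agent.S7027.hasTorAmplitudeIn_ext A _ _ hS.singleTriangle.rotate hT h2 h3

end Groth.Agent.Lib.Helper36.TorAmpExt
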