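import Mathlib
import Groth.Prelude.Def_DDual2
import Groth.Agent.S6945
import Groth.Agent.S7034
import Groth.Agent.S6974
import Groth.Agent.Lib.Helper36.FibreCancel
import Groth.Agent.Lib.Helper36.PowTorsionTor
import Groth.Agent.Lib.Helper36.LeftDerivedFlat
import Groth.Agent.Lib.Helper12.FlatExtendScalars

/-!
Helper (helper36): tor amplitude over `B` from tor amplitude over `A` for a flat map `A → B` whose
fibre rings have finite global dimension.
-/

set_option autoImplicit false
universe u

open CategoryTheory CategoryTheory.Limits MonoidalCategory DRing TensorProduct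

attribute [local instance] HasDerivedCategory.standard

namespace Groth.Agent.Lib.Helper36.FibreTorAmp

open Groth.Agent.Lib.Helper36.NilTor Groth.Agent.Lib.Helper36.LT Groth.Agent.Lib.Helper12

section general

variable {A : Type u} [CommRing A]

/-- exactness of `E ⊗ M` outside the tor amplitude, for a bounded above flat representative -/
theorem exactAt_tensorCx_of_hasTorAmplitudeIn (E : DRing.Cx A) (c : ℤ) (hc : VanishesAbove E c)
    (hfl : ∀ i, Module.Flat A (E.X i)) {K : Dual.D A} (e : toD E ≅ K) (a b : ℤ)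
    (h : HasTorAmplitudeIn A a b K) (M : ModuleCat.{u} A) (i : ℤ) (hi : i < a ∨ b < i) :
    (tensorCx M E).ExactAt i := by
  have hs := (@Groth.Agent.S6945.result A _ (fun M => LT.hasLTensor A M) K a b).mp h M i hi
  have := LT.hasLTensor A M
  obtain ⟨e₁⟩ := nonempty_lTensorObjIso_of_flat M E c hc hfl
  have e' : (DRing.LTensor A M).obj K ≅ toD (tensorCx M E) :=
    (DRing.LTensor A M).mapIso e.symm ≪≫ e₁
  apply exactAt_of_isZero_HF
  exact (@ModuleCat.isZero_of_subsingleton _ _ _ hs).of_iso ((HF A i).mapIso e'.symm)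

variable {G : Type u} [CommRing G] (χ : A →+* G)

lemma flat_extendScalars (N : ModuleCat.{u} A) [Module.Flat A N] :
    Module.Flat G ((ModuleCat.extendScalars.{u, u, u} χ).obj N) := by
  let _ : Algebra A G := χ.toAlgebra
  exact extSc_flat (A := A) (B := G) N

/-- exactness of `P ⊗_A G` from exactness of the complex `P ⊗ G` -/
theorem exactAt_extendScalars_of_tensorCx (P : DRing.Cx A) (i : ℤ)
    (h : (tensorCx ((ModuleCat.restrictScalars χ).obj (𝟙_ (ModuleCat.{u} G))) P).ExactAt i) :
    (((ModuleCat.extendScalars.{u, u, u} χ).mapHomologicalComplex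
      (ComplexShape.up ℤ)).obj P).ExactAt i := by
  refine HomologicalComplex.ExactAt.of_iso ?_ (tensorCxUnitIso _)
  rw [exactAt_tensorCx_iff]
  refine (CBC.exact_whiskerRight_extendScalars_iff χ
    (𝟙_ (ModuleCat.{u} G)) (P.d (i - 1) i) (P.d i (i + 1))).mpr ?_
  rw [exactAt_tensorCx_iff] at h
  exact h

end general

section fibre

variable {A B : Type u} [CommRing A] [CommRing B] [Algebra A B] (κ : Type u) [CommRing κ]
  [Algebra A κ]

/-- exactness of the fibre `(κ ⊗_A B) ⊗_B P` from exactness of `P ⊗_A κ` -/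
theorem exactAt_fibre (P : DRing.Cx B) (i : ℤ)
    (h : (tensorCx (ModuleCat.of A κ) (((ModuleCat.restrictScalars
      (algebraMap A B)).mapHomologicalComplex (ComplexShape.up ℤ)).obj P)).ExactAt i) :
    (((ModuleCat.extendScalars.{u, u, u}
      (Algebra.TensorProduct.includeRight : B →ₐ[A] κ ⊗[A] B).toRingHom).mapHomologicalComplex
        (ComplexShape.up ℤ)).obj P).ExactAt i := by
  rw [exactAt_tensorCx_iff] at h
  rw [HomologicalComplex.exactAt_iff' _ (i - 1) i (i + 1) (by simp) (by simp),
    ShortComplex.ShortExact.moduleCat_exact_iff_function_exact]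
  exact (FibreCancel.exact_extendScalars_includeRight_iff κ (P.d (i - 1) i)
    (P.d i (i + 1))).mpr h

end fibre

section residue

variable {A B : Type u} [CommRing A] [CommRing B] [Algebra A B]

/-- the map `κ(m ∩ A) → B/m` -/
noncomputable def resFieldMap (m : Ideal B) [m.IsMaximal] :
    (m.comap (algebraMap A B)).ResidueField →ₐ[A] B ⧸ m :=
  Ideal.ResidueField.liftₐ (m.comap (algebraMap A B)) (Algebra.ofId A (B ⧸ m))
    (by
      intro a ha
      rw [RingHom.mem_ker]
      show algebraMap A (B ⧸ m) a = 0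
      rw [IsScalarTower.algebraMap_apply A B (B ⧸ m), Ideal.Quotient.algebraMap_eq,
        Ideal.Quotient.eq_zero_iff_mem]
      exact ha)
    (by
      intro a ha
      let _ : Field (B ⧸ m) := Ideal.Quotient.field m
      show IsUnit (algebraMap A (B ⧸ m) a)
      rw [isUnit_iff_ne_zero, IsScalarTower.algebraMap_apply A B (B ⧸ m),
        Ideal.Quotient.algebraMap_eq, Ne, Ideal.Quotient.eq_zero_iff_mem]
      exact ha)

/-- the map from the fibre ring to `B/m` -/
noncomputable def fibreToQuot (m : Ideal B) [m.IsMaximal] :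
    (m.comap (algebraMap A B)).ResidueField ⊗[A] B →ₐ[A] B ⧸ m :=
  Algebra.TensorProduct.lift (resFieldMap m) (IsScalarTower.toAlgHom A B (B ⧸ m))
    (fun _ _ => Commute.all _ _)

lemma fibreToQuot_comp (m : Ideal B) [m.IsMaximal] :
    (fibreToQuot (A := A) m).toRingHom.comp
      (Algebra.TensorProduct.includeRight : B →ₐ[A]
        (m.comap (algebraMap A B)).ResidueField ⊗[A] B).toRingHom = Ideal.Quotient.mk m := by
  ext b
  show fibreToQuot (A := A) m ((1 : (m.comap (algebraMap A B)).ResidueField) ⊗ₜ[A] b) = _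
  rw [fibreToQuot, Algebra.TensorProduct.lift_tmul, map_one, one_mul]
  rfl

end residue

section comp

variable {R₁ R₂ R₃ : Type u} [CommRing R₁] [CommRing R₂] [CommRing R₃]

/-- extension of scalars along a composite -/
noncomputable def extCompNatIso (f : R₁ →+* R₂) (g : R₂ →+* R₃) (h : R₁ →+* R₃)
    (hh : h = g.comp f) :
    ModuleCat.extendScalars.{u, u, u} h ≅
      ModuleCat.extendScalars.{u, u, u} f ⋙ ModuleCat.extendScalars.{u, u, u} g :=
  eqToIso (by rw [hh]) ≪≫ ModuleCat.extendScalarsComp.{u, u} f g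

/-- extension of scalars along a composite, on complexes -/
noncomputable def extCompIso (f : R₁ →+* R₂) (g : R₂ →+* R₃) (h : R₁ →+* R₃) (hh : h = g.comp f)
    (P : DRing.Cx R₁) :
    ((ModuleCat.extendScalars.{u, u, u} h).mapHomologicalComplex (ComplexShape.up ℤ)).obj P ≅
      ((ModuleCat.extendScalars.{u, u, u} g).mapHomologicalComplex (ComplexShape.up ℤ)).obj
        (((ModuleCat.extendScalars.{u, u, u} f).mapHomologicalComplex (ComplexShape.up ℤ)).obj P) :=
  HomologicalComplex.Hom.isoOfComponents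
    (fun n => (extCompNatIso f g h hh).app (P.X n)) (by
      intro i j _
      exact ((extCompNatIso f g h hh).hom.naturality (P.d i j)).symm)

end comp

section main

variable {A B : Type u} [CommRing A] [CommRing B] [Algebra A B] [Module.Flat A B]

lemma flat_restrictScalars (X : ModuleCat.{u} B) [Module.Flat B X] :
    Module.Flat A ((ModuleCat.restrictScalars (algebraMap A B)).obj X) := by
  let iX : Module A X := ((ModuleCat.restrictScalars (algebraMap A B)).obj X).isModule
  have hX : IsScalarTower A B X := ⟨fun a b x => by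
    show (a • b) • x = algebraMap A B a • (b • x)
    rw [Algebra.smul_def, mul_smul]⟩
  exact Module.Flat.trans A B X

theorem subsingleton_HD_fibre (d : ℕ) (m : Ideal B) [m.IsMaximal]
    (hgl : ∀ (M : Type u) [AddCommGroup M]
      [Module ((m.comap (algebraMap A B)).ResidueField ⊗[A] B) M],
      HasProjectiveDimensionLT
        (ModuleCat.of ((m.comap (algebraMap A B)).ResidueField ⊗[A] B) M) (d + 1))
    [DRing.HasLBaseChange (Ideal.Quotient.mk m)]
    (P : DRing.Cx B) (c : ℤ) (hc : VanishesAbove P c) (hfl : ∀ i, Module.Flat B (P.X i))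
    {K : Dual.D B} (e : toD P ≅ K) (a b : ℤ)
    (hKa : HasTorAmplitudeIn A a b ((DRing.restrictD (algebraMap A B)).obj K)) (i : ℤ)
    (hi : i < a - d ∨ b < i) :
    Subsingleton (Dual.HD (B ⧸ m) ((DRing.LBaseChange (Ideal.Quotient.mk m)).obj K) i) := by
  let κ := (m.comap (algebraMap A B)).ResidueField
  let ψ : B →+* κ ⊗[A] B := (Algebra.TensorProduct.includeRight : B →ₐ[A] κ ⊗[A] B).toRingHom
  let χ : κ ⊗[A] B →+* B ⧸ m := (fibreToQuot (A := A) m).toRingHom
  let resP : DRing.Cx A := ((ModuleCat.restrictScalars (algebraMap A B)).mapHomologicalComplex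
    (ComplexShape.up ℤ)).obj P
  have hresc : VanishesAbove resP c := fun j hj =>
    (ModuleCat.restrictScalars (algebraMap A B)).map_isZero (hc j hj)
  have hresfl : ∀ j, Module.Flat A (resP.X j) := fun j => by
    have := hfl j
    exact flat_restrictScalars (P.X j)
  let e_res : toD resP ≅ (DRing.restrictD (algebraMap A B)).obj K :=
    ((ModuleCat.restrictScalars (algebraMap A B)).mapDerivedCategoryFactors.app P).symm ≪≫
      (DRing.restrictD (algebraMap A B)).mapIso e
  have h1 : ∀ j : ℤ, (j < a ∨ b < j) → (tensorCx (ModuleCat.of A κ) resP).ExactAt j := fun j hj =>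
    exactAt_tensorCx_of_hasTorAmplitudeIn resP c hresc hresfl e_res a b hKa _ j hj
  let P' : DRing.Cx (κ ⊗[A] B) :=
    ((ModuleCat.extendScalars.{u, u, u} ψ).mapHomologicalComplex (ComplexShape.up ℤ)).obj P
  have h2 : ∀ j : ℤ, (j < a ∨ b < j) → P'.ExactAt j := fun j hj => exactAt_fibre κ P j (h1 j hj)
  have h3 : HasTorAmplitudeIn (κ ⊗[A] B) (a - d) b (toD P') :=
    (@Groth.Agent.S7034.result (κ ⊗[A] B) _ d hgl (fun M => LT.hasLTensor _ M)).2 (toD P') a b
      (fun j hj => ModuleCat.subsingleton_of_isZero (PowTor.isZero_HF_of_exactAt P' j (h2 j hj)))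
  have hP'c : VanishesAbove P' c := fun j hj =>
    (ModuleCat.extendScalars.{u, u, u} ψ).map_isZero (hc j hj)
  have hP'fl : ∀ j, Module.Flat (κ ⊗[A] B) (P'.X j) := fun j => by
    have := hfl j
    exact flat_extendScalars ψ (P.X j)
  have h4 := exactAt_tensorCx_of_hasTorAmplitudeIn P' c hP'c hP'fl (Iso.refl _) (a - d) b h3
    ((ModuleCat.restrictScalars χ).obj (𝟙_ (ModuleCat.{u} (B ⧸ m)))) i hi
  have h5 := exactAt_extendScalars_of_tensorCx χ P' i h4
  have h6 : (((ModuleCat.extendScalars.{u, u, u} (Ideal.Quotient.mk m)).mapHomologicalComplex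
      (ComplexShape.up ℤ)).obj P).ExactAt i :=
    h5.of_iso (extCompIso ψ χ (Ideal.Quotient.mk m) (fibreToQuot_comp (A := A) m).symm P).symm
  obtain ⟨e₁⟩ := nonempty_lBaseChangeObjIso_of_flat (Ideal.Quotient.mk m) P c hc hfl
  have e' : (DRing.LBaseChange (Ideal.Quotient.mk m)).obj K ≅
      toD (((ModuleCat.extendScalars.{u, u, u} (Ideal.Quotient.mk m)).mapHomologicalComplex
        (ComplexShape.up ℤ)).obj P) :=
    (DRing.LBaseChange (Ideal.Quotient.mk m)).mapIso e.symm ≪≫ e₁
  exact ModuleCat.subsingleton_of_isZero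
    ((PowTor.isZero_HF_of_exactAt _ i h6).of_iso ((HF (B ⧸ m) i).mapIso e'))

end main

end Groth.Agent.Lib.Helper36.FibreTorAmp
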