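import Mathlib

/-!
Helper (helper36): abstract triangulated-category lemmas used to construct the derived completion
with respect to one element `f` as the cone of `Θ = S ≫ θ` on a "countable product" `P` of `K`.
-/

set_option autoImplicit false
set_option linter.unusedSectionVars false
universe u

open CategoryTheory CategoryTheory.Limits CategoryTheory.Pretriangulated

namespace Groth.Agent.Lib.Helper36.CC

variable {R : Type*} [CommRing R] {D : Type*} [Category D] [Preadditive D] [HasZeroObject D]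
  [HasShift D ℤ] [∀ n : ℤ, (shiftFunctor D n).Additive] [Pretriangulated D] [Linear R D]
  [∀ n : ℤ, (shiftFunctor D n).Linear R]

/-- If `θ = 1 - f σ` on `P` with `σ` commuting with `θ`, then `f` acts invertibly on the cone of
`θ`. -/
theorem isIso_smul_cone (f : R) {P Tc : D} (θ σ : P ⟶ P) (β : P ⟶ Tc) (γ : Tc ⟶ P⟦(1 : ℤ)⟧)
    (hT : Triangle.mk θ β γ ∈ distTriang D) (hcomm : σ ≫ θ = θ ≫ σ) (hf : f • σ = 𝟙 P - θ) :
    IsIso (f • 𝟙 Tc) := by
  obtain ⟨σ', h1, h2⟩ : ∃ σ' : Tc ⟶ Tc, β ≫ σ' = σ ≫ β ∧ γ ≫ σ⟦(1 : ℤ)⟧' = σ' ≫ γ :=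
    complete_distinguished_triangle_morphism _ _ hT hT σ σ hcomm.symm
  have h12 : θ ≫ β = 0 := comp_distTriang_mor_zero₁₂ _ hT
  have h23 : β ≫ γ = 0 := comp_distTriang_mor_zero₂₃ _ hT
  have h31 : γ ≫ θ⟦(1 : ℤ)⟧' = 0 := comp_distTriang_mor_zero₃₁ _ hT
  set N : Tc ⟶ Tc := 𝟙 Tc - f • σ' with hN
  have hβN : β ≫ N = 0 := by
    rw [hN, Preadditive.comp_sub, Category.comp_id, Linear.comp_smul, h1, ← Linear.smul_comp, hf,
      Preadditive.sub_comp, Category.id_comp, h12, sub_zero, sub_self]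
  have hNγ : N ≫ γ = 0 := by
    have hs : (f • σ)⟦(1 : ℤ)⟧' = f • σ⟦(1 : ℤ)⟧' := Functor.map_smul _ _ _
    have hs2 : (𝟙 P - θ)⟦(1 : ℤ)⟧' = 𝟙 _ - θ⟦(1 : ℤ)⟧' := by
      rw [Functor.map_sub, CategoryTheory.Functor.map_id]
    rw [hN, Preadditive.sub_comp, Category.id_comp, Linear.smul_comp, ← h2, ← Linear.comp_smul,
      ← hs, hf, hs2, Preadditive.comp_sub, Category.comp_id, h31, sub_zero, sub_self]
  obtain ⟨a, ha⟩ : ∃ a : P⟦(1 : ℤ)⟧ ⟶ Tc, N = γ ≫ a := Triangle.yoneda_exact₃ _ hT N hβN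
  obtain ⟨b, hb⟩ : ∃ b : Tc ⟶ P, N = b ≫ β := Triangle.coyoneda_exact₃ _ hT N hNγ
  have hNN : N ≫ N = 0 := by
    calc N ≫ N = (b ≫ β) ≫ (γ ≫ a) := by rw [← hb, ← ha]
      _ = 0 := by rw [Category.assoc, ← Category.assoc β, h23, zero_comp, comp_zero]
  have hfσ : f • σ' = 𝟙 Tc - N := by
    rw [hN]
    abel
  have hr : (f • 𝟙 Tc) ≫ (σ' ≫ (𝟙 Tc + N)) = 𝟙 Tc := by
    rw [← Category.assoc, Linear.smul_comp, Category.id_comp, hfσ]
    simp only [Preadditive.sub_comp, Preadditive.comp_add, Category.id_comp, Category.comp_id, hNN]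
    abel
  refine ⟨σ' ≫ (𝟙 Tc + N), hr, ?_⟩
  have hr' := hr
  rw [Linear.smul_comp, Category.id_comp] at hr'
  rw [Linear.comp_smul, Category.comp_id]
  exact hr'

/-- Transfer bijectivity of precomposition along an isomorphism of the target. -/
lemma bijective_precomp_of_iso {X Y Y' : D} (φ : X ⟶ X) (e : Y ≅ Y')
    (h : Function.Bijective (fun a : X ⟶ Y => φ ≫ a)) :
    Function.Bijective (fun a : X ⟶ Y' => φ ≫ a) := by
  constructor
  · intro a b hab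
    have h1 : φ ≫ (a ≫ e.inv) = φ ≫ (b ≫ e.inv) := by
      rw [← Category.assoc, ← Category.assoc]
      exact congrArg (· ≫ e.inv) hab
    have h2 := h.1 h1
    have h3 := congrArg (· ≫ e.hom) h2
    simpa using h3
  · intro c
    obtain ⟨a, ha⟩ := h.2 (c ≫ e.inv)
    refine ⟨a ≫ e.hom, ?_⟩
    show φ ≫ a ≫ e.hom = c
    have h3 := congrArg (· ≫ e.hom) ha
    simpa using h3

/-- Bijectivity of precomposition is preserved by the shift. -/
lemma bijective_precomp_shift {X Y : D} (φ : X ⟶ X) (n : ℤ)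
    (h : Function.Bijective (fun a : X ⟶ Y => φ ≫ a)) :
    Function.Bijective (fun a : X⟦n⟧ ⟶ Y⟦n⟧ => φ⟦n⟧' ≫ a) := by
  constructor
  · intro a b hab
    obtain ⟨a', rfl⟩ := (shiftFunctor D n).map_surjective a
    obtain ⟨b', rfl⟩ := (shiftFunctor D n).map_surjective b
    have h1 : (φ ≫ a')⟦n⟧' = (φ ≫ b')⟦n⟧' := by
      rw [Functor.map_comp, Functor.map_comp]
      exact hab
    rw [h.1 ((shiftFunctor D n).map_injective h1)]
  · intro c
    obtain ⟨c', rfl⟩ := (shiftFunctor D n).map_surjective c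
    obtain ⟨a, ha⟩ := h.2 c'
    refine ⟨a⟦n⟧', ?_⟩
    show φ⟦n⟧' ≫ a⟦n⟧' = c'⟦n⟧'
    rw [← Functor.map_comp]
    exact congrArg _ ha

/-- The universal property of `K ⟶ cone (S ≫ θ)` with respect to objects `E` for which
precomposition with `θ` is bijective on `Hom(P, E)` and on `Hom(P⟦1⟧, E)`. -/
theorem bijective_precomp_cone {P K C E : D} (θ σ S : P ⟶ P) (δ : K ⟶ P) (π : P ⟶ K)
    (β : P ⟶ C) (γ : C ⟶ P⟦(1 : ℤ)⟧) (hT : Triangle.mk (S ≫ θ) β γ ∈ distTriang D)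
    (hSσ : S ≫ σ = 𝟙 P) (hδπ : δ ≫ π = 𝟙 K) (hSπ : S ≫ π = 0) (hπδ : π ≫ δ + σ ≫ S = 𝟙 P)
    (hδθ : δ ≫ θ = δ)
    (hE0 : Function.Bijective (fun a : P ⟶ E => θ ≫ a))
    (hE1 : Function.Bijective (fun a : P⟦(1 : ℤ)⟧ ⟶ E => θ⟦(1 : ℤ)⟧' ≫ a)) :
    Function.Bijective (fun v : C ⟶ E => (δ ≫ β) ≫ v) := by
  have h12 : (S ≫ θ) ≫ β = 0 := comp_distTriang_mor_zero₁₂ _ hT
  have h31 : γ ≫ (S ≫ θ)⟦(1 : ℤ)⟧' = 0 := comp_distTriang_mor_zero₃₁ _ hT
  have hinj : ∀ v : C ⟶ E, (δ ≫ β) ≫ v = 0 → v = 0 := by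
    intro v hv
    have hw' : θ ≫ (β ≫ v) = 0 := by
      have e1 : S ≫ (θ ≫ (β ≫ v)) = 0 := by
        rw [← Category.assoc, ← Category.assoc, h12, zero_comp]
      have e2 : δ ≫ (θ ≫ (β ≫ v)) = 0 := by
        rw [← Category.assoc, hδθ, ← Category.assoc]
        exact hv
      calc θ ≫ (β ≫ v) = (π ≫ δ + σ ≫ S) ≫ (θ ≫ (β ≫ v)) := by rw [hπδ, Category.id_comp]
        _ = 0 := by
          rw [Preadditive.add_comp, Category.assoc, Category.assoc, e1, e2, comp_zero, comp_zero,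
            add_zero]
    have hw : β ≫ v = 0 := by
      apply hE0.1
      show θ ≫ (β ≫ v) = θ ≫ 0
      rw [hw', comp_zero]
    obtain ⟨v', hv'⟩ : ∃ v' : P⟦(1 : ℤ)⟧ ⟶ E, v = γ ≫ v' := Triangle.yoneda_exact₃ _ hT v hw
    obtain ⟨t, ht⟩ := hE1.2 (σ⟦(1 : ℤ)⟧' ≫ v')
    have ht' : θ⟦(1 : ℤ)⟧' ≫ t = σ⟦(1 : ℤ)⟧' ≫ v' := ht
    have h5 : (S ≫ θ)⟦(1 : ℤ)⟧' ≫ t = v' := by
      rw [Functor.map_comp, Category.assoc, ht', ← Category.assoc, ← Functor.map_comp, hSσ,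
        CategoryTheory.Functor.map_id, Category.id_comp]
    rw [hv', ← h5, ← Category.assoc, h31, zero_comp]
  constructor
  · intro v v' hvv
    have h0 : (δ ≫ β) ≫ (v - v') = 0 := by
      rw [Preadditive.comp_sub]
      exact sub_eq_zero.mpr hvv
    exact sub_eq_zero.mp (hinj _ h0)
  · intro u
    obtain ⟨w, hw⟩ := hE0.2 (π ≫ u)
    have hw' : θ ≫ w = π ≫ u := hw
    have h0 : (S ≫ θ) ≫ w = 0 := by
      rw [Category.assoc, hw', ← Category.assoc, hSπ, zero_comp]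
    obtain ⟨v, hv⟩ : ∃ v : C ⟶ E, w = β ≫ v := Triangle.yoneda_exact₂ _ hT w h0
    refine ⟨v, ?_⟩
    show (δ ≫ β) ≫ v = u
    rw [Category.assoc, ← hv, ← hδθ, Category.assoc, hw', ← Category.assoc, hδπ, Category.id_comp]

end Groth.Agent.Lib.Helper36.CC
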