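import Mathlib
import Groth.Prelude.Def_DRing3

/-!
Helper (helper36): module-level criterion for derived completeness.

For an `A`-module `M` and `f : A`, `M[0]` has `Hom_{D(A)}(A_f, M[n]) = 0` for all `n` iff the operator
`(m_i) ↦ (m_i - f m_{i+1})` on sequences in `M` is bijective (`SeqComplete f M`).
Main results: `isDerivedComplete_iff`, plus kernel / cokernel / image closure of `SeqComplete`.
-/

set_option autoImplicit false
universe u v w
attribute [local instance] HasDerivedCategory.standard

namespace Groth.Agent.Lib.Helper36.DC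

open CategoryTheory Abelian Polynomial

section alg
variable {A : Type u} [CommRing A] (f : A)

/-- multiplication by `1 - f X` on `A[X]`. -/
noncomputable def dMap : A[X] →ₗ[A] A[X] := LinearMap.mulLeft A (1 - C f * X)

/-- evaluation at `1/f`. -/
noncomputable def evMap : A[X] →ₗ[A] Localization.Away f :=
  (Polynomial.aeval (IsLocalization.Away.invSelf (S := Localization.Away f) f)).toLinearMap

lemma dMap_apply (p : A[X]) : dMap f p = (1 - C f * X) * p := rfl

lemma evMap_apply (p : A[X]) :
    evMap f p = Polynomial.aeval (IsLocalization.Away.invSelf (S := Localization.Away f) f) p := rfl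

lemma dMap_injective : Function.Injective (dMap f) := by
  rw [← LinearMap.ker_eq_bot, LinearMap.ker_eq_bot']
  intro p hp
  rw [dMap_apply] at hp
  have h1 : ((1 - C f * X : A[X]) : PowerSeries A) * (p : PowerSeries A) = 0 := by
    rw [← Polynomial.coe_mul, hp, Polynomial.coe_zero]
  have hu : IsUnit ((1 - C f * X : A[X]) : PowerSeries A) := by
    rw [PowerSeries.isUnit_iff_constantCoeff]
    simp
  have := hu.mul_right_eq_zero.mp h1
  exact_mod_cast this

lemma evMap_surjective : Function.Surjective (evMap f) := by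
  intro y
  obtain ⟨n, a, h⟩ := IsLocalization.Away.surj (S := Localization.Away f) f y
  refine ⟨C a * X ^ n, ?_⟩
  rw [evMap_apply]
  simp only [map_mul, aeval_C, map_pow, aeval_X]
  rw [← h, mul_assoc, ← mul_pow, IsLocalization.Away.mul_invSelf, one_pow, mul_one]

lemma evMap_dMap (p : A[X]) : evMap f (dMap f p) = 0 := by
  rw [dMap_apply, evMap_apply]
  simp [IsLocalization.Away.mul_invSelf]

lemma exists_of_evMap_eq_zero (p : A[X]) (hp : evMap f p = 0) : ∃ q, dMap f q = p := by
  have h1 : AdjoinRoot.mk (C f * X - 1) p = 0 := by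
    apply (Localization.awayEquivAdjoin f).symm.injective
    rw [map_zero, ← hp, evMap_apply, ← AdjoinRoot.aeval_eq]
    have h2 : (Localization.awayEquivAdjoin f).symm (AdjoinRoot.root (C f * X - 1)) =
        IsLocalization.Away.invSelf (S := Localization.Away f) f :=
      AdjoinRoot.liftAlgHom_root (C f * X - 1) (Algebra.ofId A (Localization.Away f)) _
        (show aeval _ _ = _ by simp)
    rw [← h2]
    exact (Polynomial.aeval_algHom_apply
      ((Localization.awayEquivAdjoin f).symm : AdjoinRoot (C f * X - 1) →ₐ[A] Localization.Away f)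
      (AdjoinRoot.root (C f * X - 1)) p).symm
  rw [AdjoinRoot.mk_eq_zero] at h1
  obtain ⟨q, rfl⟩ := h1
  exact ⟨-q, by rw [dMap_apply]; ring⟩

end alg


section ext
variable {A : Type u} [CommRing A] (I : Ideal A) {M : Type u} [AddCommGroup M] [Module A M]

lemma hom_away_eq_zero [IsHausdorff I M] (f : A) (hf : f ∈ I)
    (φ : Localization.Away f →ₗ[A] M) : φ = 0 := by
  ext y
  apply IsHausdorff.haus' (I := I)
  intro k
  rw [SModEq.sub_mem, sub_zero]
  have : y = f ^ k • (y * IsLocalization.Away.invSelf (S := Localization.Away f) f ^ k) := by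
    rw [Algebra.smul_def, map_pow, mul_comm y, ← mul_assoc, ← mul_pow,
      IsLocalization.Away.mul_invSelf, one_pow, one_mul]
  rw [this, map_smul]
  exact Submodule.smul_mem_smul (Ideal.pow_mem_pow hf k) trivial

lemma exists_extension [IsAdicComplete I M] (f : A) (hf : f ∈ I) (φ : A[X] →ₗ[A] M) :
    ∃ ψ : A[X] →ₗ[A] M, ψ ∘ₗ dMap f = φ := by
  set c : ℕ → M := fun i => φ (X ^ i) with hc
  set s : ℕ → ℕ → M := fun i k => ∑ j ∈ Finset.range k, f ^ j • c (i + j) with hs
  have hs_succ : ∀ i k, s i (k+1) = c i + f • s (i+1) k := by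
    intro i k
    simp only [hs]
    rw [Finset.sum_range_succ', Finset.smul_sum, add_comm]
    congr 1
    · simp
    · apply Finset.sum_congr rfl
      intro j _
      rw [smul_smul, pow_succ', add_assoc, add_comm 1 j]
  have hcauchy : ∀ i, ∀ {m n}, m ≤ n → s i m ≡ s i n [SMOD (I ^ m • ⊤ : Submodule A M)] := by
    intro i m n hmn
    rw [SModEq.sub_mem, ← neg_sub, neg_mem_iff]
    simp only [hs]
    rw [← Finset.sum_Ico_eq_sub _ hmn]
    apply Submodule.sum_mem
    intro j hj
    rw [Finset.mem_Ico] at hj
    exact Submodule.smul_mem_smul (Ideal.pow_le_pow_right hj.1 (Ideal.pow_mem_pow hf j)) trivial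
  choose m hm using fun i => IsPrecomplete.prec (I := I) ‹IsAdicComplete I M›.toIsPrecomplete
    (fun {a b} h => hcauchy i h)
  refine ⟨(Polynomial.basisMonomials A).constr A m, ?_⟩
  apply Polynomial.lhom_ext'
  intro i
  ext
  simp only [LinearMap.coe_comp, Function.comp_apply]
  have e1 : dMap f (monomial i (1:A)) = monomial i (1:A) - f • monomial (i+1) (1:A) := by
    rw [dMap_apply, sub_mul, one_mul, mul_assoc, X_mul_monomial, ← smul_eq_C_mul]
  have e2 : ∀ j, (Polynomial.basisMonomials A).constr A m (monomial j (1:A)) = m j := by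
    intro j
    have := (Polynomial.basisMonomials A).constr_basis A m j
    rwa [Polynomial.coe_basisMonomials] at this
  rw [e1, map_sub, map_smul, e2, e2]
  have e3 : φ (monomial i (1:A)) = c i := by
    simp only [hc, X_pow_eq_monomial]
  rw [e3, ← sub_eq_zero]
  apply IsHausdorff.haus' (I := I)
  intro k
  rw [SModEq.sub_mem, sub_zero]
  have h1 : s i (k+1) - m i ∈ (I ^ k • ⊤ : Submodule A M) := by
    have := hm i (k+1)
    rw [SModEq.sub_mem] at this
    exact Submodule.smul_mono_left (Ideal.pow_le_pow_right (Nat.le_succ k)) this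
  have h2 : s (i+1) k - m (i+1) ∈ (I ^ k • ⊤ : Submodule A M) := by
    have := hm (i+1) k
    rwa [SModEq.sub_mem] at this
  have h3 : m i - f • m (i + 1) - c i = f • (s (i+1) k - m (i+1)) - (s i (k+1) - m i) := by
    rw [hs_succ, smul_sub]
    abel
  rw [h3]
  exact sub_mem (Submodule.smul_mem _ _ h2) h1

end ext


section cat
variable {A : Type u} [CommRing A]

/-- Dimension shifting. -/
theorem ext_subsingleton_of_shortExact {S : ShortComplex (ModuleCat.{u} A)} (hS : S.ShortExact)
    (Y : ModuleCat.{u} A)
    (n₀ n₁ : ℕ) (h : 1 + n₀ = n₁) (h1 : Subsingleton (Ext S.X₁ Y n₀))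
    (h2 : ∀ x : Ext S.X₂ Y n₁, x = 0) : Subsingleton (Ext S.X₃ Y n₁) := by
  refine subsingleton_of_forall_eq 0 fun x₃ => ?_
  obtain ⟨x₁, rfl⟩ := Ext.contravariant_sequence_exact₃ hS Y x₃ (h2 _) h
  rw [Subsingleton.elim x₁ 0, Ext.comp_zero]

theorem ext_one_subsingleton_of_extension {S : ShortComplex (ModuleCat.{u} A)} (hS : S.ShortExact)
    (Y : ModuleCat.{u} A)
    (hext : ∀ φ : S.X₁ ⟶ Y, ∃ ψ : S.X₂ ⟶ Y, S.f ≫ ψ = φ)
    (h2 : ∀ x : Ext S.X₂ Y 1, x = 0) : Subsingleton (Ext S.X₃ Y 1) := by
  refine subsingleton_of_forall_eq 0 fun x₃ => ?_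
  obtain ⟨x₁, rfl⟩ := Ext.contravariant_sequence_exact₃ hS Y x₃ (h2 _) (rfl : 1 + 0 = 1)
  obtain ⟨φ, rfl⟩ := (Ext.mk₀_bijective _ _).2 x₁
  obtain ⟨ψ, rfl⟩ := hext φ
  rw [← Ext.mk₀_comp_mk₀]
  exact hS.extClass_comp_assoc (Ext.mk₀ ψ)

/-- The short complex `0 → A[X] → A[X] → A_f → 0`. -/
noncomputable def sc (f : A) : ShortComplex (ModuleCat.{u} A) :=
  ModuleCat.shortComplexOfCompEqZero (dMap f) (evMap f) (by ext p; simp [evMap_dMap])

lemma sc_shortExact (f : A) : (sc f).ShortExact := by
  apply ModuleCat.shortComplex_shortExact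
  · intro p
    constructor
    · intro hp
      exact exists_of_evMap_eq_zero f p hp
    · rintro ⟨q, rfl⟩
      exact evMap_dMap f q
  · exact dMap_injective f
  · exact evMap_surjective f

instance (f : A) : Projective (sc f).X₂ := by
  have : Module.Projective A A[X] := inferInstance
  exact (IsProjective.iff_projective (R := A) (P := A[X])).mp this |> fun h => h

instance (f : A) : Projective (sc f).X₁ := by
  have : Module.Projective A A[X] := inferInstance
  exact (IsProjective.iff_projective (R := A) (P := A[X])).mp this |> fun h => h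

end cat

section crit
variable {A : Type u} [CommRing A]

/-- `M` is `f`-sequentially complete: the operator `(m_i) ↦ (m_i - f m_{i+1})` on sequences of
elements of `M` is injective and surjective. -/
def SeqComplete (f : A) (M : Type*) [AddCommGroup M] [Module A M] : Prop :=
  (∀ m : ℕ → M, (∀ i, m i = f • m (i + 1)) → ∀ i, m i = 0) ∧
  (∀ c : ℕ → M, ∃ m : ℕ → M, ∀ i, m i = c i + f • m (i + 1))

variable {M : Type u} [AddCommGroup M] [Module A M]

lemma constr_monomial (m : ℕ → M) (j : ℕ) :
    (Polynomial.basisMonomials A).constr A m (monomial j (1:A)) = m j := by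
  have := (Polynomial.basisMonomials A).constr_basis A m j
  rwa [Polynomial.coe_basisMonomials] at this

lemma dMap_monomial (f : A) (i : ℕ) :
    dMap f (monomial i (1:A)) = monomial i (1:A) - f • monomial (i+1) (1:A) := by
  rw [dMap_apply, sub_mul, one_mul, mul_assoc, X_mul_monomial, ← smul_eq_C_mul]

/-- Extension along `dMap f` from a solution of the recursion. -/
lemma exists_extension_of_seq (f : A) (φ : A[X] →ₗ[A] M) (m : ℕ → M)
    (hm : ∀ i, m i = φ (monomial i 1) + f • m (i + 1)) :
    ((Polynomial.basisMonomials A).constr A m) ∘ₗ dMap f = φ := by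
  apply Polynomial.lhom_ext'
  intro i
  ext
  simp only [LinearMap.coe_comp, Function.comp_apply]
  rw [dMap_monomial, map_sub, map_smul, constr_monomial, constr_monomial, hm i]
  abel

lemma seqComplete_of_hom (f : A)
    (h0 : ∀ φ : Localization.Away f →ₗ[A] M, φ = 0)
    (h1 : ∀ φ : A[X] →ₗ[A] M, ∃ ψ : A[X] →ₗ[A] M, ψ ∘ₗ dMap f = φ) : SeqComplete f M := by
  constructor
  · intro m hm i
    set ψ := (Polynomial.basisMonomials A).constr A m with hψ
    have h2 : ψ ∘ₗ dMap f = 0 := by
      have := exists_extension_of_seq f (0 : A[X] →ₗ[A] M) m (by simpa using hm)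
      exact this
    have hS := sc_shortExact f
    have : Epi (sc f).g := hS.epi_g
    have h3 : (sc f).f ≫ ModuleCat.ofHom ψ = 0 := by
      ext x
      exact congrArg (fun g => g x) h2
    have h4 := hS.exact.g_desc (ModuleCat.ofHom ψ) h3
    have h5 : hS.exact.desc (ModuleCat.ofHom ψ) h3 = 0 := by
      ext y
      exact congrArg (fun g => g y) (h0 (hS.exact.desc (ModuleCat.ofHom ψ) h3).hom)
    rw [h5, Limits.comp_zero] at h4
    have h6 : ψ (monomial i 1) = 0 := by
      have := congrArg (fun g => g.hom (monomial i (1:A))) h4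
      exact this.symm
    rwa [hψ, constr_monomial] at h6
  · intro c
    obtain ⟨ψ, hψ⟩ := h1 ((Polynomial.basisMonomials A).constr A c)
    refine ⟨fun i => ψ (monomial i 1), fun i => ?_⟩
    have := congrArg (fun g => g (monomial i (1:A))) hψ
    simp only [LinearMap.coe_comp, Function.comp_apply] at this
    rw [dMap_monomial, map_sub, map_smul, constr_monomial] at this
    rw [← this]
    abel

lemma hom_eq_zero_of_seqComplete (f : A) (h : SeqComplete f M)
    (φ : Localization.Away f →ₗ[A] M) : φ = 0 := by
  have h1 : ∀ i, φ (IsLocalization.Away.invSelf (S := Localization.Away f) f ^ i) = 0 := by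
    apply h.1
    intro i
    rw [← map_smul, pow_succ, Algebra.smul_def, mul_comm _ (IsLocalization.Away.invSelf f),
      ← mul_assoc, IsLocalization.Away.mul_invSelf, one_mul]
  ext y
  obtain ⟨n, a, hy⟩ := IsLocalization.Away.surj (S := Localization.Away f) f y
  have : y = a • IsLocalization.Away.invSelf (S := Localization.Away f) f ^ n := by
    rw [Algebra.smul_def, ← hy, mul_assoc, ← mul_pow, IsLocalization.Away.mul_invSelf, one_pow,
      mul_one]
  rw [this, map_smul, h1, smul_zero, LinearMap.zero_apply]

lemma exists_extension_of_seqComplete (f : A) (h : SeqComplete f M) (φ : A[X] →ₗ[A] M) :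
    ∃ ψ : A[X] →ₗ[A] M, ψ ∘ₗ dMap f = φ := by
  obtain ⟨m, hm⟩ := h.2 (fun i => φ (monomial i 1))
  exact ⟨_, exists_extension_of_seq f φ m hm⟩

end crit

section derived
variable {A : Type u} [CommRing A] {M : Type u} [AddCommGroup M] [Module A M]

/-- Converse direction of the degree-one criterion. -/
theorem exists_extension_of_ext_one_eq_zero {S : ShortComplex (ModuleCat.{u} A)} (hS : S.ShortExact)
    (Y : ModuleCat.{u} A)
    (h : ∀ x : Ext S.X₃ Y 1, x = 0) (φ : S.X₁ ⟶ Y) : ∃ ψ : S.X₂ ⟶ Y, S.f ≫ ψ = φ := by
  obtain ⟨x₂, hx₂⟩ := Ext.contravariant_sequence_exact₁ hS Y (Ext.mk₀ φ) (rfl : 1 + 0 = 1) (h _)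
  obtain ⟨ψ, rfl⟩ := (Ext.mk₀_bijective _ _).2 x₂
  refine ⟨ψ, ?_⟩
  rw [Ext.mk₀_comp_mk₀] at hx₂
  exact (Ext.mk₀_bijective _ _).1 hx₂

/-- The vanishing of all `Hom_{D(A)}(A_f, M[n])` from the module-level conditions. -/
theorem subsingleton_hom_of_seqComplete (f : A) (h : SeqComplete f M) (n : ℤ) :
    Subsingleton (Dual.inD A (Localization.Away f) ⟶ (Dual.inD A M)⟦n⟧) := by
  obtain hn | hn := lt_or_ge n 0
  · refine subsingleton_of_forall_eq 0 fun φ => ?_
    have h1 : DerivedCategory.TStructure.t.IsLE (Dual.inD A (Localization.Away f)) 0 := by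
      dsimp only [Dual.inD]; infer_instance
    have h2 : DerivedCategory.TStructure.t.IsGE (Dual.inD A M) 0 := by
      dsimp only [Dual.inD]; infer_instance
    have h3 : DerivedCategory.TStructure.t.IsGE ((Dual.inD A M)⟦n⟧) (-n) :=
      DerivedCategory.TStructure.t.isGE_shift _ 0 n (-n) (by omega)
    exact DerivedCategory.TStructure.t.zero_of_isLE_of_isGE φ 0 (-n) (by omega) h1 h3
  · obtain ⟨k, rfl⟩ := Int.eq_ofNat_of_zero_le hn
    have hS := sc_shortExact f
    suffices h : Subsingleton (Ext (ModuleCat.of A (Localization.Away f)) (ModuleCat.of A M) k) from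
      (Ext.homEquiv (X := ModuleCat.of A (Localization.Away f))
        (Y := ModuleCat.of A M) (n := k)).symm.subsingleton
    obtain _ | _ | k := k
    · refine subsingleton_of_forall_eq 0 fun x => ?_
      obtain ⟨φ, rfl⟩ := (Ext.mk₀_bijective _ _).2 x
      have : φ = 0 := by
        ext y
        have := hom_eq_zero_of_seqComplete f h φ.hom
        exact congrArg (fun g => g y) this
      rw [this, Ext.mk₀_zero]
    · refine ext_one_subsingleton_of_extension hS (ModuleCat.of A M) (fun φ => ?_)
        (fun x => Ext.eq_zero_of_projective x)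
      obtain ⟨ψ, hψ⟩ := exists_extension_of_seqComplete f h φ.hom
      refine ⟨ModuleCat.ofHom ψ, ?_⟩
      ext x
      exact congrArg (fun g => g x) hψ
    · refine ext_subsingleton_of_shortExact hS (ModuleCat.of A M) (k+1) (k+1+1) (by omega)
        ⟨fun x y => ?_⟩ (fun x => Ext.eq_zero_of_projective x)
      rw [Ext.eq_zero_of_projective x, Ext.eq_zero_of_projective y]

/-- From the vanishing of `Hom_{D(A)}(A_f, M[n])` for `n = 0, 1` to the module-level conditions. -/
theorem seqComplete_of_subsingleton_hom (f : A)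
    (h : ∀ n : ℤ, Subsingleton (Dual.inD A (Localization.Away f) ⟶ (Dual.inD A M)⟦n⟧)) :
    SeqComplete f M := by
  have hE : ∀ k : ℕ,
      Subsingleton (Ext (ModuleCat.of A (Localization.Away f)) (ModuleCat.of A M) k) := by
    intro k
    have := h (k : ℤ)
    exact (Ext.homEquiv (X := ModuleCat.of A (Localization.Away f))
        (Y := ModuleCat.of A M) (n := k)).subsingleton
  have hS := sc_shortExact f
  apply seqComplete_of_hom
  · intro φ
    have h0 := hE 0
    have : Ext.mk₀ (ModuleCat.ofHom φ) = Ext.mk₀ (0 : ModuleCat.of A (Localization.Away f) ⟶ ModuleCat.of A M) :=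
      Subsingleton.elim _ _
    have h2 := (Ext.mk₀_bijective _ _).1 this
    ext y
    exact congrArg (fun g => g.hom y) h2
  · intro φ
    have h1 : Subsingleton (Ext (sc f).X₃ (ModuleCat.of A M) 1) := hE 1
    obtain ⟨ψ, hψ⟩ := exists_extension_of_ext_one_eq_zero hS (ModuleCat.of A M)
      (fun x => Subsingleton.elim _ _) (ModuleCat.ofHom φ)
    refine ⟨ψ.hom, ?_⟩
    apply LinearMap.ext
    intro x
    exact congrArg (fun g => g.hom x) hψ

theorem isDerivedComplete_iff (I : Ideal A) :
    DRing.IsDerivedComplete I (Dual.inD A M) ↔ ∀ f ∈ I, SeqComplete f M :=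
  ⟨fun h f hf => seqComplete_of_subsingleton_hom f (h f hf),
   fun h f hf n => subsingleton_hom_of_seqComplete f (h f hf) n⟩

end derived

section closure
variable {A : Type u} [CommRing A] {f : A}
variable {M : Type v} [AddCommGroup M] [Module A M] {N : Type w} [AddCommGroup N] [Module A N]

/-- Uniqueness of solutions of the recursion. -/
lemma SeqComplete.unique (h : SeqComplete f M) {c m m' : ℕ → M}
    (hm : ∀ i, m i = c i + f • m (i + 1)) (hm' : ∀ i, m' i = c i + f • m' (i + 1)) (i : ℕ) :
    m i = m' i := by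
  have := h.1 (fun i => m i - m' i) (fun i => by
    show m i - m' i = f • (m (i+1) - m' (i+1))
    rw [hm i, hm' i, smul_sub]; abel) i
  exact sub_eq_zero.mp this

/-- The "sum of the power series" `∑ f^i c_i`. -/
noncomputable def SeqComplete.sum (h : SeqComplete f M) (c : ℕ → M) : M :=
  (h.2 c).choose 0

lemma SeqComplete.sum_eq (h : SeqComplete f M) {c m : ℕ → M}
    (hm : ∀ i, m i = c i + f • m (i + 1)) (i : ℕ) : m i = h.sum (fun j => c (i + j)) := by
  have h1 := (h.2 (fun j => c (i + j))).choose_spec
  have := h.unique (c := fun j => c (i + j)) (m := fun j => m (i + j))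
    (m' := (h.2 (fun j => c (i + j))).choose) (fun j => by
      show m (i + j) = c (i + j) + f • m (i + (j + 1))
      rw [hm (i + j), add_assoc]) h1 0
  simp only [add_zero] at this
  exact this

lemma SeqComplete.sum_succ (h : SeqComplete f M) (c : ℕ → M) :
    h.sum c = c 0 + f • h.sum (fun j => c (1 + j)) := by
  have h1 := (h.2 c).choose_spec
  have h2 := h.sum_eq h1 1
  have h3 := h1 0
  rw [h2] at h3
  exact h3

lemma SeqComplete.sum_eq_finset_sum_add (h : SeqComplete f M) (c : ℕ → M) (n : ℕ) :
    h.sum c = ∑ i ∈ Finset.range n, f ^ i • c i + f ^ n • h.sum (fun j => c (n + j)) := by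
  induction n with
  | zero => simp
  | succ n ih =>
    rw [ih, Finset.sum_range_succ, h.sum_succ (fun j => c (n + j)), smul_add, smul_smul,
      ← pow_succ, add_assoc]
    simp only [add_zero, add_assoc]

lemma SeqComplete.sum_zero (h : SeqComplete f M) : h.sum (fun _ => (0 : M)) = 0 := by
  have := h.sum_eq (c := fun _ => (0:M)) (m := fun _ => (0:M)) (by simp) 0
  exact this.symm

lemma SeqComplete.sum_add (h : SeqComplete f M) (c c' : ℕ → M) :
    h.sum (fun i => c i + c' i) = h.sum c + h.sum c' := by
  have h1 := (h.2 c).choose_spec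
  have h2 := (h.2 c').choose_spec
  have := h.sum_eq (c := fun i => c i + c' i)
    (m := fun i => (h.2 c).choose i + (h.2 c').choose i) (fun i => by
      show (h.2 c).choose i + (h.2 c').choose i = _
      rw [h1 i, h2 i, smul_add]; abel) 0
  simp only [zero_add] at this
  exact this.symm

lemma SeqComplete.sum_smul (h : SeqComplete f M) (a : A) (c : ℕ → M) :
    h.sum (fun i => a • c i) = a • h.sum c := by
  have h1 := (h.2 c).choose_spec
  have := h.sum_eq (c := fun i => a • c i)
    (m := fun i => a • (h.2 c).choose i) (fun i => by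
      show a • (h.2 c).choose i = _
      rw [h1 i, smul_add, smul_comm a f]) 0
  simp only [zero_add] at this
  exact this.symm

/-- Compatibility of sums with linear maps. -/
lemma SeqComplete.map_sum (h : SeqComplete f M) (h' : SeqComplete f N) (u : M →ₗ[A] N)
    (c : ℕ → M) : u (h.sum c) = h'.sum (fun i => u (c i)) := by
  have h1 := (h.2 c).choose_spec
  have := h'.sum_eq (c := fun i => u (c i))
    (m := fun i => u ((h.2 c).choose i)) (fun i => by
      show u ((h.2 c).choose i) = _
      rw [h1 i, map_add, map_smul]) 0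
  simp only [zero_add] at this
  exact this

lemma SeqComplete.of_linearEquiv (h : SeqComplete f M) (e : M ≃ₗ[A] N) : SeqComplete f N := by
  constructor
  · intro m hm i
    have := h.1 (fun i => e.symm (m i)) (fun i => by
      show e.symm (m i) = f • e.symm (m (i+1))
      rw [← map_smul, ← hm i]) i
    simpa using this
  · intro c
    obtain ⟨m, hm⟩ := h.2 (fun i => e.symm (c i))
    refine ⟨fun i => e (m i), fun i => ?_⟩
    show e (m i) = _
    rw [hm i, map_add, map_smul]
    simp

lemma SeqComplete.ker (h : SeqComplete f M) (h' : SeqComplete f N) (u : M →ₗ[A] N) :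
    SeqComplete f (LinearMap.ker u) := by
  constructor
  · intro m hm i
    have := h.1 (fun i => (m i : M)) (fun i => by
      show (m i : M) = f • (m (i+1) : M)
      rw [← Submodule.coe_smul, ← hm i]) i
    exact Subtype.ext this
  · intro c
    obtain ⟨m, hm⟩ := h.2 (fun i => (c i : M))
    have hu : ∀ i, u (m i) = 0 := by
      apply h'.1
      intro i
      rw [hm i, map_add, map_smul, (c i).2, zero_add]
    refine ⟨fun i => ⟨m i, hu i⟩, fun i => Subtype.ext ?_⟩
    exact hm i

lemma SeqComplete.range (h : SeqComplete f M) (h' : SeqComplete f N) (u : M →ₗ[A] N) :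
    SeqComplete f (LinearMap.range u) := by
  constructor
  · intro m hm i
    have := h'.1 (fun i => (m i : N)) (fun i => by
      show (m i : N) = f • (m (i+1) : N)
      rw [← Submodule.coe_smul, ← hm i]) i
    exact Subtype.ext this
  · intro c
    choose c' hc' using fun i => (c i).2
    obtain ⟨m, hm⟩ := h.2 c'
    refine ⟨fun i => ⟨u (m i), ⟨m i, rfl⟩⟩, fun i => Subtype.ext ?_⟩
    show u (m i) = (c i : N) + f • u (m (i+1))
    rw [hm i, map_add, map_smul, hc']

lemma SeqComplete.quotient (h : SeqComplete f N) (P : Submodule A N) (hP : SeqComplete f P) :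
    SeqComplete f (N ⧸ P) := by
  constructor
  · intro q hq i
    choose n hn using fun i => Submodule.Quotient.mk_surjective P (q i)
    have hp : ∀ i, n i - f • n (i+1) ∈ P := by
      intro i
      rw [← Submodule.Quotient.mk_eq_zero, Submodule.Quotient.mk_sub, Submodule.Quotient.mk_smul,
        hn, hn, ← hq i, sub_self]
    obtain ⟨p', hp'⟩ := hP.2 (fun i => ⟨_, hp i⟩)
    have hz : ∀ i, n i - (p' i : N) = 0 := by
      apply h.1
      intro i
      have := congrArg (Subtype.val) (hp' i)
      simp only [Submodule.coe_add, Submodule.coe_smul] at this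
      rw [this, smul_sub]
      abel
    rw [← hn i, Submodule.Quotient.mk_eq_zero, sub_eq_zero.mp (hz i)]
    exact (p' i).2
  · intro c
    choose n hn using fun i => Submodule.Quotient.mk_surjective P (c i)
    obtain ⟨m, hm⟩ := h.2 n
    refine ⟨fun i => Submodule.Quotient.mk (m i), fun i => ?_⟩
    show Submodule.Quotient.mk (m i) = _
    rw [hm i, Submodule.Quotient.mk_add, Submodule.Quotient.mk_smul, hn]

lemma SeqComplete.quotient_range (h : SeqComplete f M) (h' : SeqComplete f N) (u : M →ₗ[A] N) :
    SeqComplete f (N ⧸ LinearMap.range u) :=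
  h'.quotient _ (h.range h' u)

/-- A submodule `P` of a sequentially complete module is sequentially complete as soon as it is
stable under sums of power series. -/
lemma SeqComplete.submodule (h : SeqComplete f M) (P : Submodule A M)
    (hP : ∀ c : ℕ → M, (∀ i, c i ∈ P) → h.sum c ∈ P) : SeqComplete f P := by
  constructor
  · intro m hm i
    have := h.1 (fun i => (m i : M)) (fun i => by
      show (m i : M) = f • (m (i+1) : M)
      rw [← Submodule.coe_smul, ← hm i]) i
    exact Subtype.ext this
  · intro c
    have h1 := (h.2 (fun i => (c i : M))).choose_spec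
    refine ⟨fun i => ⟨(h.2 (fun i => (c i : M))).choose i, ?_⟩, fun i => Subtype.ext (h1 i)⟩
    rw [h.sum_eq h1 i]
    exact hP _ (fun j => (c (i + j)).2)

end closure

end Groth.Agent.Lib.Helper36.DC
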