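import Mathlib
import Groth.Agent.Lib.Helper36.DerivedComplete
import Groth.Agent.Lib.Helper36.HomSingleProj

/-!
Helper (helper36): derived completeness of an arbitrary object `K` of `D(A)` in terms of its
cohomology modules: `Hom(A_f, K[n]) = 0` for all `n` iff every `H^i(K)` is `f`-sequentially complete.
-/

set_option autoImplicit false
universe u
open CategoryTheory CategoryTheory.Limits

namespace Groth.Agent.Lib.Helper36.DC

section abstract
open Pretriangulated

variable {D : Type*} [Category D] [Preadditive D] [HasZeroObject D] [HasShift D ℤ]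
  [∀ n : ℤ, (shiftFunctor D n).Additive] [Pretriangulated D]

lemma yoneda_exact_rot (T : Triangle D) (hT : T ∈ distTriang D) {X : D}
    (f : T.obj₁⟦(1 : ℤ)⟧ ⟶ X) (hf : T.mor₃ ≫ f = 0) :
    ∃ g : T.obj₂⟦(1 : ℤ)⟧ ⟶ X, f = T.mor₁⟦(1 : ℤ)⟧' ≫ g := by
  obtain ⟨g, hg⟩ : ∃ g : T.obj₂⟦(1 : ℤ)⟧ ⟶ X, f = (-(T.mor₁⟦(1 : ℤ)⟧')) ≫ g :=
    Triangle.yoneda_exact₃ _ (rot_of_distTriang _ hT) f hf
  refine ⟨-g, ?_⟩
  rw [hg, Preadditive.neg_comp, Preadditive.comp_neg]

/-- For a distinguished triangle `X₁ → X₂ → X₃ →` and an object `Y`: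
all `Hom(X₃, Y[n])` vanish iff precomposition with `X₁ → X₂` is bijective on all
`Hom(-, Y[n])`. -/
theorem forall_eq_zero_iff_bijective (T : Triangle D) (hT : T ∈ distTriang D) (Y : D) :
    (∀ n : ℤ, ∀ a : T.obj₃ ⟶ Y⟦n⟧, a = 0) ↔
      ∀ n : ℤ, Function.Bijective (fun a : T.obj₂ ⟶ Y⟦n⟧ => T.mor₁ ≫ a) := by
  constructor
  · intro h n
    constructor
    · intro a b hab
      have h0 : T.mor₁ ≫ (a - b) = 0 := by
        rw [Preadditive.comp_sub]
        exact sub_eq_zero.mpr hab
      obtain ⟨g, hg⟩ := Triangle.yoneda_exact₂ _ hT (a - b) h0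
      rw [h n g, Limits.comp_zero] at hg
      exact sub_eq_zero.mp hg
    · intro c
      have hz : T.mor₃ ≫ c⟦(1 : ℤ)⟧' = 0 := by
        have e := (shiftFunctorAdd' D n 1 (n + 1) rfl).app Y
        have h1 := h (n + 1) ((T.mor₃ ≫ c⟦(1 : ℤ)⟧') ≫ e.inv)
        have h2 := congrArg (fun k => k ≫ e.hom) h1
        simp only [Category.assoc, Iso.inv_hom_id, Category.comp_id, Limits.zero_comp] at h2
        exact h2
      obtain ⟨g, hg⟩ := yoneda_exact_rot T hT (c⟦(1 : ℤ)⟧') hz
      obtain ⟨g₀, rfl⟩ := (shiftFunctor D (1 : ℤ)).map_surjective g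
      refine ⟨g₀, ?_⟩
      apply (shiftFunctor D (1 : ℤ)).map_injective
      rw [hg]
      show (T.mor₁ ≫ g₀)⟦(1 : ℤ)⟧' = _
      rw [Functor.map_comp]
  · intro h n a
    have h1 : T.mor₂ ≫ a = 0 := by
      apply (h n).1
      show T.mor₁ ≫ T.mor₂ ≫ a = T.mor₁ ≫ 0
      rw [← Category.assoc, comp_distTriang_mor_zero₁₂ _ hT, Limits.zero_comp, Limits.comp_zero]
    obtain ⟨b, hb⟩ := Triangle.yoneda_exact₃ _ hT a h1
    have e := (shiftFunctorAdd' D (n - 1) 1 n (by omega)).app Y
    obtain ⟨c, hc⟩ := (shiftFunctor D (1 : ℤ)).map_surjective (b ≫ e.hom)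
    obtain ⟨c', hc'⟩ := (h (n - 1)).2 c
    have h2 : a ≫ e.hom = 0 := by
      rw [hb, Category.assoc, ← hc, ← hc']
      show T.mor₃ ≫ (T.mor₁ ≫ c')⟦(1 : ℤ)⟧' = 0
      rw [Functor.map_comp, ← Category.assoc, comp_distTriang_mor_zero₃₁ _ hT, Limits.zero_comp]
    have h3 := congrArg (fun k => k ≫ e.inv) h2
    simpa using h3

end abstract

section crit2
open Polynomial
variable {A : Type u} [CommRing A] {N : Type u} [AddCommGroup N] [Module A N]

theorem bijective_precomp_dMap_iff (f : A) :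
    Function.Bijective (fun ψ : A[X] →ₗ[A] N => ψ ∘ₗ dMap f) ↔ SeqComplete f N := by
  constructor
  · intro h
    constructor
    · intro m hm i
      have h2 : ((Polynomial.basisMonomials A).constr A m) ∘ₗ dMap f = (0 : A[X] →ₗ[A] N) ∘ₗ dMap f := by
        rw [LinearMap.zero_comp]
        exact exists_extension_of_seq f (0 : A[X] →ₗ[A] N) m (by simpa using hm)
      have h3 := h.1 h2
      have h4 := constr_monomial (A := A) m i
      rw [h3, LinearMap.zero_apply] at h4
      exact h4.symm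
    · intro c
      obtain ⟨ψ, hψ⟩ := h.2 ((Polynomial.basisMonomials A).constr A c)
      refine ⟨fun i => ψ (monomial i 1), fun i => ?_⟩
      have := congrArg (fun g => g (monomial i (1:A))) hψ
      simp only [LinearMap.coe_comp, Function.comp_apply] at this
      rw [dMap_monomial, map_sub, map_smul, constr_monomial] at this
      rw [← this]
      abel
  · intro h
    constructor
    · intro ψ ψ' hψ
      have h1 : ∀ i, (ψ - ψ') (monomial i 1) = 0 := by
        apply h.1
        intro i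
        have := congrArg (fun g => g (monomial i (1:A))) hψ
        simp only [LinearMap.coe_comp, Function.comp_apply] at this
        rw [dMap_monomial, map_sub, map_sub, map_smul, map_smul] at this
        rw [LinearMap.sub_apply, LinearMap.sub_apply, smul_sub]
        rw [sub_eq_sub_iff_add_eq_add] at this ⊢
        rw [this, add_comm]
      rw [← sub_eq_zero]
      apply Polynomial.lhom_ext'
      intro i
      ext
      simpa using h1 i
    · intro φ
      exact exists_extension_of_seqComplete f h φ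

end crit2

section main
open Pretriangulated DerivedCategory Polynomial
open Groth.Agent.Lib.Helper36.HSP
attribute [local instance] HasDerivedCategory.standard
variable {A : Type u} [CommRing A]

theorem bijective_precomp_iff_seqComplete (f : A) (H : ModuleCat.{u} A) :
    Function.Bijective (fun g : (sc f).X₂ ⟶ H => (sc f).f ≫ g) ↔ SeqComplete f H := by
  rw [← bijective_precomp_dMap_iff]
  have e2 := (ModuleCat.homEquiv (M := (sc f).X₂) (N := H))
  have e1 := (ModuleCat.homEquiv (M := (sc f).X₁) (N := H))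
  constructor
  · intro h
    have hb : Function.Bijective ((ModuleCat.homEquiv (M := (sc f).X₁) (N := H)) ∘
        (fun g : (sc f).X₂ ⟶ H => (sc f).f ≫ g) ∘
        (ModuleCat.homEquiv (M := (sc f).X₂) (N := H)).symm) :=
      (ModuleCat.homEquiv (M := (sc f).X₁) (N := H)).bijective.comp
        (h.comp (ModuleCat.homEquiv (M := (sc f).X₂) (N := H)).symm.bijective)
    exact hb
  · intro h
    have hb : Function.Bijective ((ModuleCat.homEquiv (M := (sc f).X₁) (N := H)).symm ∘
        (fun ψ : A[X] →ₗ[A] H => ψ ∘ₗ dMap f) ∘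
        (ModuleCat.homEquiv (M := (sc f).X₂) (N := H))) :=
      (ModuleCat.homEquiv (M := (sc f).X₁) (N := H)).symm.bijective.comp
        (h.comp (ModuleCat.homEquiv (M := (sc f).X₂) (N := H)).bijective)
    exact hb

theorem forall_subsingleton_hom_iff (f : A) (K : Dual.D A) :
    (∀ n : ℤ, Subsingleton (Dual.inD A (Localization.Away f) ⟶ K⟦n⟧)) ↔
      ∀ i : ℤ, SeqComplete f (Dual.HD A K i) := by
  have hS := sc_shortExact f
  have hT := hS.singleTriangle_distinguished
  have key := forall_eq_zero_iff_bijective hS.singleTriangle hT K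
  have e1 : (∀ n : ℤ, Subsingleton (Dual.inD A (Localization.Away f) ⟶ K⟦n⟧)) ↔
      ∀ n : ℤ, ∀ a : hS.singleTriangle.obj₃ ⟶ K⟦n⟧, a = 0 := by
    constructor
    · intro h n a
      exact (h n).elim _ _
    · intro h n
      exact ⟨fun a b => (h n a).trans (h n b).symm⟩
  rw [e1, key]
  refine forall_congr' fun n => ?_
  have hP2 : Module.Projective A ((sc f).X₂) := inferInstanceAs (Module.Projective A A[X])
  have hP1 : Module.Projective A ((sc f).X₁) := inferInstanceAs (Module.Projective A A[X])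
  have hΦ2 := Φ_bijective (sc f).X₂ (K⟦n⟧)
  have hΦ1 := Φ_bijective (sc f).X₁ (K⟦n⟧)
  have hsq : Φ (sc f).X₁ (K⟦n⟧) ∘ (fun a : hS.singleTriangle.obj₂ ⟶ K⟦n⟧ =>
        hS.singleTriangle.mor₁ ≫ a) =
      (fun g : (sc f).X₂ ⟶ (homologyFunctor (ModuleCat.{u} A) 0).obj (K⟦n⟧) => (sc f).f ≫ g) ∘
        Φ (sc f).X₂ (K⟦n⟧) := by
    funext a
    exact Φ_precomp (sc f).f (K⟦n⟧) a
  have hb1 : Function.Bijective (fun a : hS.singleTriangle.obj₂ ⟶ K⟦n⟧ =>
        hS.singleTriangle.mor₁ ≫ a) ↔
      Function.Bijective (fun g : (sc f).X₂ ⟶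
        (homologyFunctor (ModuleCat.{u} A) 0).obj (K⟦n⟧) => (sc f).f ≫ g) := by
    constructor
    · intro h
      have : Function.Bijective ((fun g : (sc f).X₂ ⟶
          (homologyFunctor (ModuleCat.{u} A) 0).obj (K⟦n⟧) => (sc f).f ≫ g) ∘
          Φ (sc f).X₂ (K⟦n⟧)) := by
        rw [← hsq]
        exact hΦ1.comp h
      exact (Function.Bijective.of_comp_iff _ hΦ2).mp this
    · intro h
      have : Function.Bijective (Φ (sc f).X₁ (K⟦n⟧) ∘
          (fun a : hS.singleTriangle.obj₂ ⟶ K⟦n⟧ => hS.singleTriangle.mor₁ ≫ a)) := by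
        rw [hsq]
        exact h.comp hΦ2
      exact (Function.Bijective.of_comp_iff' hΦ1 _).mp this
  rw [hb1, bijective_precomp_iff_seqComplete]
  let e : (homologyFunctor (ModuleCat.{u} A) 0).obj (K⟦n⟧) ≅ (homologyFunctor (ModuleCat.{u} A) n).obj K :=
    ((homologyFunctor (ModuleCat.{u} A) 0).shiftIso n 0 n (add_zero n)).app K
  exact ⟨fun h => h.of_linearEquiv e.toLinearEquiv, fun h => h.of_linearEquiv e.symm.toLinearEquiv⟩

end main

end Groth.Agent.Lib.Helper36.DC
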