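import Mathlib
import Groth.Agent.Lib.Helper36.DerivedComplete6

/-!
Helper (helper36): complexes whose terms are sequentially complete have sequentially complete
cohomology; finite free modules over a sequentially complete ring are sequentially complete.
-/

set_option autoImplicit false
universe u v w
open CategoryTheory CategoryTheory.Limits

namespace Groth.Agent.Lib.Helper36.DC

section pi
variable {A : Type u} [CommRing A] {f : A}

lemma SeqComplete.pi {ι : Type v} {M : ι → Type w} [∀ i, AddCommGroup (M i)] [∀ i, Module A (M i)]
    (h : ∀ i, SeqComplete f (M i)) : SeqComplete f (∀ i, M i) := by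
  constructor
  · intro m hm k
    funext i
    exact (h i).1 (fun k => m k i) (fun k => by
      show m k i = f • m (k + 1) i
      rw [hm k]; rfl) k
  · intro c
    choose m hm using fun i => (h i).2 (fun k => c k i)
    exact ⟨fun k i => m i k, fun k => funext fun i => hm i k⟩

lemma seqComplete_of_finite_free (h : SeqComplete f A) (M : Type v) [AddCommGroup M] [Module A M]
    [Module.Finite A M] [Module.Free A M] : SeqComplete f M :=
  (SeqComplete.pi (fun _ : Module.Free.ChooseBasisIndex A M => h)).of_linearEquiv
    (Module.Free.chooseBasis A M).equivFun.symm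

end pi

section homology
variable {A : Type u} [CommRing A] {f : A}

lemma seqComplete_homology (S : ShortComplex (ModuleCat.{u} A)) (h₁ : SeqComplete f S.X₁)
    (h₂ : SeqComplete f S.X₂) (h₃ : SeqComplete f S.X₃) : SeqComplete f S.homology := by
  have hk : SeqComplete f (LinearMap.ker S.g.hom) := h₂.ker h₃ _
  have hq : SeqComplete f (LinearMap.ker S.g.hom ⧸ LinearMap.range S.moduleCatToCycles) :=
    h₁.quotient_range hk _
  exact hq.of_linearEquiv S.moduleCatHomologyIso.symm.toLinearEquiv

attribute [local instance] HasDerivedCategory.standard

lemma seqComplete_HD_toD (E : DRing.Cx A) (h : ∀ j, SeqComplete f (E.X j)) (i : ℤ) :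
    SeqComplete f (Dual.HD A (DRing.toD E) i) := by
  have h1 : SeqComplete f (E.sc i).homology := seqComplete_homology (E.sc i) (h _) (h _) (h _)
  exact h1.of_linearEquiv
    ((DerivedCategory.homologyFunctorFactors (ModuleCat.{u} A) i).app E).symm.toLinearEquiv

end homology

end Groth.Agent.Lib.Helper36.DC
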