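import Mathlib
import Groth.Agent.Lib.Helper36.DerivedComplete

/-!
Helper (helper36): consequences of sequential completeness for finitely generated ideals:
Cauchy sequences converge (`exists_limit`), so `M → AdicCompletion I M` is surjective.
-/

set_option autoImplicit false
universe u v

namespace Groth.Agent.Lib.Helper36.DC

section limit
variable {A : Type u} [CommRing A] {M : Type v} [AddCommGroup M] [Module A M]

/-- Elements of `(f_1, …, f_r)^{r n + 1} M` are combinations of the `f_i^n`. -/
theorem exists_repr (s : Finset A) (n : ℕ) :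
    ∀ z ∈ ((Ideal.span (s : Set A)) ^ (s.card * n + 1) • ⊤ : Submodule A M),
      ∃ c : A → M, z = ∑ f ∈ s, f ^ n • c f := by
  classical
  induction s using Finset.induction_on with
  | empty =>
    intro z hz
    refine ⟨fun _ => 0, ?_⟩
    rw [Finset.coe_empty, Ideal.span_empty, Finset.card_empty, zero_mul, zero_add, pow_one,
      Submodule.bot_smul, Submodule.mem_bot] at hz
    rw [hz, Finset.sum_empty]
  | insert f s hfs ih =>
    intro z hz
    rw [Finset.card_insert_of_notMem hfs, Finset.coe_insert, Ideal.span_insert, add_mul, one_mul,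
      add_comm (s.card * n) n, add_assoc] at hz
    have h1 := Submodule.smul_mono_left (N := (⊤ : Submodule A M))
      (Ideal.sup_pow_add_le_pow_sup_pow (I := Ideal.span {f}) (J := Ideal.span (s : Set A))
        (n := n) (m := s.card * n + 1)) hz
    rw [Submodule.sup_smul, Ideal.span_singleton_pow, Submodule.ideal_span_singleton_smul] at h1
    obtain ⟨y, hy, z', hz', rfl⟩ := Submodule.mem_sup.mp h1
    obtain ⟨m, -, rfl⟩ := hy
    obtain ⟨c, rfl⟩ := ih z' hz'
    refine ⟨Function.update c f m, ?_⟩
    rw [Finset.sum_insert hfs, Function.update_self]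
    congr 1
    apply Finset.sum_congr rfl
    intro g hg
    rw [Function.update_of_ne]
    rintro rfl
    exact hfs hg

/-- Cauchy sequences converge in a module which is sequentially complete with respect to each of
finitely many generators of the ideal. -/
theorem exists_limit (s : Finset A) (hM : ∀ f ∈ s, SeqComplete f M) (x : ℕ → M)
    (hx : ∀ {m n : ℕ}, m ≤ n → x n - x m ∈ ((Ideal.span (s : Set A)) ^ m • ⊤ : Submodule A M)) :
    ∃ y : M, ∀ n, y - x n ∈ ((Ideal.span (s : Set A)) ^ n • ⊤ : Submodule A M) := by
  classical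
  set I := Ideal.span (s : Set A) with hI
  set e : ℕ → ℕ := fun n => (s.card + 1) * n + 1 with he
  have he_mono : ∀ n, e n ≤ e (n + 1) := fun n => by simp only [he]; nlinarith
  have he_ge : ∀ n, n ≤ e n := fun n => by simp only [he]; nlinarith
  have he_ge' : ∀ n, s.card * n + 1 ≤ e n := fun n => by simp only [he]; nlinarith
  have hz : ∀ n, ∃ c : A → M, x (e (n + 1)) - x (e n) = ∑ f ∈ s, f ^ n • c f := fun n =>
    exists_repr s n _ (Submodule.smul_mono_left (Ideal.pow_le_pow_right (he_ge' n))
      (hx (he_mono n)))
  choose c hc using hz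
  set S : A → ℕ → M := fun f N =>
    if hf : f ∈ s then (hM f hf).sum (fun n => c (N + n) f) else 0 with hS
  have hS_eq : ∀ f ∈ s, ∀ N, S f 0 = ∑ n ∈ Finset.range N, f ^ n • c n f + f ^ N • S f N := by
    intro f hf N
    simp only [hS, dif_pos hf]
    have := (hM f hf).sum_eq_finset_sum_add (fun n => c n f) N
    simpa using this
  have hxe : ∀ N, x (e N) = x (e 0) + ∑ n ∈ Finset.range N, ∑ f ∈ s, f ^ n • c n f := by
    intro N
    have := Finset.sum_range_sub (fun n => x (e n)) N
    simp only [hc] at this
    rw [this]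
    abel
  have hy : ∀ N, x (e 0) + ∑ f ∈ s, S f 0 - x (e N) = ∑ f ∈ s, f ^ N • S f N := by
    intro N
    rw [hxe N, Finset.sum_comm, Finset.sum_congr rfl (fun f hf => hS_eq f hf N),
      Finset.sum_add_distrib]
    abel
  refine ⟨x (e 0) + ∑ f ∈ s, S f 0, fun n => ?_⟩
  have h1 : x (e 0) + ∑ f ∈ s, S f 0 - x n =
      (x (e 0) + ∑ f ∈ s, S f 0 - x (e n)) + (x (e n) - x n) := by abel
  rw [h1, hy n]
  refine add_mem (Submodule.sum_mem _ fun f hf => ?_) (hx (he_ge n))
  exact Submodule.smul_mem_smul (Ideal.pow_mem_pow (Ideal.subset_span hf) n) trivial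

/-- `M → AdicCompletion I M` is surjective when `M` is sequentially complete with respect to each
of finitely many generators of `I`. -/
theorem of_surjective (s : Finset A) (hM : ∀ f ∈ s, SeqComplete f M) :
    Function.Surjective (AdicCompletion.of (Ideal.span (s : Set A)) M) := by
  intro x
  obtain ⟨a, rfl⟩ := AdicCompletion.mk_surjective _ _ x
  obtain ⟨y, hy⟩ := exists_limit s hM a (fun {m n} hmn => by
    have := a.property hmn
    rw [SModEq.sub_mem] at this
    rw [← neg_sub, neg_mem_iff]
    exact this)
  refine ⟨y, ?_⟩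
  apply AdicCompletion.ext
  intro n
  rw [AdicCompletion.of_apply, AdicCompletion.mk_apply_coe, Submodule.mkQ_apply,
    Submodule.mkQ_apply, Submodule.Quotient.eq]
  exact hy n

end limit

end Groth.Agent.Lib.Helper36.DC
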