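import Mathlib
import Groth.Agent.Lib.Helper36.DerivedComplete2

/-!
Helper (helper36): more consequences of sequential completeness:
* `SeqComplete.of_smul_eq` (change of ring),
* `smul_eq_zero_of_mem_iInf` (`⋂ f^n A` kills `⋂ f^n M`),
* `iInf_pow_pow_eq_bot` (`(⋂ I^n)^(2^r) = 0` in a ring sequentially complete w.r.t. `r` generators).
-/

set_option autoImplicit false
universe u v

namespace Groth.Agent.Lib.Helper36.DC

section more
variable {A : Type u} [CommRing A] {M : Type v} [AddCommGroup M] [Module A M]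

lemma SeqComplete.of_smul_eq {A' : Type*} [CommRing A'] [Module A' M] {f : A} {f' : A'}
    (h : SeqComplete f M) (hf : ∀ m : M, f' • m = f • m) : SeqComplete f' M := by
  constructor
  · intro m hm i
    exact h.1 m (fun i => by rw [hm i, hf]) i
  · intro c
    obtain ⟨m, hm⟩ := h.2 c
    exact ⟨m, fun i => by rw [hf]; exact hm i⟩

/-- Every element of `⋂ f^n M` is the sum of a power series `∑ f^n t_n` with `f^n t_n = 0`. -/
theorem exists_torsion_seq {f : A} (h : SeqComplete f M)
    (x : M) (hx : ∀ n : ℕ, ∃ y : M, f ^ n • y = x) :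
    ∃ t : ℕ → M, (∀ n, f ^ n • t n = 0) ∧ h.sum t = x := by
  choose y hy using hx
  refine ⟨fun n => y n - f • y (n + 1), fun n => ?_, ?_⟩
  · rw [smul_sub, smul_smul, ← pow_succ, hy, hy, sub_self]
  · have := h.sum_eq (c := fun n => y n - f • y (n + 1)) (m := y) (fun i => by abel) 0
    simp only [zero_add] at this
    rw [← this, ← hy 0, pow_zero, one_smul]

/-- `⋂ f^n A` kills `⋂ f^n M`. -/
theorem smul_eq_zero_of_forall_exists {f : A} (h : SeqComplete f M) (a : A)
    (ha : ∀ n : ℕ, ∃ b : A, b * f ^ n = a) (x : M) (hx : ∀ n : ℕ, ∃ y : M, f ^ n • y = x) :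
    a • x = 0 := by
  obtain ⟨t, ht, rfl⟩ := exists_torsion_seq h x hx
  rw [← h.sum_smul]
  have : (fun i => a • t i) = fun _ => (0 : M) := by
    funext n
    obtain ⟨b, rfl⟩ := ha n
    rw [mul_smul, ht, smul_zero]
  rw [this, h.sum_zero]

theorem iInf_span_pow_sq_eq_bot {f : A} (h : SeqComplete f A) :
    (⨅ n : ℕ, Ideal.span {f ^ n}) * (⨅ n : ℕ, Ideal.span {f ^ n}) = ⊥ := by
  rw [eq_bot_iff, Ideal.mul_le]
  intro a ha x hx
  rw [Ideal.mem_iInf] at ha hx
  rw [Ideal.mem_bot, ← smul_eq_mul]
  refine smul_eq_zero_of_forall_exists h a (fun n => Ideal.mem_span_singleton'.mp (ha n)) x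
    (fun n => ?_)
  obtain ⟨b, hb⟩ := Ideal.mem_span_singleton'.mp (hx n)
  exact ⟨b, by rw [smul_eq_mul, mul_comm, hb]⟩

/-- The quotient `A ⧸ (a)` is sequentially complete if `A` is. -/
lemma SeqComplete.quotient_span_singleton {f : A} (h : SeqComplete f A) (a : A) :
    SeqComplete (Ideal.Quotient.mk (Ideal.span {a}) f) (A ⧸ Ideal.span {a}) := by
  have h1 : SeqComplete f (A ⧸ LinearMap.range (LinearMap.lsmul A A a)) :=
    h.quotient_range h _
  have h2 : LinearMap.range (LinearMap.lsmul A A a) = Ideal.span {a} := by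
    ext x
    rw [Ideal.mem_span_singleton']
    constructor
    · rintro ⟨y, rfl⟩
      exact ⟨y, by simp [mul_comm]⟩
    · rintro ⟨y, rfl⟩
      exact ⟨y, by simp [mul_comm]⟩
  rw [h2] at h1
  refine h1.of_smul_eq (fun m => ?_)
  obtain ⟨y, rfl⟩ := Ideal.Quotient.mk_surjective m
  rfl

end more

section nilp

/-- In a ring sequentially complete with respect to `r` elements generating `I`, the ideal
`⋂ I^n` has `2^r`-th power zero. -/
theorem iInf_pow_pow_eq_bot (r : ℕ) : ∀ (A : Type u) [CommRing A] (s : Finset A), s.card ≤ r →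
    (∀ f ∈ s, SeqComplete f A) → (⨅ n : ℕ, (Ideal.span (s : Set A)) ^ n) ^ (2 ^ r) = ⊥ := by
  classical
  induction r with
  | zero =>
    intro A _ s hs _
    have : s = ∅ := Finset.card_eq_zero.mp (Nat.le_zero.mp hs)
    subst this
    rw [pow_zero, pow_one, eq_bot_iff]
    refine (iInf_le _ 1).trans ?_
    rw [Finset.coe_empty, Ideal.span_empty, pow_one]
  | succ r ih =>
    intro A _ s hs h
    rcases s.eq_empty_or_nonempty with rfl | ⟨f, hf⟩
    · have : (⨅ n : ℕ, (Ideal.span ((∅ : Finset A) : Set A)) ^ n) = ⊥ := by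
        rw [eq_bot_iff]
        refine (iInf_le _ 1).trans ?_
        rw [Finset.coe_empty, Ideal.span_empty, pow_one]
      rw [this, ← Ideal.zero_eq_bot, zero_pow (by positivity)]
    · set J := ⨅ n : ℕ, (Ideal.span (s : Set A)) ^ n with hJ
      have hle : J ^ (2 ^ r) ≤ ⨅ n : ℕ, Ideal.span {f ^ n} := by
        refine le_iInf fun n => ?_
        set π := Ideal.Quotient.mk (Ideal.span {f ^ n}) with hπ
        set sB := (s.erase f).image π with hsB
        have hcard : sB.card ≤ r := by
          refine Finset.card_image_le.trans ?_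
          rw [Finset.card_erase_of_mem hf]
          omega
        have hB : ∀ g ∈ sB, SeqComplete g (A ⧸ Ideal.span {f ^ n}) := by
          intro g hg
          obtain ⟨g0, hg0, rfl⟩ := Finset.mem_image.mp hg
          exact (h g0 (Finset.mem_of_mem_erase hg0)).quotient_span_singleton (f ^ n)
        have ihB := ih (A ⧸ Ideal.span {f ^ n}) sB hcard hB
        have hmap : J.map π ≤ ⨅ m : ℕ, (Ideal.span (sB : Set (A ⧸ Ideal.span {f ^ n}))) ^ m := by
          refine le_iInf fun m => ?_
          have h1 : J ≤ (Ideal.span {f} ⊔ Ideal.span ((s.erase f : Finset A) : Set A)) ^ (n + m) := by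
            refine (iInf_le _ (n + m)).trans (le_of_eq ?_)
            rw [← Ideal.span_insert, ← Finset.coe_insert, Finset.insert_erase hf]
          have h2 := (Ideal.map_mono (f := π) h1).trans
            (Ideal.map_mono Ideal.sup_pow_add_le_pow_sup_pow)
          rw [Ideal.map_sup, Ideal.map_pow, Ideal.map_pow, Ideal.map_span, Ideal.map_span,
            Set.image_singleton, Ideal.span_singleton_pow, ← map_pow] at h2
          have h3 : π (f ^ n) = 0 := by
            rw [hπ, Ideal.Quotient.eq_zero_iff_mem]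
            exact Ideal.subset_span rfl
          rw [h3, Ideal.span_singleton_zero, bot_sup_eq] at h2
          rwa [hsB, Finset.coe_image]
        have h4 : (J ^ (2 ^ r)).map π = ⊥ := by
          rw [Ideal.map_pow, eq_bot_iff, ← ihB]
          exact Ideal.pow_right_mono hmap _
        rw [Ideal.map_eq_bot_iff_le_ker, hπ, Ideal.mk_ker] at h4
        exact h4
      rw [pow_succ, pow_mul, pow_two, eq_bot_iff, ← iInf_span_pow_sq_eq_bot (h f hf)]
      exact Ideal.mul_mono hle hle

end nilp

end Groth.Agent.Lib.Helper36.DC
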