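import Mathlib
import Groth.Agent.Lib.Helper36.DerivedComplete3

/-!
Helper (helper36): sequentially complete rings:
* `isPrecomplete_of_seqComplete`,
* `le_jacobson_bot`,
* `isAdicComplete_quotient_iInf` (`A ⧸ ⋂ f^n A` is `f`-adically complete),
* `henselianRing`.
-/

set_option autoImplicit false
universe u v

namespace Groth.Agent.Lib.Helper36.DC

open Polynomial

section precomplete
variable {A : Type u} [CommRing A] {M : Type v} [AddCommGroup M] [Module A M]

theorem isPrecomplete_of_seqComplete (s : Finset A) (hM : ∀ f ∈ s, SeqComplete f M) :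
    IsPrecomplete (Ideal.span (s : Set A)) M := by
  refine ⟨fun {x} hx => ?_⟩
  obtain ⟨y, hy⟩ := exists_limit s hM x (fun {m n} hmn => by
    have := hx hmn
    rw [SModEq.sub_mem] at this
    rw [← neg_sub, neg_mem_iff]
    exact this)
  refine ⟨y, fun n => ?_⟩
  rw [SModEq.sub_mem, ← neg_sub, neg_mem_iff]
  exact hy n

end precomplete

section ring
variable {A : Type u} [CommRing A]

theorem isUnit_one_sub {g : A} (h : SeqComplete g A) : IsUnit (1 - g) := by
  obtain ⟨m, hm⟩ := h.2 (fun _ => (1 : A))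
  have h1 : m 0 = m 1 := h.unique (c := fun _ => (1:A)) (m := m) (m' := fun i => m (i + 1)) hm
    (fun i => hm (i + 1)) 0
  have h2 := hm 0
  rw [← h1, smul_eq_mul, add_comm] at h2
  refine IsUnit.of_mul_eq_one (m 0) ?_
  rw [sub_mul, one_mul, sub_eq_iff_eq_add, add_comm]
  exact h2

theorem le_jacobson_bot (I : Ideal A) (h : ∀ f ∈ I, SeqComplete f A) :
    I ≤ Ideal.jacobson ⊥ := by
  intro x hx
  rw [Ideal.mem_jacobson_bot]
  intro y
  have h1 : -(x * y) ∈ I := neg_mem (I.mul_mem_right y hx)
  have := isUnit_one_sub (h _ h1)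
  rwa [sub_neg_eq_add, add_comm] at this

/-- `⋂ f^n A` is closed under sums of power series. -/
theorem seqComplete_iInf_span_pow {f : A} (h : SeqComplete f A) :
    SeqComplete f (⨅ n : ℕ, Ideal.span {f ^ n} : Ideal A) := by
  apply h.submodule
  intro c hc
  rw [Submodule.mem_iInf]
  intro n
  rw [h.sum_eq_finset_sum_add c n]
  refine add_mem (Submodule.sum_mem _ fun i _ => ?_) ?_
  · have := hc i
    rw [Submodule.mem_iInf] at this
    exact Ideal.mul_mem_left _ _ (this n)
  · exact Ideal.mul_mem_right _ _ (Ideal.subset_span rfl)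

theorem isAdicComplete_quotient_iInf {f : A} (h : SeqComplete f A) :
    IsAdicComplete (Ideal.span {Ideal.Quotient.mk (⨅ n : ℕ, Ideal.span {f ^ n}) f})
      (A ⧸ (⨅ n : ℕ, Ideal.span {f ^ n} : Ideal A)) := by
  classical
  set J : Ideal A := ⨅ n : ℕ, Ideal.span {f ^ n} with hJ
  have h1 : SeqComplete f (A ⧸ J) := h.quotient J (seqComplete_iInf_span_pow h)
  have h2 : SeqComplete (Ideal.Quotient.mk J f) (A ⧸ J) := by
    refine h1.of_smul_eq (fun m => ?_)
    obtain ⟨y, rfl⟩ := Ideal.Quotient.mk_surjective m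
    rfl
  have hP : IsPrecomplete (Ideal.span {Ideal.Quotient.mk J f}) (A ⧸ J) := by
    have := isPrecomplete_of_seqComplete ({Ideal.Quotient.mk J f} : Finset (A ⧸ J))
      (fun g hg => by rw [Finset.mem_singleton.mp hg]; exact h2)
    rwa [Finset.coe_singleton] at this
  have hH : IsHausdorff (Ideal.span {Ideal.Quotient.mk J f}) (A ⧸ J) := by
    refine ⟨fun x hx => ?_⟩
    obtain ⟨x, rfl⟩ := Ideal.Quotient.mk_surjective x
    rw [Ideal.Quotient.eq_zero_iff_mem, hJ, Ideal.mem_iInf]
    intro n
    have := hx n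
    rw [SModEq.sub_mem, sub_zero, smul_eq_mul, Ideal.mul_top, Ideal.span_singleton_pow,
      Ideal.mem_span_singleton'] at this
    obtain ⟨b, hb⟩ := this
    obtain ⟨b, rfl⟩ := Ideal.Quotient.mk_surjective b
    rw [← map_pow, ← map_mul, Ideal.Quotient.eq, hJ, Ideal.mem_iInf] at hb
    have h3 := hb n
    have h4 : b * f ^ n ∈ Ideal.span {f ^ n} := Ideal.mul_mem_left _ _ (Ideal.subset_span rfl)
    have := sub_mem h4 h3
    rwa [sub_sub_cancel] at this
  exact { toIsHausdorff := hH, toIsPrecomplete := hP }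

theorem henselianRing (I : Ideal A) (h : ∀ f ∈ I, SeqComplete f A) : HenselianRing A I where
  jac := le_jacobson_bot I h
  is_henselian := by
    intro P hP a₀ h₁ h₂
    have hloc := isLocalHom_of_le_jacobson_bot I (le_jacobson_bot I h)
    set f := P.eval a₀ with hf
    have hSC := h f h₁
    set J : Ideal A := ⨅ n : ℕ, Ideal.span {f ^ n} with hJ
    set π := Ideal.Quotient.mk J with hπ
    have hcomp := isAdicComplete_quotient_iInf hSC
    have hHens : HenselianRing (A ⧸ J) (Ideal.span {π f}) := IsAdicComplete.henselianRing _ _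
    have hJle : J ≤ Ideal.span {f} := (iInf_le _ 1).trans (by rw [pow_one])
    have hfI : Ideal.span {f} ≤ I := (Ideal.span_singleton_le_iff_mem _).mpr h₁
    have hu₀ : IsUnit (P.derivative.eval a₀) := isUnit_of_map_unit (Ideal.Quotient.mk I) _ h₂
    obtain ⟨ā, hroot, hā⟩ := hHens.is_henselian (P.map π) (hP.map π) (π a₀) (by
        rw [Polynomial.eval_map_apply]
        exact Ideal.subset_span rfl) (by
        rw [Polynomial.derivative_map, Polynomial.eval_map_apply]
        exact (hu₀.map π).map _)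
    obtain ⟨a', rfl⟩ := Ideal.Quotient.mk_surjective ā
    -- `a' - a₀ ∈ I`
    have ha' : a' - a₀ ∈ I := by
      rw [← map_sub, Ideal.mem_span_singleton'] at hā
      obtain ⟨b, hb⟩ := hā
      obtain ⟨b, rfl⟩ := Ideal.Quotient.mk_surjective b
      rw [← map_mul, Ideal.Quotient.eq] at hb
      have h3 : b * f ∈ I := I.mul_mem_left b h₁
      have h4 : b * f - (a' - a₀) ∈ I := hfI (hJle hb)
      have := sub_mem h3 h4
      rwa [sub_sub_cancel] at this
    -- `P(a') ∈ J`
    have hPa' : P.eval a' ∈ J := by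
      rw [Polynomial.IsRoot.def, Polynomial.eval_map_apply] at hroot
      exact Ideal.Quotient.eq_zero_iff_mem.mp hroot
    -- `P'(a')` is a unit
    have hu' : IsUnit (P.derivative.eval a') := by
      apply isUnit_of_map_unit (Ideal.Quotient.mk I)
      have : Ideal.Quotient.mk I (P.derivative.eval a') =
          Ideal.Quotient.mk I (P.derivative.eval a₀) := by
        rw [Ideal.Quotient.eq]
        exact Ideal.mem_of_dvd _ (Polynomial.sub_dvd_eval_sub a' a₀ P.derivative) ha'
      rw [this]
      exact h₂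
    obtain ⟨u, hu⟩ := hu'.exists_right_inv
    set e := P.eval a' * u with he
    have heJ : e ∈ J := J.mul_mem_right u hPa'
    have he2 : e ^ 2 = 0 := by
      have : e * e ∈ J * J := Ideal.mul_mem_mul heJ heJ
      rw [iInf_span_pow_sq_eq_bot hSC, Ideal.mem_bot] at this
      rw [pow_two, this]
    refine ⟨a' + -e, ?_, ?_⟩
    · obtain ⟨k, hk⟩ := Polynomial.binomExpansion P a' (-e)
      rw [Polynomial.IsRoot.def, hk, neg_pow_two, he2, mul_zero, add_zero, he, mul_neg,
        mul_comm (P.eval a') u, ← mul_assoc, hu, one_mul, add_neg_cancel]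
    · have : a' + -e - a₀ = (a' - a₀) - e := by ring
      rw [this]
      exact sub_mem ha' (hfI (hJle heJ))

end ring

end Groth.Agent.Lib.Helper36.DC
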