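import Mathlib
import Groth.Agent.Lib.Helper36.DerivedComplete4

/-!
Helper (helper36): torsion sequentially complete modules have bounded torsion.
-/

set_option autoImplicit false
universe u v

namespace Groth.Agent.Lib.Helper36.DC

section torsion
variable {A : Type u} [CommRing A] {M : Type v} [AddCommGroup M] [Module A M]

/-- Principal case of derived Nakayama: if `M = f M` and `M` is `f`-sequentially complete then
`M = 0`. -/
theorem subsingleton_of_surjective_smul {f : A} (h : SeqComplete f M)
    (hs : Function.Surjective (fun x : M => f • x)) : Subsingleton M := by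
  obtain ⟨g, hg⟩ := hs.hasRightInverse
  refine subsingleton_of_forall_eq 0 fun x => ?_
  have := h.1 (fun i => g^[i] x) (fun i => by
    show g^[i] x = f • g^[i+1] x
    rw [Function.iterate_succ_apply']
    exact (hg _).symm) 0
  simpa using this

theorem exists_pow_smul_eq_zero {f : A} (h : SeqComplete f M)
    (ht : ∀ x : M, ∃ e : ℕ, f ^ e • x = 0) : ∃ n : ℕ, ∀ x : M, f ^ n • x = 0 := by
  classical
  set D : ℕ → Submodule A M := fun k => LinearMap.range (LinearMap.lsmul A M (f ^ k)) with hD
  have hD_anti : ∀ {k l : ℕ}, k ≤ l → D l ≤ D k := by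
    rintro k l hkl x ⟨w, rfl⟩
    refine ⟨f ^ (l - k) • w, ?_⟩
    simp only [LinearMap.lsmul_apply, smul_smul, ← pow_add, Nat.add_sub_cancel' hkl]
  have hD_smul : ∀ (e k : ℕ) (x : M), x ∈ D k → f ^ e • x ∈ D k :=
    fun e k x hx => (D k).smul_mem _ hx
  have hDspan : ∀ m : ℕ, ((Ideal.span ((({f} : Finset A)) : Set A)) ^ m • ⊤ : Submodule A M) = D m := by
    intro m
    rw [Finset.coe_singleton, Ideal.span_singleton_pow, Submodule.ideal_span_singleton_smul]
    ext x
    rw [Submodule.mem_smul_pointwise_iff_exists]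
    constructor
    · rintro ⟨w, -, rfl⟩
      exact ⟨w, rfl⟩
    · rintro ⟨w, rfl⟩
      exact ⟨w, trivial, rfl⟩
  set Minf : Submodule A M := ⨅ k, D k with hMinf
  by_contra hcon
  push Not at hcon
  have hNB : ∀ n : ℕ, ∃ x : M, f ^ n • x ∉ Minf := by
    intro n
    by_contra hn
    push Not at hn
    have hsub : Subsingleton (D n) := by
      apply subsingleton_of_surjective_smul (f := f) (h.range h _)
      rintro ⟨y, w, rfl⟩
      have h1 : f ^ n • w ∈ D (n + 1) := (iInf_le D (n + 1)) (hn w)
      obtain ⟨v, hv⟩ := h1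
      refine ⟨⟨f ^ n • v, ⟨v, rfl⟩⟩, Subtype.ext ?_⟩
      show f • f ^ n • v = f ^ n • w
      rw [smul_smul, ← pow_succ']
      exact hv
    obtain ⟨x, hx⟩ := hcon n
    apply hx
    have := Subsingleton.elim (⟨f ^ n • x, ⟨x, rfl⟩⟩ : D n) 0
    exact congrArg Subtype.val this
  have hstep : ∀ (e : ℕ) (x : M) (k : ℕ), ∃ (x' : M) (k' : ℕ),
      k < k' ∧ x' - x ∈ D k ∧ f ^ e • x' ∉ D k' := by
    intro e x k
    obtain ⟨x', hx'1, hx'2⟩ : ∃ x', x' - x ∈ D k ∧ f ^ e • x' ∉ Minf := by
      by_cases hx : f ^ e • x ∈ Minf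
      · obtain ⟨w, hw⟩ := hNB (k + e)
        refine ⟨x + f ^ k • w, ?_, ?_⟩
        · rw [add_sub_cancel_left]
          exact ⟨w, rfl⟩
        · intro hmem
          apply hw
          have : f ^ (k + e) • w = f ^ e • (x + f ^ k • w) - f ^ e • x := by
            rw [smul_add, smul_smul, ← pow_add, add_comm e k]; abel
          rw [this]
          exact sub_mem hmem hx
      · exact ⟨x, by simp, hx⟩
    have : ∃ k0, f ^ e • x' ∉ D k0 := by
      by_contra hall
      push Not at hall
      exact hx'2 ((Submodule.mem_iInf _).mpr hall)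
    obtain ⟨k0, hk0⟩ := this
    exact ⟨x', max k0 (k + 1), by omega, hx'1,
      fun hmem => hk0 (hD_anti (le_max_left _ _) hmem)⟩
  choose X' K' hK hX hnot using hstep
  let st : ℕ → M × ℕ := fun e => Nat.rec (0, 0) (fun e p => (X' e p.1 p.2, K' e p.1 p.2)) e
  set x : ℕ → M := fun e => (st e).1 with hx
  set k : ℕ → ℕ := fun e => (st e).2 with hk
  have hk_lt : ∀ e, k e < k (e + 1) := fun e => hK e _ _
  have hx_succ : ∀ e, x (e + 1) - x e ∈ D (k e) := fun e => hX e _ _
  have hnot' : ∀ e, f ^ e • x (e + 1) ∉ D (k (e + 1)) := fun e => hnot e _ _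
  have hk_ge : ∀ e, e ≤ k e := by
    intro e
    induction e with
    | zero => omega
    | succ e ih => have := hk_lt e; omega
  have hk_mono : Monotone k := monotone_nat_of_le_succ (fun e => (hk_lt e).le)
  have hx_diff : ∀ {m n : ℕ}, m ≤ n → x n - x m ∈ D (k m) := by
    intro m n hmn
    induction n, hmn using Nat.le_induction with
    | base => simp
    | succ n hmn ih =>
      have : x (n + 1) - x m = (x (n + 1) - x n) + (x n - x m) := by abel
      rw [this]
      exact add_mem (hD_anti (hk_mono hmn) (hx_succ n)) ih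
  obtain ⟨y, hy⟩ := exists_limit ({f} : Finset A)
    (fun g hg => by rw [Finset.mem_singleton.mp hg]; exact h) x (fun {m n} hmn => by
      rw [hDspan]
      exact hD_anti (hk_ge m) (hx_diff hmn))
  simp only [hDspan] at hy
  obtain ⟨e, he⟩ := ht y
  have h1 : y - x (e + 1) ∈ D (k (e + 1)) := by
    have : y - x (e + 1) = (y - x (max (e + 1) (k (e + 1)))) +
        (x (max (e + 1) (k (e + 1))) - x (e + 1)) := by abel
    rw [this]
    exact add_mem (hD_anti (le_max_right _ _) (hy _)) (hx_diff (m := e + 1) (n := max (e + 1) (k (e + 1))) (le_max_left _ _))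
  apply hnot' e
  have : f ^ e • x (e + 1) = f ^ e • y - f ^ e • (y - x (e + 1)) := by
    rw [smul_sub]; abel
  rw [this, he, zero_sub]
  exact neg_mem (hD_smul e _ _ h1)

end torsion

end Groth.Agent.Lib.Helper36.DC
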