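import Mathlib
import Groth.Agent.Lib.Helper36.DerivedComplete7
import Groth.Agent.Lib.Helper36.DerivedComplete5

/-!
Helper (helper36): the set of `f` with `SeqComplete f M` is a radical ideal.
Main tool: derived Nakayama (`nakayama`) applied to the kernel and cokernel of
`T_h : (m_i) ↦ (m_i - h m_{i+1})` on sequences.
-/

set_option autoImplicit false
universe u v

namespace Groth.Agent.Lib.Helper36.DC

section nak
variable {A : Type u} [CommRing A]

/-- Derived Nakayama. -/
theorem nakayama (s : Finset A) :
    ∀ (M : Type v) [AddCommGroup M] [Module A M], (∀ f ∈ s, SeqComplete f M) →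
      Ideal.span (s : Set A) • (⊤ : Submodule A M) = ⊤ → Subsingleton M := by
  classical
  induction s using Finset.induction_on with
  | empty =>
    intro M _ _ _ h
    rw [Finset.coe_empty, Ideal.span_empty, Submodule.bot_smul] at h
    exact (Submodule.subsingleton_iff A).mp (subsingleton_of_bot_eq_top h)
  | insert f s hfs ih =>
    intro M _ _ hM h
    set u : M →ₗ[A] M := LinearMap.lsmul A M f with hu
    have hQ : Subsingleton (M ⧸ LinearMap.range u) := by
      apply ih
      · intro g hg
        exact (hM g (Finset.mem_insert_of_mem hg)).quotient_range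
          (hM g (Finset.mem_insert_of_mem hg)) u
      · have h1 : (⊤ : Submodule A (M ⧸ LinearMap.range u)) =
            Submodule.map (LinearMap.range u).mkQ ⊤ := by
          rw [Submodule.map_top, Submodule.range_mkQ]
        have h2 : Submodule.map (LinearMap.range u).mkQ (Ideal.span {f} • (⊤ : Submodule A M)) = ⊥ := by
          rw [eq_bot_iff, Submodule.map_le_iff_le_comap, Submodule.comap_bot, Submodule.ker_mkQ,
            Submodule.ideal_span_singleton_smul]
          rintro x ⟨y, -, rfl⟩
          exact ⟨y, rfl⟩
        rw [h1, ← Submodule.map_smul'']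
        conv_rhs => rw [← h, Finset.coe_insert, Ideal.span_insert,
          Submodule.sup_smul, Submodule.map_sup, h2, bot_sup_eq]
    have hsurj : Function.Surjective (fun x : M => f • x) := by
      intro x
      have : x ∈ LinearMap.range u := by
        rw [← Submodule.Quotient.mk_eq_zero]
        exact Subsingleton.elim _ _
      exact this
    exact subsingleton_of_surjective_smul (hM f (Finset.mem_insert_self f s)) hsurj

end nak

section T
variable {A : Type u} [CommRing A] (h : A) (M : Type v) [AddCommGroup M] [Module A M]

/-- The operator `(m_i) ↦ (m_i - h m_{i+1})` on sequences. -/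
def T : (ℕ → M) →ₗ[A] (ℕ → M) where
  toFun m i := m i - h • m (i + 1)
  map_add' m m' := by
    funext i
    simp only [Pi.add_apply, smul_add]
    abel
  map_smul' a m := by
    funext i
    simp only [Pi.smul_apply, RingHom.id_apply, smul_sub, smul_comm a h]

variable (A) in
/-- The shift of sequences. -/
def σ : (ℕ → M) →ₗ[A] (ℕ → M) where
  toFun m i := m (i + 1)
  map_add' _ _ := rfl
  map_smul' _ _ := rfl

variable {h M}

lemma T_apply (m : ℕ → M) (i : ℕ) : T h M m i = m i - h • m (i + 1) := rfl

lemma σ_apply (m : ℕ → M) (i : ℕ) : σ A M m i = m (i + 1) := rfl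

lemma T_σ (m : ℕ → M) : T h M (σ A M m) = σ A M (T h M m) := rfl

lemma seqComplete_of_subsingleton (h1 : Subsingleton (LinearMap.ker (T h M)))
    (h2 : Subsingleton ((ℕ → M) ⧸ LinearMap.range (T h M))) : SeqComplete h M := by
  constructor
  · intro m hm i
    have hmk : m ∈ LinearMap.ker (T h M) := by
      rw [LinearMap.mem_ker]
      funext i
      rw [T_apply, ← hm i, sub_self]
      rfl
    have := Subsingleton.elim (⟨m, hmk⟩ : LinearMap.ker (T h M)) 0
    exact congrFun (congrArg Subtype.val this) i
  · intro c
    have htop : LinearMap.range (T h M) = ⊤ := Submodule.Quotient.subsingleton_iff.mp h2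
    have hc : c ∈ LinearMap.range (T h M) := htop ▸ Submodule.mem_top
    obtain ⟨m, hm⟩ := hc
    refine ⟨m, fun i => ?_⟩
    have := congrFun hm i
    rw [T_apply] at this
    rw [← this]
    abel

/-- If `M` is sequentially complete with respect to finitely many elements, it is so with respect
to every element of the ideal they generate. -/
theorem seqComplete_of_mem_span (s : Finset A) (hM : ∀ f ∈ s, SeqComplete f M) {h : A}
    (hh : h ∈ Ideal.span (s : Set A)) : SeqComplete h M := by
  have hpi : ∀ f ∈ s, SeqComplete f (ℕ → M) := fun f hf => SeqComplete.pi (fun _ => hM f hf)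
  apply seqComplete_of_subsingleton
  · apply nakayama s _ (fun f hf => (hpi f hf).ker (hpi f hf) (T h M))
    rw [eq_top_iff]
    rintro ⟨m, hm⟩ -
    have hσ : σ A M m ∈ LinearMap.ker (T h M) := by
      rw [LinearMap.mem_ker, T_σ, LinearMap.mem_ker.mp hm, map_zero]
    have : (⟨m, hm⟩ : LinearMap.ker (T h M)) = h • ⟨σ A M m, hσ⟩ := by
      apply Subtype.ext
      funext i
      have := congrFun (LinearMap.mem_ker.mp hm) i
      rw [T_apply, Pi.zero_apply, sub_eq_zero] at this
      exact this
    rw [this]
    exact Submodule.smul_mem_smul hh Submodule.mem_top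
  · apply nakayama s _ (fun f hf => (hpi f hf).quotient_range (hpi f hf) (T h M))
    rw [eq_top_iff]
    intro q _
    obtain ⟨c, rfl⟩ := Submodule.Quotient.mk_surjective _ q
    have : (Submodule.Quotient.mk c : (ℕ → M) ⧸ LinearMap.range (T h M)) =
        h • Submodule.Quotient.mk (σ A M c) := by
      rw [← Submodule.Quotient.mk_smul, Submodule.Quotient.eq]
      exact ⟨c, rfl⟩
    rw [this]
    exact Submodule.smul_mem_smul hh Submodule.mem_top

/-- If `M` is sequentially complete with respect to a power of `f`, it is so for `f`. -/
theorem seqComplete_of_pow {f : A} {n : ℕ} (hM : SeqComplete (f ^ n) M) : SeqComplete f M := by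
  have hpi : SeqComplete (f ^ n) (ℕ → M) := SeqComplete.pi (fun _ => hM)
  apply seqComplete_of_subsingleton
  · apply subsingleton_of_surjective_smul (hpi.ker hpi (T f M))
    rintro ⟨m, hm⟩
    have hσ : ∀ k : ℕ, ((σ A M)^[k]) m ∈ LinearMap.ker (T f M) := by
      intro k
      induction k with
      | zero => exact hm
      | succ k ih =>
        rw [Function.iterate_succ_apply', LinearMap.mem_ker, T_σ, LinearMap.mem_ker.mp ih, map_zero]
    have hpow : ∀ k : ℕ, m = f ^ k • ((σ A M)^[k]) m := by
      intro k
      induction k with
      | zero => simp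
      | succ k ih =>
        have h1 := LinearMap.mem_ker.mp (hσ k)
        have h2 : ((σ A M)^[k]) m = f • σ A M (((σ A M)^[k]) m) := by
          funext i
          have := congrFun h1 i
          rw [T_apply, Pi.zero_apply, sub_eq_zero] at this
          exact this
        rw [Function.iterate_succ_apply', pow_succ, mul_smul, ← h2]
        exact ih
    refine ⟨⟨((σ A M)^[n]) m, hσ n⟩, Subtype.ext ?_⟩
    exact (hpow n).symm
  · apply subsingleton_of_surjective_smul (hpi.quotient_range hpi (T f M))
    intro q
    obtain ⟨c, rfl⟩ := Submodule.Quotient.mk_surjective _ q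
    have hpow : ∀ k : ℕ, (Submodule.Quotient.mk c : (ℕ → M) ⧸ LinearMap.range (T f M)) =
        f ^ k • Submodule.Quotient.mk (((σ A M)^[k]) c) := by
      intro k
      induction k with
      | zero => simp
      | succ k ih =>
        have h2 : (Submodule.Quotient.mk (((σ A M)^[k]) c) : (ℕ → M) ⧸ LinearMap.range (T f M)) =
            f • Submodule.Quotient.mk (σ A M (((σ A M)^[k]) c)) := by
          rw [← Submodule.Quotient.mk_smul, Submodule.Quotient.eq]
          exact ⟨((σ A M)^[k]) c, rfl⟩
        rw [Function.iterate_succ_apply', pow_succ, mul_smul, ← h2]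
        exact ih
    exact ⟨Submodule.Quotient.mk (((σ A M)^[n]) c), (hpow n).symm⟩

end T

end Groth.Agent.Lib.Helper36.DC
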