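import Mathlib
import Groth.Prelude.Def_DRing3
import Groth.Agent.Lib.Helper12.DRingCanTrunc
import Groth.Agent.Lib.Helper36.DerivedComplete5
import Groth.Agent.Lib.Helper36.DerivedComplete6

/-!
Helper (helper36): formal properties of the derived completion functor (assumed to exist):
linearity of the homology functors on `D(A)`, the cohomological criterion for derived
completeness, compatibility of the completion with the `A`-action, and vanishing of the
completion of objects on which some `f ∈ I` acts invertibly.
-/

set_option autoImplicit false
universe u

open CategoryTheory CategoryTheory.Limits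
attribute [local instance] HasDerivedCategory.standard

namespace Groth.Agent.Lib.Helper36.DCF

open Groth.Agent.Lib.Helper36.DC Groth.Agent.Lib.Helper12

variable {A : Type u} [CommRing A]

instance homologyFunctor_linear' (i : ℤ) :
    (HomologicalComplex.homologyFunctor (ModuleCat.{u} A) (ComplexShape.up ℤ) i).Linear A where
  map_smul {K L} f a := by
    show HomologicalComplex.homologyMap (a • f) i = a • HomologicalComplex.homologyMap f i
    unfold HomologicalComplex.homologyMap
    have : (HomologicalComplex.shortComplexFunctor (ModuleCat.{u} A) (ComplexShape.up ℤ) i).map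
        (a • f) =
        a • (HomologicalComplex.shortComplexFunctor (ModuleCat.{u} A) (ComplexShape.up ℤ) i).map
          f := by
      ext <;> rfl
    rw [this, ShortComplex.homologyMap_smul]
    rfl

instance homologyFunctorD_linear (i : ℤ) :
    (DerivedCategory.homologyFunctor (ModuleCat.{u} A) i).Linear A := by
  have : Localization.Lifting DerivedCategory.Q
      (HomologicalComplex.quasiIso (ModuleCat.{u} A) (ComplexShape.up ℤ))
      (HomologicalComplex.homologyFunctor (ModuleCat.{u} A) (ComplexShape.up ℤ) i)
      (DerivedCategory.homologyFunctor (ModuleCat.{u} A) i) :=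
    ⟨DerivedCategory.homologyFunctorFactors _ i⟩
  exact (Localization.functor_linear_iff DerivedCategory.Q
      (HomologicalComplex.quasiIso (ModuleCat.{u} A) (ComplexShape.up ℤ)) A
      (HomologicalComplex.homologyFunctor (ModuleCat.{u} A) (ComplexShape.up ℤ) i)
      (DerivedCategory.homologyFunctor (ModuleCat.{u} A) i)).mp inferInstance

/-- Cohomological criterion for derived completeness. -/
theorem isDerivedComplete_iff_HD (I : Ideal A) (K : Dual.D A) :
    DRing.IsDerivedComplete I K ↔ ∀ f ∈ I, ∀ i : ℤ, SeqComplete f (Dual.HD A K i) := by
  constructor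
  · intro h f hf
    exact (forall_subsingleton_hom_iff f K).mp (h f hf)
  · intro h f hf
    exact (forall_subsingleton_hom_iff f K).mpr (h f hf)

/-- If `f • 𝟙 K` is an isomorphism and `K` is derived complete for an ideal containing `f`, then
`K = 0`. -/
theorem isZero_of_isIso_smul (I : Ideal A) (K : Dual.D A) (hK : DRing.IsDerivedComplete I K)
    (f : A) (hf : f ∈ I) (hiso : IsIso (f • 𝟙 K)) : IsZero K := by
  apply isZero_of_forall_isZero_HF
  intro i
  have h1 : SeqComplete f (Dual.HD A K i) := (isDerivedComplete_iff_HD I K).mp hK f hf i
  have h2 : IsIso ((HF A i).map (f • 𝟙 K)) := inferInstance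
  rw [Functor.map_smul, CategoryTheory.Functor.map_id] at h2
  have h3 : Function.Bijective (f • 𝟙 ((HF A i).obj K) : (HF A i).obj K ⟶ (HF A i).obj K) :=
    (ConcreteCategory.isIso_iff_bijective _).mp h2
  have h4 : Function.Surjective (fun x : Dual.HD A K i => f • x) := by
    intro y
    obtain ⟨x, hx⟩ := h3.2 y
    exact ⟨x, hx⟩
  have := subsingleton_of_surjective_smul h1 h4
  exact ModuleCat.isZero_of_subsingleton _

section completion
variable (I : Ideal A) [DRing.HasDerivedCompletion I]

/-- Universal property of the derived completion. -/
theorem bijective_unit_comp (K : Dual.D A) (C : DRing.DComp I) :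
    Function.Bijective (fun g : (DRing.derivedCompletion I).obj K ⟶ C =>
      DRing.toDerivedCompletion I K ≫ g.hom) := by
  have := ((DRing.derivedCompletionAdj I).homEquiv K C).bijective
  convert this using 2
  rw [Adjunction.homEquiv_unit]
  rfl

/-- Derived completion is compatible with scalar multiplication. -/
theorem map_smul_id (K : Dual.D A) (a : A) :
    ((DRing.derivedCompletion I).map (a • 𝟙 K)).hom =
      a • 𝟙 ((DRing.derivedCompletion I).obj K).obj := by
  have h1 := (bijective_unit_comp I K ((DRing.derivedCompletion I).obj K)).1
  have h2 : (DRing.derivedCompletion I).map (a • 𝟙 K) =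
      ObjectProperty.homMk (a • 𝟙 ((DRing.derivedCompletion I).obj K).obj) := by
    apply h1
    show DRing.toDerivedCompletion I K ≫ ((DRing.derivedCompletion I).map (a • 𝟙 K)).hom =
      DRing.toDerivedCompletion I K ≫ (a • 𝟙 ((DRing.derivedCompletion I).obj K).obj)
    have h3 := (DRing.derivedCompletionAdj I).unit.naturality (a • 𝟙 K)
    simp only [Functor.id_obj, Functor.id_map, Functor.comp_obj, Functor.comp_map] at h3
    rw [Linear.comp_smul, Category.comp_id]
    rw [Linear.smul_comp, Category.id_comp] at h3
    exact h3.symm
  rw [h2]
  rfl

/-- The derived completion of an object on which some `f ∈ I` acts invertibly is zero. -/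
theorem isZero_completion_of_isIso_smul (K : Dual.D A) (f : A) (hf : f ∈ I)
    (hiso : IsIso (f • 𝟙 K)) : IsZero ((DRing.derivedCompletion I).obj K).obj := by
  apply isZero_of_isIso_smul I _ ((DRing.derivedCompletion I).obj K).property f hf
  rw [← map_smul_id]
  infer_instance

end completion

end Groth.Agent.Lib.Helper36.DCF
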