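import Mathlib
import Groth.Agent.Lib.Helper36.DerivedCompletionFormal

/-!
Helper (helper36): derived complete objects are stable under shifts, cones and canonical
truncations; derived completion (assumed to exist) is right t-exact in the sense that it
preserves morphisms whose cone lies in `D^{≤ -1}`.
-/

set_option autoImplicit false
universe u

open CategoryTheory CategoryTheory.Limits CategoryTheory.Pretriangulated
attribute [local instance] HasDerivedCategory.standard

namespace Groth.Agent.Lib.Helper36.DCF

open Groth.Agent.Lib.Helper36.DC Groth.Agent.Lib.Helper12 DerivedCategory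

variable {A : Type u} [CommRing A] (I : Ideal A)

lemma seqComplete_of_subsingleton_module {f : A} {M : Type*} [AddCommGroup M] [Module A M]
    [Subsingleton M] : SeqComplete f M :=
  ⟨fun _ _ _ => Subsingleton.elim _ _, fun _ => ⟨fun _ => 0, fun _ => Subsingleton.elim _ _⟩⟩

theorem isDerivedComplete_shift (K : Dual.D A) (hK : DRing.IsDerivedComplete I K) (m : ℤ) :
    DRing.IsDerivedComplete I (K⟦m⟧) := by
  intro f hf n
  have e : (K⟦m⟧)⟦n⟧ ≅ K⟦m + n⟧ := ((shiftFunctorAdd' (Dual.D A) m n (m + n) rfl).app K).symm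
  have := hK f hf (m + n)
  refine ⟨fun a b => ?_⟩
  have h := Subsingleton.elim (a ≫ e.hom) (b ≫ e.hom)
  have h' := congrArg (· ≫ e.inv) h
  simpa using h'

theorem isDerivedComplete_of_distTriang₃ (T : Triangle (Dual.D A)) (hT : T ∈ distTriang _)
    (h₁ : DRing.IsDerivedComplete I T.obj₁) (h₂ : DRing.IsDerivedComplete I T.obj₂) :
    DRing.IsDerivedComplete I T.obj₃ := by
  intro f hf n
  suffices h : ∀ a : Dual.inD A (Localization.Away f) ⟶ T.obj₃⟦n⟧, a = 0 from
    ⟨fun a b => (h a).trans (h b).symm⟩
  intro a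
  have hT' := Triangle.shift_distinguished T hT n
  obtain ⟨g, hg⟩ : ∃ g : Dual.inD A (Localization.Away f) ⟶ T.obj₂⟦n⟧,
      a = g ≫ ((CategoryTheory.shiftFunctor (Triangle (Dual.D A)) n).obj T).mor₂ :=
    Triangle.coyoneda_exact₃ _ hT' a
      ((isDerivedComplete_shift I _ h₁ n f hf 1).elim _ _)
  have : g = 0 := (h₂ f hf n).elim _ _
  rw [hg, this]
  exact zero_comp

theorem isDerivedComplete_truncGE (K : Dual.D A) (hK : DRing.IsDerivedComplete I K) (b : ℤ) :
    DRing.IsDerivedComplete I (truncTriangle K b).obj₃ := by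
  rw [isDerivedComplete_iff_HD] at hK ⊢
  intro f hf i
  by_cases hi : b ≤ i
  · exact (hK f hf i).of_linearEquiv (HFTruncGEIso K b i hi).toLinearEquiv
  · have h0 := isZero_HF_truncGE K b i (by omega)
    have : Subsingleton ((HF A i).obj (truncTriangle K b).obj₃) :=
      ModuleCat.subsingleton_of_isZero h0
    exact seqComplete_of_subsingleton_module

section completion
variable [DRing.HasDerivedCompletion I]

/-- Naturality of the unit of the derived completion. -/
lemma unit_naturality {K L : Dual.D A} (φ : K ⟶ L) :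
    DRing.toDerivedCompletion I K ≫ ((DRing.derivedCompletion I).map φ).hom =
      φ ≫ DRing.toDerivedCompletion I L := by
  have h3 := (DRing.derivedCompletionAdj I).unit.naturality φ
  simp only [Functor.id_obj, Functor.id_map, Functor.comp_obj, Functor.comp_map] at h3
  exact h3.symm

lemma hom_ext_completion {K : Dual.D A} {E : Dual.D A} (hE : DRing.IsDerivedComplete I E)
    {u v : ((DRing.derivedCompletion I).obj K).obj ⟶ E}
    (h : DRing.toDerivedCompletion I K ≫ u = DRing.toDerivedCompletion I K ≫ v) : u = v := by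
  have h1 := (bijective_unit_comp I K ⟨E, hE⟩).1
  have : (ObjectProperty.homMk u : (DRing.derivedCompletion I).obj K ⟶ ⟨E, hE⟩) =
      ObjectProperty.homMk v := h1 h
  exact congrArg (fun g => g.hom) this

lemma exists_lift_completion {K : Dual.D A} {E : Dual.D A} (hE : DRing.IsDerivedComplete I E)
    (g : K ⟶ E) : ∃ g' : ((DRing.derivedCompletion I).obj K).obj ⟶ E,
      DRing.toDerivedCompletion I K ≫ g' = g := by
  obtain ⟨g', hg'⟩ := (bijective_unit_comp I K ⟨E, hE⟩).2 g
  exact ⟨g'.hom, hg'⟩

/-- If precomposition with `φ` is injective on maps to `E`, so is precomposition with `φ^`. -/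
lemma completion_precomp_injective {K L : Dual.D A} (φ : K ⟶ L) {E : Dual.D A}
    (hE : DRing.IsDerivedComplete I E)
    (hinj : ∀ v : L ⟶ E, φ ≫ v = 0 → v = 0)
    (v : ((DRing.derivedCompletion I).obj L).obj ⟶ E)
    (hv : ((DRing.derivedCompletion I).map φ).hom ≫ v = 0) : v = 0 := by
  apply hom_ext_completion I hE
  rw [comp_zero]
  apply hinj
  rw [← Category.assoc, ← unit_naturality, Category.assoc, hv, comp_zero]

/-- If precomposition with `φ` is surjective on maps to `E`, so is precomposition with `φ^`. -/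
lemma completion_precomp_surjective {K L : Dual.D A} (φ : K ⟶ L) {E : Dual.D A}
    (hE : DRing.IsDerivedComplete I E)
    (hsurj : ∀ u : K ⟶ E, ∃ g : L ⟶ E, φ ≫ g = u)
    (u : ((DRing.derivedCompletion I).obj K).obj ⟶ E) :
    ∃ g' : ((DRing.derivedCompletion I).obj L).obj ⟶ E,
      ((DRing.derivedCompletion I).map φ).hom ≫ g' = u := by
  obtain ⟨g, hg⟩ := hsurj (DRing.toDerivedCompletion I K ≫ u)
  obtain ⟨g', hg'⟩ := exists_lift_completion I hE g
  refine ⟨g', ?_⟩
  apply hom_ext_completion I hE
  rw [← Category.assoc, unit_naturality, Category.assoc, hg', hg]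

end completion

end Groth.Agent.Lib.Helper36.DCF
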