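import Mathlib
import Groth.Prelude.Def_DRing3
import Groth.Agent.Lib.Helper36.DerivedComplete8

/-!
Helper (helper36): the exact functor `M ↦ (ℕ → M)` on `ModuleCat A`, the natural operator
`T f : (m_i) ↦ (m_i - f m_{i+1})`, and the induced endomorphism `θ` of the complex of sequences
`∏_ℕ K`, which is a quasi-isomorphism when all cohomology modules of `K` are `f`-sequentially
complete.  Consequence: a chain map from a complex on which `f` acts bijectively (termwise) to
such a `K` vanishes in the derived category.
-/

set_option autoImplicit false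
universe u

open CategoryTheory CategoryTheory.Limits
attribute [local instance] HasDerivedCategory.standard

namespace Groth.Agent.Lib.Helper36.DC

variable {A : Type u} [CommRing A]

/-- The functor of sequences `M ↦ (ℕ → M)`. -/
def seqFunctor (A : Type u) [CommRing A] : ModuleCat.{u} A ⥤ ModuleCat.{u} A where
  obj M := ModuleCat.of A (ℕ → M)
  map g := ModuleCat.ofHom (g.hom.compLeft ℕ)
  map_id _ := rfl
  map_comp _ _ := rfl

instance : (seqFunctor A).Additive where
  map_add := rfl

lemma seqFunctor_map_exact (S : ShortComplex (ModuleCat.{u} A)) (h : S.Exact) :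
    (S.map (seqFunctor A)).Exact := by
  rw [ShortComplex.ShortExact.moduleCat_exact_iff_function_exact] at h ⊢
  intro y
  constructor
  · intro hy
    have h1 : ∀ n : ℕ, ∃ x : S.X₁, S.f x = y n := fun n => (h (y n)).mp (congrFun hy n)
    choose x hx using h1
    exact ⟨x, funext hx⟩
  · rintro ⟨x, rfl⟩
    funext n
    exact (h _).mpr ⟨x n, rfl⟩

instance : PreservesFiniteLimits (seqFunctor A) := by
  have := ((Functor.exact_tfae (seqFunctor A)).out 1 3).mp seqFunctor_map_exact
  exact this.1

instance : PreservesFiniteColimits (seqFunctor A) := by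
  have := ((Functor.exact_tfae (seqFunctor A)).out 1 3).mp seqFunctor_map_exact
  exact this.2

lemma T_bijective {f : A} {M : Type*} [AddCommGroup M] [Module A M] (h : SeqComplete f M) :
    Function.Bijective (T f M) := by
  constructor
  · intro m m' hmm
    have h1 : ∀ i, (m - m') i = f • (m - m') (i + 1) := by
      intro i
      have := congrFun hmm i
      rw [T_apply, T_apply] at this
      simp only [Pi.sub_apply, smul_sub]
      rw [sub_eq_sub_iff_add_eq_add] at this ⊢
      rw [this]
      exact add_comm _ _
    have h2 := h.1 (m - m') h1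
    funext i
    exact sub_eq_zero.mp (h2 i)
  · intro c
    obtain ⟨m, hm⟩ := h.2 c
    refine ⟨m, ?_⟩
    funext i
    rw [T_apply, hm i]
    abel

/-- The natural endomorphism `T f` of the functor of sequences. -/
def seqT (f : A) : seqFunctor A ⟶ seqFunctor A where
  app M := ModuleCat.ofHom (T f M)
  naturality M N g := by
    ext m
    funext i
    show g.hom (m i) - f • g.hom (m (i + 1)) = g.hom (m i - f • m (i + 1))
    rw [map_sub, map_smul]

lemma isIso_seqT_app {f : A} (M : ModuleCat.{u} A) (h : SeqComplete f M) :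
    IsIso ((seqT f).app M) := by
  rw [ConcreteCategory.isIso_iff_bijective]
  exact T_bijective h

/-- The complex of sequences `∏_ℕ K`. -/
noncomputable abbrev seqCx (K : DRing.Cx A) : DRing.Cx A :=
  ((seqFunctor A).mapHomologicalComplex (ComplexShape.up ℤ)).obj K

/-- The endomorphism `θ = 1 - f·shift` of the complex of sequences. -/
noncomputable abbrev seqθ (f : A) (K : DRing.Cx A) : seqCx K ⟶ seqCx K :=
  (NatTrans.mapHomologicalComplex (seqT f) (ComplexShape.up ℤ)).app K

lemma quasiIso_seqθ (f : A) (K : DRing.Cx A) (hK : ∀ i : ℤ, SeqComplete f (K.homology i)) :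
    QuasiIso (seqθ f K) := by
  rw [quasiIso_iff]
  intro i
  rw [quasiIsoAt_iff_isIso_homologyMap]
  have h1 : HomologicalComplex.homologyMap (seqθ f K) i =
      ShortComplex.homologyMap ((K.sc i).mapNatTrans (seqT f)) := rfl
  rw [h1, ShortComplex.homologyMap_mapNatTrans]
  have h2 : IsIso ((seqT f).app (K.sc i).homology) := isIso_seqT_app (K.sc i).homology (hK i)
  exact IsIso.comp_isIso' inferInstance (IsIso.comp_isIso' h2 inferInstance)

/-- Projection to the `0`-th component. -/
noncomputable def seqπ (K : DRing.Cx A) : seqCx K ⟶ K where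
  f i := ModuleCat.ofHom (LinearMap.proj 0)
  comm' i j _ := by
    ext m
    rfl

section main
variable {f : A} {E K : DRing.Cx A} (g : E ⟶ K)
  (hE : ∀ i : ℤ, Function.Bijective (fun x : E.X i => f • x))

/-- The inverse of multiplication by `f` on `E.X i`. -/
noncomputable def invf (i : ℤ) : E.X i →ₗ[A] E.X i :=
  (LinearEquiv.ofBijective (LinearMap.lsmul A (E.X i) f) (hE i)).symm.toLinearMap

lemma smul_invf (i : ℤ) (x : E.X i) : f • invf hE i x = x :=
  (LinearEquiv.ofBijective (LinearMap.lsmul A (E.X i) f) (hE i)).apply_symm_apply x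

lemma invf_smul (i : ℤ) (x : E.X i) : invf hE i (f • x) = x :=
  (LinearEquiv.ofBijective (LinearMap.lsmul A (E.X i) f) (hE i)).symm_apply_apply x

lemma d_invf (i j : ℤ) (x : E.X i) : (E.d i j).hom (invf hE i x) = invf hE j ((E.d i j).hom x) := by
  apply (hE j).1
  show f • (E.d i j).hom (invf hE i x) = f • invf hE j ((E.d i j).hom x)
  rw [← map_smul, smul_invf, smul_invf]

lemma d_invf_pow (i j : ℤ) (n : ℕ) (x : E.X i) :
    (E.d i j).hom ((invf hE i ^ n) x) = (invf hE j ^ n) ((E.d i j).hom x) := by
  induction n generalizing x with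
  | zero => rfl
  | succ n ih =>
    rw [pow_succ, pow_succ, Module.End.mul_apply, Module.End.mul_apply, ih, d_invf]

/-- The chain map `E → ∏_ℕ K`, `x ↦ (g (f^{-n} x))_n`. -/
noncomputable def seqG : E ⟶ seqCx K where
  f i := ModuleCat.ofHom (LinearMap.pi fun n => (g.f i).hom ∘ₗ (invf hE i ^ n))
  comm' i j _ := by
    ext x
    funext n
    show (K.d i j).hom ((g.f i).hom ((invf hE i ^ n) x)) =
      (g.f j).hom ((invf hE j ^ n) ((E.d i j).hom x))
    rw [← d_invf_pow]
    have h := ConcreteCategory.congr_hom (g.comm i j) ((invf hE i ^ n) x)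
    exact h

lemma seqG_seqπ : seqG g hE ≫ seqπ K = g := by
  ext i x
  rfl

lemma seqG_seqθ : seqG g hE ≫ seqθ f K = 0 := by
  ext i x
  funext n
  show (g.f i).hom ((invf hE i ^ n) x) - f • (g.f i).hom ((invf hE i ^ (n + 1)) x) = 0
  rw [← map_smul, pow_succ', Module.End.mul_apply, smul_invf, sub_self]

/-- A chain map from a complex on which `f` acts bijectively to a complex with `f`-sequentially
complete cohomology vanishes in the derived category. -/
theorem Q_map_eq_zero {f : A} {E K : DRing.Cx A} (g : E ⟶ K)
    (hE : ∀ i : ℤ, Function.Bijective (fun x : E.X i => f • x))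
    (hK : ∀ i : ℤ, SeqComplete f (K.homology i)) :
    DerivedCategory.Q.map g = 0 := by
  have h1 : QuasiIso (seqθ f K) := quasiIso_seqθ f K hK
  have h2 : IsIso (DerivedCategory.Q.map (seqθ f K)) := by
    rw [DerivedCategory.isIso_Q_map_iff_quasiIso]
    exact h1
  have h3 : DerivedCategory.Q.map (seqG g hE) ≫ DerivedCategory.Q.map (seqθ f K) = 0 := by
    rw [← Functor.map_comp, seqG_seqθ, Functor.map_zero]
  have h4 : DerivedCategory.Q.map (seqG g hE) = 0 := by
    have := congrArg (· ≫ inv (DerivedCategory.Q.map (seqθ f K))) h3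
    simpa using this
  rw [← seqG_seqπ g hE, Functor.map_comp, h4, zero_comp]

end main

end Groth.Agent.Lib.Helper36.DC
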