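import Mathlib
import Groth.Agent.Lib.Helper36.SeqFunctor
import Groth.Agent.Lib.Helper36.DerivedComplete6
import Groth.Agent.Lib.Helper36.DerivedCompletionFormal

/-!
Helper (helper36): objects of `D(A)` on which `f` acts invertibly are left orthogonal to the
objects with `f`-sequentially complete cohomology (i.e. the derived `f`-complete ones).
-/

set_option autoImplicit false
universe u

open CategoryTheory CategoryTheory.Limits
attribute [local instance] HasDerivedCategory.standard

namespace Groth.Agent.Lib.Helper36.DC

variable {A : Type u} [CommRing A]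

/-- Morphisms in `D(A)` from a complex on which `f` acts bijectively (termwise) to an object with
`f`-sequentially complete cohomology vanish. -/
theorem hom_eq_zero_of_termwise {f : A} (E : DRing.Cx A)
    (hE : ∀ i : ℤ, Function.Bijective (fun x : E.X i => f • x)) (K : Dual.D A)
    (hK : ∀ i : ℤ, SeqComplete f (Dual.HD A K i)) (ψ : DerivedCategory.Q.obj E ⟶ K) : ψ = 0 := by
  let K' := DerivedCategory.Q.objPreimage K
  let eK : DerivedCategory.Q.obj K' ≅ K := DerivedCategory.Q.objObjPreimageIso K
  have key : ∀ ψ : DerivedCategory.Q.obj E ⟶ DerivedCategory.Q.obj K', ψ = 0 := by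
    intro ψ
    obtain ⟨K'', g, s, hs, rfl⟩ := DerivedCategory.left_fac ψ
    have hK'' : ∀ i : ℤ, SeqComplete f (K''.homology i) := by
      intro i
      let iso : (DerivedCategory.homologyFunctor (ModuleCat.{u} A) i).obj K ≅ K''.homology i :=
        (DerivedCategory.homologyFunctor (ModuleCat.{u} A) i).mapIso
          (eK.symm ≪≫ asIso (DerivedCategory.Q.map s)) ≪≫
          (DerivedCategory.homologyFunctorFactors (ModuleCat.{u} A) i).app K''
      exact (hK i).of_linearEquiv iso.toLinearEquiv
    rw [Q_map_eq_zero g hE hK'']
    exact zero_comp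
  have h1 := key (ψ ≫ eK.inv)
  have h2 : ψ = (ψ ≫ eK.inv) ≫ eK.hom := by simp
  rw [h2, h1]
  exact zero_comp

section loc
variable (f : A)

/-- The localization functor `M ↦ M_f`, valued in `A`-modules. -/
noncomputable def locF : ModuleCat.{u} A ⥤ ModuleCat.{u} A where
  obj M := ModuleCat.of A (LocalizedModule (Submonoid.powers f) M)
  map {M N} g := ModuleCat.ofHom (IsLocalizedModule.map (Submonoid.powers f)
    (LocalizedModule.mkLinearMap (Submonoid.powers f) M)
    (LocalizedModule.mkLinearMap (Submonoid.powers f) N) g.hom)
  map_id M := by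
    ext : 1
    exact IsLocalizedModule.map_id _ _
  map_comp g h := by
    ext : 1
    exact IsLocalizedModule.map_comp' _ _ _ _ _ _

instance : (locF f).Additive where
  map_add {M N g h} := by
    ext : 1
    exact map_add (IsLocalizedModule.map (Submonoid.powers f)
      (LocalizedModule.mkLinearMap (Submonoid.powers f) M)
      (LocalizedModule.mkLinearMap (Submonoid.powers f) N)) g.hom h.hom

lemma locF_map_exact (S : ShortComplex (ModuleCat.{u} A)) (h : S.Exact) :
    (S.map (locF f)).Exact := by
  rw [ShortComplex.ShortExact.moduleCat_exact_iff_function_exact] at h ⊢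
  exact IsLocalizedModule.map_exact (Submonoid.powers f)
    (LocalizedModule.mkLinearMap (Submonoid.powers f) S.X₁)
    (LocalizedModule.mkLinearMap (Submonoid.powers f) S.X₂)
    (LocalizedModule.mkLinearMap (Submonoid.powers f) S.X₃) S.f.hom S.g.hom h

instance : PreservesFiniteLimits (locF f) := by
  have := ((Functor.exact_tfae (locF f)).out 1 3).mp (locF_map_exact f)
  exact this.1

instance : PreservesFiniteColimits (locF f) := by
  have := ((Functor.exact_tfae (locF f)).out 1 3).mp (locF_map_exact f)
  exact this.2

/-- The localization map as a natural transformation. -/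
noncomputable def locη : 𝟭 (ModuleCat.{u} A) ⟶ locF f where
  app M := ModuleCat.ofHom (LocalizedModule.mkLinearMap (Submonoid.powers f) M)
  naturality M N g := by
    ext : 1
    exact (IsLocalizedModule.map_comp (Submonoid.powers f)
      (LocalizedModule.mkLinearMap (Submonoid.powers f) M)
      (LocalizedModule.mkLinearMap (Submonoid.powers f) N) g.hom).symm

lemma bijective_smul_localizedModule (M : Type u) [AddCommGroup M] [Module A M] :
    Function.Bijective (fun x : LocalizedModule (Submonoid.powers f) M => f • x) := by
  have h := IsLocalizedModule.map_units (LocalizedModule.mkLinearMap (Submonoid.powers f) M)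
    ⟨f, Submonoid.mem_powers f⟩
  exact (Module.End.isUnit_iff _).mp h

lemma bijective_mkLinearMap (M : Type u) [AddCommGroup M] [Module A M]
    (hM : Function.Bijective (fun x : M => f • x)) :
    Function.Bijective (LocalizedModule.mkLinearMap (Submonoid.powers f) M) := by
  have hpow : ∀ k : ℕ, Function.Bijective (fun x : M => f ^ k • x) := by
    intro k
    induction k with
    | zero =>
      have : (fun x : M => f ^ 0 • x) = id := by
        funext x
        simp
      rw [this]
      exact Function.bijective_id
    | succ k ih =>
      have : (fun x : M => f ^ (k + 1) • x) = (fun x : M => f ^ k • x) ∘ (fun x : M => f • x) := by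
        funext x
        simp [pow_succ, mul_smul]
      rw [this]
      exact ih.comp hM
  have hid : IsLocalizedModule (Submonoid.powers f) (LinearMap.id : M →ₗ[A] M) :=
    { map_units := by
        rintro ⟨s, k, rfl⟩
        exact (Module.End.isUnit_iff _).mpr (hpow k)
      surj := fun m => ⟨(m, 1), one_smul _ _⟩
      exists_of_eq := fun h => ⟨1, congrArg _ h⟩ }
  let e := IsLocalizedModule.linearEquiv (Submonoid.powers f)
    (LocalizedModule.mkLinearMap (Submonoid.powers f) M) (LinearMap.id : M →ₗ[A] M)
  have he : ∀ x, e (LocalizedModule.mkLinearMap (Submonoid.powers f) M x) = x := fun x =>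
    IsLocalizedModule.linearEquiv_apply _ _ _ x
  constructor
  · intro x y hxy
    rw [← he x, ← he y, hxy]
  · intro y
    exact ⟨e y, e.injective (he _)⟩

/-- The localized complex. -/
noncomputable abbrev locCx (K : DRing.Cx A) : DRing.Cx A :=
  ((locF f).mapHomologicalComplex (ComplexShape.up ℤ)).obj K

/-- The localization map of complexes. -/
noncomputable def locCxη (K : DRing.Cx A) : K ⟶ locCx f K where
  f i := (locη f).app (K.X i)
  comm' i j _ := ((locη f).naturality (K.d i j)).symm

lemma quasiIso_locCxη (K : DRing.Cx A)
    (hK : ∀ i : ℤ, Function.Bijective (fun x : K.homology i => f • x)) :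
    QuasiIso (locCxη f K) := by
  rw [quasiIso_iff]
  intro i
  rw [quasiIsoAt_iff_isIso_homologyMap]
  have h1 : HomologicalComplex.homologyMap (locCxη f K) i =
      ShortComplex.homologyMap ((K.sc i).mapNatTrans (locη f)) := rfl
  rw [h1, ShortComplex.homologyMap_mapNatTrans]
  have h2 : IsIso ((locη f).app (K.sc i).homology) := by
    rw [ConcreteCategory.isIso_iff_bijective]
    exact bijective_mkLinearMap f _ (hK i)
  exact IsIso.comp_isIso' inferInstance (IsIso.comp_isIso' h2 inferInstance)

end loc

/-- Objects on which `f` acts invertibly are left orthogonal to objects with `f`-sequentially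
complete cohomology. -/
theorem hom_eq_zero_of_isIso_smul {f : A} (X K : Dual.D A) (hX : IsIso (f • 𝟙 X))
    (hK : ∀ i : ℤ, SeqComplete f (Dual.HD A K i)) (ψ : X ⟶ K) : ψ = 0 := by
  let X' := DerivedCategory.Q.objPreimage X
  let eX : DerivedCategory.Q.obj X' ≅ X := DerivedCategory.Q.objObjPreimageIso X
  have hX' : ∀ i : ℤ, Function.Bijective (fun x : X'.homology i => f • x) := by
    intro i
    have h2 : IsIso ((DerivedCategory.homologyFunctor (ModuleCat.{u} A) i).map (f • 𝟙 X)) :=
      inferInstance
    rw [Functor.map_smul, CategoryTheory.Functor.map_id] at h2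
    have h3 := (ConcreteCategory.isIso_iff_bijective _).mp h2
    let iso : (DerivedCategory.homologyFunctor (ModuleCat.{u} A) i).obj X ≅ X'.homology i :=
      (DerivedCategory.homologyFunctor (ModuleCat.{u} A) i).mapIso eX.symm ≪≫
        (DerivedCategory.homologyFunctorFactors (ModuleCat.{u} A) i).app X'
    let l := iso.toLinearEquiv
    constructor
    · intro x y hxy
      apply l.symm.injective
      apply h3.1
      show f • l.symm x = f • l.symm y
      rw [← map_smul, ← map_smul]
      exact congrArg l.symm hxy
    · intro y
      obtain ⟨x, hx⟩ := h3.2 (l.symm y)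
      refine ⟨l x, ?_⟩
      show f • l x = y
      rw [← map_smul]
      apply l.symm.injective
      rw [LinearEquiv.symm_apply_apply]
      exact hx
  have hq := quasiIso_locCxη f X' hX'
  have hiso : IsIso (DerivedCategory.Q.map (locCxη f X')) := by
    rw [DerivedCategory.isIso_Q_map_iff_quasiIso]
    exact hq
  have hL : ∀ i : ℤ, Function.Bijective (fun x : (locCx f X').X i => f • x) := fun i =>
    bijective_smul_localizedModule f (X'.X i)
  have h0 := hom_eq_zero_of_termwise (locCx f X') hL K hK
    (inv (DerivedCategory.Q.map (locCxη f X')) ≫ eX.hom ≫ ψ)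
  have h1 : ψ = eX.inv ≫ DerivedCategory.Q.map (locCxη f X') ≫
      (inv (DerivedCategory.Q.map (locCxη f X')) ≫ eX.hom ≫ ψ) := by simp
  rw [h1, h0]
  simp

end Groth.Agent.Lib.Helper36.DC
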