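import Mathlib
import Groth.Agent.Lib.Helper36.SeqFunctor

/-!
Helper (helper36): further chain maps on the complex of sequences `∏_ℕ K`: the shifts `σ` (left)
and `S` (right), the inclusion `δ` of the `0`-th factor, and the map
`Θ = θ ∘ S : (y_n) ↦ (-f y_0, y_0 - f y_1, y_1 - f y_2, …)` whose cone computes the derived
`f`-completion.
-/

set_option autoImplicit false
universe u

open CategoryTheory CategoryTheory.Limits
attribute [local instance] HasDerivedCategory.standard

namespace Groth.Agent.Lib.Helper36.DC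

variable {A : Type u} [CommRing A]

section linear
variable (A) (M : Type*) [AddCommGroup M] [Module A M]

/-- The right shift of sequences `(m_0, m_1, …) ↦ (0, m_0, m_1, …)`. -/
def rshift : (ℕ → M) →ₗ[A] (ℕ → M) where
  toFun m n := Nat.casesOn n 0 (fun k => m k)
  map_add' m m' := by
    funext n
    cases n <;> simp
  map_smul' a m := by
    funext n
    cases n <;> simp

variable {A M}

@[simp] lemma rshift_zero (m : ℕ → M) : rshift A M m 0 = 0 := rfl
@[simp] lemma rshift_succ (m : ℕ → M) (n : ℕ) : rshift A M m (n + 1) = m n := rfl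

end linear

/-- The left shift as a natural transformation. -/
def seqσ (A : Type u) [CommRing A] : seqFunctor A ⟶ seqFunctor A where
  app M := ModuleCat.ofHom (σ A M)
  naturality _ _ _ := rfl

/-- The right shift as a natural transformation. -/
def seqS (A : Type u) [CommRing A] : seqFunctor A ⟶ seqFunctor A where
  app M := ModuleCat.ofHom (rshift A M)
  naturality M N g := by
    ext m
    funext n
    cases n with
    | zero => exact (map_zero g.hom).symm
    | succ n => rfl

/-- The left shift on the complex of sequences. -/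
noncomputable abbrev cxσ (K : DRing.Cx A) : seqCx K ⟶ seqCx K :=
  (NatTrans.mapHomologicalComplex (seqσ A) (ComplexShape.up ℤ)).app K

/-- The right shift on the complex of sequences. -/
noncomputable abbrev cxS (K : DRing.Cx A) : seqCx K ⟶ seqCx K :=
  (NatTrans.mapHomologicalComplex (seqS A) (ComplexShape.up ℤ)).app K

/-- The inclusion of the `0`-th factor. -/
noncomputable def cxδ (K : DRing.Cx A) : K ⟶ seqCx K where
  f i := ModuleCat.ofHom (LinearMap.single A (fun _ : ℕ => K.X i) 0)
  comm' i j _ := by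
    ext x
    funext n
    show (K.d i j).hom ((Pi.single 0 x : ℕ → K.X i) n) = (Pi.single 0 ((K.d i j).hom x) : ℕ → K.X j) n
    by_cases hn : n = 0
    · subst hn
      simp
    · rw [Pi.single_eq_of_ne hn, Pi.single_eq_of_ne hn, map_zero]

/-- The projection to the `n`-th factor. -/
noncomputable def cxproj (K : DRing.Cx A) (n : ℕ) : seqCx K ⟶ K where
  f i := ModuleCat.ofHom (LinearMap.proj n)
  comm' i j _ := by
    ext m
    rfl

variable (f : A) (K : DRing.Cx A)

lemma cxS_σ : cxS K ≫ cxσ K = 𝟙 _ := by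
  ext i m
  rfl

lemma cxδ_π : cxδ K ≫ seqπ K = 𝟙 _ := by
  ext i x
  show (Pi.single 0 x : ℕ → K.X i) 0 = x
  simp

lemma cxS_π : cxS K ≫ seqπ K = 0 := by
  ext i m
  rfl

lemma cxδ_θ : cxδ K ≫ seqθ f K = cxδ K := by
  ext i x
  funext n
  show (Pi.single 0 x : ℕ → K.X i) n - f • (Pi.single 0 x : ℕ → K.X i) (n + 1) =
    (Pi.single 0 x : ℕ → K.X i) n
  rw [Pi.single_eq_of_ne (Nat.succ_ne_zero n), smul_zero, sub_zero]

lemma cxσ_θ : cxσ K ≫ seqθ f K = seqθ f K ≫ cxσ K := by
  ext i m
  rfl

lemma smul_cxσ : f • cxσ K = 𝟙 _ - seqθ f K := by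
  ext i m
  funext n
  show f • m (n + 1) = m n - (m n - f • m (n + 1))
  abel

lemma π_δ_add : seqπ K ≫ cxδ K + cxσ K ≫ cxS K = 𝟙 _ := by
  ext i m
  funext n
  cases n with
  | zero =>
    show (Pi.single 0 (m 0) : ℕ → K.X i) 0 + 0 = m 0
    simp
  | succ n =>
    show (Pi.single 0 (m 0) : ℕ → K.X i) (n + 1) + m (n + 1) = m (n + 1)
    rw [Pi.single_eq_of_ne (Nat.succ_ne_zero n), zero_add]

/-- The map `Θ = S ≫ θ`. -/
noncomputable abbrev cxΘ : seqCx K ⟶ seqCx K := cxS K ≫ seqθ f K

lemma cxΘ_proj_zero : cxΘ f K ≫ cxproj K 0 = -(f • cxproj K 0) := by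
  ext i m
  show (0 : K.X i) - f • m 0 = -(f • m 0)
  rw [zero_sub]

lemma cxΘ_proj_succ (n : ℕ) :
    cxΘ f K ≫ cxproj K (n + 1) = cxproj K n - f • cxproj K (n + 1) := by
  ext i m
  rfl

lemma seqθ_proj (n : ℕ) : seqθ f K ≫ cxproj K n = cxproj K n - f • cxproj K (n + 1) := by
  ext i m
  rfl

end Groth.Agent.Lib.Helper36.DC
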