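import Mathlib
import Groth.Agent.Lib.Helper36.SeqMaps

/-!
Helper (helper36): sequential completeness with respect to an endomorphism, the right shift on
sequences is complete, and a five-term lemma producing `f`-sequentially complete modules from
kernels and cokernels of `S - f`.
-/

set_option autoImplicit false
universe u

namespace Groth.Agent.Lib.Helper36.DC

variable {A : Type u} [CommRing A]

/-- Sequential completeness of a module with respect to an endomorphism `φ`. -/
def EndComplete {M : Type*} [AddCommGroup M] [Module A M] (φ : M →ₗ[A] M) : Prop :=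
  (∀ m : ℕ → M, (∀ i, m i = φ (m (i + 1))) → ∀ i, m i = 0) ∧
  (∀ c : ℕ → M, ∃ m : ℕ → M, ∀ i, m i = c i + φ (m (i + 1)))

lemma endComplete_rshift (M : Type*) [AddCommGroup M] [Module A M] :
    EndComplete (rshift A M) := by
  constructor
  · intro m hm
    have key : ∀ j : ℕ, ∀ i : ℕ, m i j = 0 := by
      intro j
      induction j with
      | zero =>
        intro i
        rw [hm i]
        rfl
      | succ j ih =>
        intro i
        rw [hm i]
        exact ih (i + 1)
    intro i
    funext j
    exact key j i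
  · intro c
    let g : ℕ → ℕ → M := fun j => Nat.rec (fun i => c i 0) (fun j' r i => c i (j' + 1) + r (i + 1)) j
    refine ⟨fun i j => g j i, fun i => ?_⟩
    funext j
    cases j with
    | zero =>
      show c i 0 = c i 0 + 0
      rw [add_zero]
    | succ j => rfl

lemma EndComplete.of_equiv {M N : Type*} [AddCommGroup M] [Module A M] [AddCommGroup N]
    [Module A N] {φ : M →ₗ[A] M} (h : EndComplete φ) (e : N ≃ₗ[A] M) (ψ : N →ₗ[A] N)
    (hψ : ∀ x, e (ψ x) = φ (e x)) : EndComplete ψ := by
  constructor
  · intro m hm i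
    have := h.1 (fun i => e (m i)) (fun i => by
      show e (m i) = φ (e (m (i + 1)))
      rw [← hψ, ← hm i]) i
    exact e.map_eq_zero_iff.mp this
  · intro c
    obtain ⟨m, hm⟩ := h.2 (fun i => e (c i))
    refine ⟨fun i => e.symm (m i), fun i => ?_⟩
    apply e.injective
    show e (e.symm (m i)) = e (c i + ψ (e.symm (m (i + 1))))
    rw [map_add, hψ, LinearEquiv.apply_symm_apply, LinearEquiv.apply_symm_apply]
    exact hm i

/-- Five-term lemma: if `X --u--> X --v--> Y --w--> Z --z--> Z` is exact with `u = S_X - f`,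
`z = S_Z - f` and `X`, `Z` complete with respect to `S_X`, `S_Z`, then `Y` is `f`-sequentially
complete. -/
theorem seqComplete_of_five {X Y Z : Type*} [AddCommGroup X] [Module A X] [AddCommGroup Y]
    [Module A Y] [AddCommGroup Z] [Module A Z] (f : A)
    (SX : X →ₗ[A] X) (SZ : Z →ₗ[A] Z) (u : X →ₗ[A] X) (v : X →ₗ[A] Y) (w : Y →ₗ[A] Z)
    (z : Z →ₗ[A] Z)
    (hu : ∀ x, u x = SX x - f • x) (hz : ∀ t, z t = SZ t - f • t)
    (hSX : EndComplete SX) (hSZ : EndComplete SZ)
    (huv : ∀ x, v x = 0 ↔ ∃ x', u x' = x)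
    (hvw : ∀ y, w y = 0 ↔ ∃ x, v x = y)
    (hwz : ∀ t, z t = 0 ↔ ∃ y, w y = t) : SeqComplete f Y := by
  have huS : ∀ x, u (SX x) = SX (u x) := by
    intro x
    rw [hu, hu, map_sub, map_smul]
  have hzS : ∀ t, z (SZ t) = SZ (z t) := by
    intro t
    rw [hz, hz, map_sub, map_smul]
  have hvu : ∀ x, v (u x) = 0 := fun x => (huv _).mpr ⟨x, rfl⟩
  have hwv : ∀ x, w (v x) = 0 := fun x => (hvw _).mpr ⟨x, rfl⟩
  have hzw : ∀ y, z (w y) = 0 := fun y => (hwz _).mpr ⟨y, rfl⟩
  constructor
  · intro y hy i
    -- first `w y = 0`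
    have h1 : ∀ i, w (y i) = 0 := by
      apply hSZ.1
      intro i
      have h2 := hzw (y (i + 1))
      rw [hz, sub_eq_zero] at h2
      rw [h2, ← map_smul, ← hy i]
    choose x hx using fun i => (hvw _).mp (h1 i)
    have h3 : ∀ i, ∃ b, u b = x i - f • x (i + 1) := by
      intro i
      apply (huv _).mp
      rw [map_sub, map_smul, hx, hx, ← hy i, sub_self]
    choose b hb using h3
    obtain ⟨n, hn⟩ := hSX.2 (fun i => b i - x (i + 1))
    have h4 : ∀ i, x i - u (n i) = 0 := by
      apply hSX.1
      intro i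
      have e1 : x i = f • x (i + 1) + u (b i) := by
        rw [hb i]
        abel
      have e2 : u (n i) = u (b i) - u (x (i + 1)) + SX (u (n (i + 1))) := by
        rw [hn i, map_add, map_sub, huS]
      rw [e2, map_sub, hu (x (i + 1))]
      conv_lhs => rw [e1]
      abel
    rw [← hx i, sub_eq_zero.mp (h4 i), hvu]
  · intro c
    obtain ⟨m, hm⟩ := hSZ.2 (fun i => w (c i))
    have h1 : ∀ i, z (m i) = 0 := by
      apply hSZ.1
      intro i
      rw [hm i, map_add, hzw, zero_add, hzS]
    choose y' hy' using fun i => (hwz _).mp (h1 i)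
    have h2 : ∀ i, SZ (m (i + 1)) = f • m (i + 1) := by
      intro i
      have := h1 (i + 1)
      rw [hz, sub_eq_zero] at this
      exact this
    have h3 : ∀ i, ∃ x, v x = y' i - c i - f • y' (i + 1) := by
      intro i
      apply (hvw _).mp
      rw [map_sub, map_sub, map_smul, hy', hy', hm i, h2 i]
      abel
    choose x hx using h3
    obtain ⟨n, hn⟩ := hSX.2 x
    have h4 : ∀ i, v (n i) = v (x i) + f • v (n (i + 1)) := by
      intro i
      have e1 : SX (n (i + 1)) = u (n (i + 1)) + f • n (i + 1) := by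
        rw [hu]
        abel
      rw [hn i, e1, map_add, map_add, hvu, zero_add, map_smul]
    refine ⟨fun i => y' i - v (n i), fun i => ?_⟩
    show y' i - v (n i) = c i + f • (y' (i + 1) - v (n (i + 1)))
    rw [h4 i, hx i, smul_sub]
    abel

end Groth.Agent.Lib.Helper36.DC
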