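import Mathlib
import Groth.Agent.Lib.Helper36.ConeCompletion
import Groth.Agent.Lib.Helper36.SeqAlg
import Groth.Agent.Lib.Helper36.FLocal
import Groth.Agent.Lib.Helper36.DerivedCompletionFormal2
import Groth.Agent.Lib.Helper36.DerivedComplete7
import Groth.Agent.Lib.Helper36.DerivedComplete8

/-!
Helper (helper36): one step of the construction of the derived completion: for `f : A` and
`K ∈ D(A)`, an `f`-complete object `C` with a universal map `K ⟶ C`.
-/

set_option autoImplicit false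
universe u

open CategoryTheory CategoryTheory.Limits CategoryTheory.Pretriangulated DerivedCategory
attribute [local instance] HasDerivedCategory.standard

namespace Groth.Agent.Lib.Helper36.DC

open Groth.Agent.Lib.Helper36.DCF Groth.Agent.Lib.Helper36.CC Groth.Agent.Lib.Helper12

variable {A : Type u} [CommRing A]

lemma isDerivedComplete_span_singleton_iff (f : A) (K : Dual.D A) :
    DRing.IsDerivedComplete (Ideal.span {f}) K ↔ ∀ i : ℤ, SeqComplete f (Dual.HD A K i) := by
  rw [isDerivedComplete_iff_HD]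
  constructor
  · intro h i
    exact h f (Ideal.subset_span rfl) i
  · intro h g hg i
    refine seqComplete_of_mem_span {f} (fun f' hf' => ?_) (h := g) ?_
    · rw [Finset.mem_singleton] at hf'
      subst hf'
      exact h i
    · simpa using hg

lemma seqComplete_shift {f : A} (E : Dual.D A) (hE : ∀ i : ℤ, SeqComplete f (Dual.HD A E i))
    (n : ℤ) : ∀ i : ℤ, SeqComplete f (Dual.HD A (E⟦n⟧) i) := by
  rw [← isDerivedComplete_span_singleton_iff] at hE ⊢
  exact isDerivedComplete_shift _ E hE n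

/-- `H^i(Q(∏K)) ≅ ∏ H^i(K)`. -/
noncomputable def seqHIso (K : DRing.Cx A) (i : ℤ) :
    (HF A i).obj (Q.obj (seqCx K)) ≅ (seqFunctor A).obj (K.homology i) :=
  (homologyFunctorFactors (ModuleCat.{u} A) i).app (seqCx K) ≪≫
    (K.sc i).mapHomologyIso (seqFunctor A)

lemma aux_assoc {C : Type*} [Category C] {X Y Z W V : C} (a : X ⟶ Y) (b : Y ⟶ Z) (t : Z ⟶ W)
    (e : V ≅ W) : (a ≫ b ≫ t ≫ e.inv) ≫ e.hom = a ≫ b ≫ t := by simp

lemma seqHIso_naturality (K : DRing.Cx A) (i : ℤ) (τ : seqFunctor A ⟶ seqFunctor A) :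
    (HF A i).map (Q.map ((NatTrans.mapHomologicalComplex τ (ComplexShape.up ℤ)).app K)) ≫
      (seqHIso K i).hom = (seqHIso K i).hom ≫ τ.app (K.homology i) := by
  unfold seqHIso
  simp only [Iso.trans_hom, Iso.app_hom]
  rw [← Category.assoc, homologyFunctorFactors_hom_naturality]
  have h1 : HomologicalComplex.homologyMap
      ((NatTrans.mapHomologicalComplex τ (ComplexShape.up ℤ)).app K) i =
      ShortComplex.homologyMap ((K.sc i).mapNatTrans τ) := rfl
  rw [h1, ShortComplex.homologyMap_mapNatTrans]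
  exact aux_assoc _ _ _ _

lemma cxΘ_eq (f : A) (K : DRing.Cx A) : cxS K ≫ seqθ f K = cxS K - f • 𝟙 _ := by
  ext i m
  funext n
  cases n <;> rfl

/-- For `f`-complete `E`, precomposition with `θ` is bijective on `Hom(∏K, E)`. -/
theorem bijective_θ_precomp (f : A) (K' : DRing.Cx A) (E : Dual.D A)
    (hE : ∀ i : ℤ, SeqComplete f (Dual.HD A E i)) :
    Function.Bijective (fun a : Q.obj (seqCx K') ⟶ E => Q.map (seqθ f K') ≫ a) := by
  obtain ⟨Tc, β', γ', hT'⟩ := distinguished_cocone_triangle (Q.map (seqθ f K'))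
  have hcomm : Q.map (cxσ K') ≫ Q.map (seqθ f K') = Q.map (seqθ f K') ≫ Q.map (cxσ K') := by
    rw [← Functor.map_comp, ← Functor.map_comp, cxσ_θ]
  have hf : f • Q.map (cxσ K') = 𝟙 _ - Q.map (seqθ f K') := by
    rw [← Functor.map_smul, smul_cxσ, Functor.map_sub, CategoryTheory.Functor.map_id]
  have hL : IsIso (f • 𝟙 Tc) := isIso_smul_cone f _ _ β' γ' hT' hcomm hf
  have h0 : ∀ n : ℤ, ∀ a : Tc ⟶ E⟦n⟧, a = 0 := fun n a =>
    hom_eq_zero_of_isIso_smul Tc (E⟦n⟧) hL (seqComplete_shift E hE n) a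
  have h1 := (forall_eq_zero_iff_bijective (Triangle.mk _ β' γ') hT' E).mp h0 0
  exact bijective_precomp_of_iso _ ((shiftFunctorZero (Dual.D A) ℤ).app E) h1

/-- The universal property of the cone of `Θ`. -/
theorem bijective_cone_precomp (f : A) (K' : DRing.Cx A) {K C : Dual.D A} (eK : Q.obj K' ≅ K)
    (β : Q.obj (seqCx K') ⟶ C) (γ : C ⟶ (Q.obj (seqCx K'))⟦(1 : ℤ)⟧)
    (hT : Triangle.mk (Q.map (cxS K') ≫ Q.map (seqθ f K')) β γ ∈ distTriang (Dual.D A))
    (E : Dual.D A) (hE : ∀ i : ℤ, SeqComplete f (Dual.HD A E i)) :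
    Function.Bijective (fun v : C ⟶ E => ((eK.inv ≫ Q.map (cxδ K')) ≫ β) ≫ v) := by
  have hSσ : Q.map (cxS K') ≫ Q.map (cxσ K') = 𝟙 _ := by
    rw [← Functor.map_comp, cxS_σ, CategoryTheory.Functor.map_id]
  have hδπ : (eK.inv ≫ Q.map (cxδ K')) ≫ (Q.map (seqπ K') ≫ eK.hom) = 𝟙 K := by
    rw [Category.assoc, ← Category.assoc (Q.map (cxδ K')), ← Functor.map_comp, cxδ_π,
      CategoryTheory.Functor.map_id, Category.id_comp, Iso.inv_hom_id]
  have hSπ : Q.map (cxS K') ≫ (Q.map (seqπ K') ≫ eK.hom) = 0 := by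
    rw [← Category.assoc, ← Functor.map_comp, cxS_π, Functor.map_zero, zero_comp]
  have hπδ : (Q.map (seqπ K') ≫ eK.hom) ≫ (eK.inv ≫ Q.map (cxδ K')) +
      Q.map (cxσ K') ≫ Q.map (cxS K') = 𝟙 _ := by
    rw [Category.assoc, ← Category.assoc eK.hom, Iso.hom_inv_id, Category.id_comp,
      ← Functor.map_comp, ← Functor.map_comp, ← Functor.map_add, π_δ_add,
      CategoryTheory.Functor.map_id]
  have hδθ : (eK.inv ≫ Q.map (cxδ K')) ≫ Q.map (seqθ f K') = eK.inv ≫ Q.map (cxδ K') := by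
    rw [Category.assoc, ← Functor.map_comp, cxδ_θ]
  have hE0 := bijective_θ_precomp f K' E hE
  have hE1' := bijective_precomp_shift (Q.map (seqθ f K')) (1 : ℤ)
    (bijective_θ_precomp f K' (E⟦(-1 : ℤ)⟧) (seqComplete_shift E hE (-1)))
  have hE1 := bijective_precomp_of_iso _ ((shiftEquiv (Dual.D A) (1 : ℤ)).counitIso.app E) hE1'
  exact bijective_precomp_cone (Q.map (seqθ f K')) (Q.map (cxσ K')) (Q.map (cxS K'))
    (eK.inv ≫ Q.map (cxδ K')) (Q.map (seqπ K') ≫ eK.hom) β γ hT hSσ hδπ hSπ hπδ hδθ hE0 hE1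

/-- The cone of `Θ` has `f`-sequentially complete cohomology. -/
theorem seqComplete_cone (f : A) (K' : DRing.Cx A) {C : Dual.D A}
    (β : Q.obj (seqCx K') ⟶ C) (γ : C ⟶ (Q.obj (seqCx K'))⟦(1 : ℤ)⟧)
    (hT : Triangle.mk (Q.map (cxS K') ≫ Q.map (seqθ f K')) β γ ∈ distTriang (Dual.D A)) (i : ℤ) :
    SeqComplete f (Dual.HD A C i) := by
  have hΘ : Q.map (cxS K') ≫ Q.map (seqθ f K') = Q.map (cxS K') - f • 𝟙 _ := by
    rw [← Functor.map_comp, cxΘ_eq, Functor.map_sub, Functor.map_smul,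
      CategoryTheory.Functor.map_id]
  have hmap : ∀ j : ℤ, ∀ x, ((HF A j).map (Q.map (cxS K') ≫ Q.map (seqθ f K'))).hom x =
      ((HF A j).map (Q.map (cxS K'))).hom x - f • x := by
    intro j x
    rw [hΘ, Functor.map_sub, Functor.map_smul, CategoryTheory.Functor.map_id]
    rfl
  have hS : ∀ j : ℤ, EndComplete ((HF A j).map (Q.map (cxS K'))).hom := by
    intro j
    refine (endComplete_rshift (K'.homology j)).of_equiv (seqHIso K' j).toLinearEquiv _
      (fun x => ?_)
    have := seqHIso_naturality K' j (seqS A)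
    exact congr($this x)
  have ex2 := HomologySequence.exact₂ _ hT i
  have ex3 := HomologySequence.exact₃ _ hT i (i + 1) rfl
  have ex1 := HomologySequence.exact₁ _ hT i (i + 1) rfl
  rw [ShortComplex.ShortExact.moduleCat_exact_iff_function_exact] at ex1 ex2 ex3
  exact seqComplete_of_five f _ _ _ _ _ _ (hmap i) (hmap (i + 1)) (hS i) (hS (i + 1))
    (fun x => ex2 x) (fun y => ex3 y) (fun t => ex1 t)

/-- `H^j(K) ≅ H^j(K')` if `K ≅ Q K'`. -/
noncomputable def homologyIsoOfPreimage (K' : DRing.Cx A) {K : Dual.D A} (eK : Q.obj K' ≅ K)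
    (j : ℤ) : (HF A j).obj K ≅ K'.homology j :=
  (HF A j).mapIso eK.symm ≪≫ (homologyFunctorFactors (ModuleCat.{u} A) j).app K'

/-- Completeness with respect to another element `g` is preserved by the cone of `Θ`. -/
theorem seqComplete_cone_of_seqComplete (f g : A) (K' : DRing.Cx A) {K C : Dual.D A}
    (eK : Q.obj K' ≅ K)
    (β : Q.obj (seqCx K') ⟶ C) (γ : C ⟶ (Q.obj (seqCx K'))⟦(1 : ℤ)⟧)
    (hT : Triangle.mk (Q.map (cxS K') ≫ Q.map (seqθ f K')) β γ ∈ distTriang (Dual.D A))
    (hK : ∀ i : ℤ, SeqComplete g (Dual.HD A K i)) (i : ℤ) :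
    SeqComplete g (Dual.HD A C i) := by
  have hP : ∀ j : ℤ, SeqComplete g (Dual.HD A (Q.obj (seqCx K')) j) := by
    intro j
    have h1 : SeqComplete g (K'.homology j) :=
      (hK j).of_linearEquiv (homologyIsoOfPreimage K' eK j).toLinearEquiv
    have h2 : SeqComplete g (ℕ → K'.homology j) := SeqComplete.pi (fun _ => h1)
    exact h2.of_linearEquiv (seqHIso K' j).toLinearEquiv.symm
  rw [← isDerivedComplete_span_singleton_iff] at hP
  have h3 := isDerivedComplete_of_distTriang₃ (Ideal.span {g}) _ hT hP hP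
  exact (isDerivedComplete_span_singleton_iff g C).mp h3 i

/-- Amplitude: `H^i` of the cone of `Θ` vanishes if `H^i(K)` and `H^{i+1}(K)` do. -/
theorem subsingleton_cone (f : A) (K' : DRing.Cx A) {K C : Dual.D A}
    (eK : Q.obj K' ≅ K)
    (β : Q.obj (seqCx K') ⟶ C) (γ : C ⟶ (Q.obj (seqCx K'))⟦(1 : ℤ)⟧)
    (hT : Triangle.mk (Q.map (cxS K') ≫ Q.map (seqθ f K')) β γ ∈ distTriang (Dual.D A))
    (i : ℤ) (h0 : Subsingleton (Dual.HD A K i)) (h1 : Subsingleton (Dual.HD A K (i + 1))) :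
    Subsingleton (Dual.HD A C i) := by
  have hP : ∀ j : ℤ, Subsingleton (Dual.HD A K j) →
      Subsingleton (Dual.HD A (Q.obj (seqCx K')) j) := by
    intro j hj
    have e1 := (homologyIsoOfPreimage K' eK j).toLinearEquiv
    have e2 := (seqHIso K' j).toLinearEquiv
    have h1 : Subsingleton (K'.homology j) := e1.symm.toEquiv.subsingleton
    have h2 : Subsingleton ((seqFunctor A).obj (K'.homology j)) :=
      (inferInstance : Subsingleton (ℕ → K'.homology j))
    exact @Equiv.subsingleton _ _ e2.toEquiv h2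
  have hX := hP i h0
  have hZ := hP (i + 1) h1
  have ex3 := HomologySequence.exact₃ _ hT i (i + 1) rfl
  rw [ShortComplex.ShortExact.moduleCat_exact_iff_function_exact] at ex3
  refine ⟨fun a b => ?_⟩
  have key : ∀ y : Dual.HD A C i, y = 0 := by
    intro y
    obtain ⟨x, hx⟩ := (ex3 y).mp (@Subsingleton.elim _ hZ _ _)
    have hx0 : x = 0 := @Subsingleton.elim _ hX x 0
    rw [← hx, hx0]
    exact map_zero _
  rw [key a, key b]

/-- One step of the derived completion: for `f : A` and `K ∈ D(A)` there is an `f`-complete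
object `C` with a map `K ⟶ C` which is universal among maps to `f`-complete objects; moreover
`C` inherits completeness with respect to other elements and cohomological vanishing. -/
theorem exists_completion_step (f : A) (K : Dual.D A) :
    ∃ (C : Dual.D A) (η : K ⟶ C),
      (∀ i : ℤ, SeqComplete f (Dual.HD A C i)) ∧
      (∀ E : Dual.D A, (∀ i : ℤ, SeqComplete f (Dual.HD A E i)) →
        Function.Bijective (fun v : C ⟶ E => η ≫ v)) ∧
      (∀ g : A, (∀ i : ℤ, SeqComplete g (Dual.HD A K i)) →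
        ∀ i : ℤ, SeqComplete g (Dual.HD A C i)) ∧
      (∀ i : ℤ, Subsingleton (Dual.HD A K i) → Subsingleton (Dual.HD A K (i + 1)) →
        Subsingleton (Dual.HD A C i)) := by
  let K' := Q.objPreimage K
  let eK : Q.obj K' ≅ K := Q.objObjPreimageIso K
  obtain ⟨C, β, γ, hT⟩ := distinguished_cocone_triangle
    (Q.map (cxS K') ≫ Q.map (seqθ f K'))
  exact ⟨C, (eK.inv ≫ Q.map (cxδ K')) ≫ β, seqComplete_cone f K' β γ hT,
    fun E hE => bijective_cone_precomp f K' eK β γ hT E hE,
    fun g hK => seqComplete_cone_of_seqComplete f g K' eK β γ hT hK,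
    fun i h0 h1 => subsingleton_cone f K' eK β γ hT i h0 h1⟩

end Groth.Agent.Lib.Helper36.DC
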