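import Mathlib
import Groth.Agent.Lib.Helper36.CompletionStep

/-!
Helper (helper36): refined amplitude of one step of the derived completion: if `H^i(K) = 0` and
`H^{i+1}(K)` has bounded `f`-power torsion, then `H^i` of the one-step completion vanishes.
-/

set_option autoImplicit false
universe u

open CategoryTheory CategoryTheory.Limits CategoryTheory.Pretriangulated DerivedCategory
attribute [local instance] HasDerivedCategory.standard

namespace Groth.Agent.Lib.Helper36.DC

open Groth.Agent.Lib.Helper36.DCF Groth.Agent.Lib.Helper36.CC Groth.Agent.Lib.Helper12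

variable {A : Type u} [CommRing A]

/-- Bounded `f`-power torsion. -/
def BoundedTorsion (f : A) (N : Type*) [AddCommGroup N] [Module A N] : Prop :=
  ∃ c : ℕ, ∀ (m : ℕ) (x : N), f ^ m • x = 0 → f ^ c • x = 0

lemma BoundedTorsion.of_linearEquiv {f : A} {N N' : Type*} [AddCommGroup N] [Module A N]
    [AddCommGroup N'] [Module A N'] (h : BoundedTorsion f N) (e : N ≃ₗ[A] N') :
    BoundedTorsion f N' := by
  obtain ⟨c, hc⟩ := h
  refine ⟨c, fun m x hx => ?_⟩
  have h1 : f ^ m • e.symm x = 0 := by rw [← map_smul, hx, map_zero]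
  have h2 := hc m _ h1
  rw [← map_smul] at h2
  exact e.symm.map_eq_zero_iff.mp h2

/-- With bounded torsion, `rshift - f` is injective on sequences. -/
lemma rshift_sub_smul_injective {f : A} {N : Type*} [AddCommGroup N] [Module A N]
    (h : BoundedTorsion f N) (y : ℕ → N) (hy : rshift A N y - f • y = 0) : y = 0 := by
  obtain ⟨c, hc⟩ := h
  have h0 : f • y 0 = 0 := by
    have := congrFun hy 0
    simpa using this
  have hs : ∀ n, y n = f • y (n + 1) := by
    intro n
    have := congrFun hy (n + 1)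
    simp only [Pi.sub_apply, rshift_succ, Pi.smul_apply, Pi.zero_apply] at this
    exact sub_eq_zero.mp this
  have ht : ∀ n, f ^ (n + 1) • y n = 0 := by
    intro n
    induction n with
    | zero => simpa using h0
    | succ n ih =>
      rw [pow_succ, mul_smul, ← hs n]
      exact ih
  have hk : ∀ k n, y n = f ^ k • y (n + k) := by
    intro k
    induction k with
    | zero => intro n; simp
    | succ k ih =>
      intro n
      rw [ih n, hs (n + k), smul_smul, ← pow_succ, add_assoc]
  funext n
  rw [hk c n]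
  exact hc _ _ (ht (n + c))

/-- Refined amplitude: `H^i` of the cone of `Θ` vanishes if `H^i(K) = 0` and `H^{i+1}(K)` has
bounded `f`-power torsion. -/
theorem subsingleton_cone' (f : A) (K' : DRing.Cx A) {K C : Dual.D A}
    (eK : Q.obj K' ≅ K)
    (β : Q.obj (seqCx K') ⟶ C) (γ : C ⟶ (Q.obj (seqCx K'))⟦(1 : ℤ)⟧)
    (hT : Triangle.mk (Q.map (cxS K') ≫ Q.map (seqθ f K')) β γ ∈ distTriang (Dual.D A))
    (i : ℤ) (h0 : Subsingleton (Dual.HD A K i)) (h1 : BoundedTorsion f (Dual.HD A K (i + 1))) :
    Subsingleton (Dual.HD A C i) := by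
  have hX : Subsingleton (Dual.HD A (Q.obj (seqCx K')) i) := by
    have e1 := (homologyIsoOfPreimage K' eK i).toLinearEquiv
    have e2 := (seqHIso K' i).toLinearEquiv
    have h1 : Subsingleton (K'.homology i) := e1.symm.toEquiv.subsingleton
    have h2 : Subsingleton ((seqFunctor A).obj (K'.homology i)) :=
      (inferInstance : Subsingleton (ℕ → K'.homology i))
    exact @Equiv.subsingleton _ _ e2.toEquiv h2
  have hΘ : Q.map (cxS K') ≫ Q.map (seqθ f K') = Q.map (cxS K') - f • 𝟙 _ := by
    rw [← Functor.map_comp, cxΘ_eq, Functor.map_sub, Functor.map_smul,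
      CategoryTheory.Functor.map_id]
  have hmap : ∀ x, ((HF A (i + 1)).map (Q.map (cxS K') ≫ Q.map (seqθ f K'))).hom x =
      ((HF A (i + 1)).map (Q.map (cxS K'))).hom x - f • x := by
    intro x
    rw [hΘ, Functor.map_sub, Functor.map_smul, CategoryTheory.Functor.map_id]
    rfl
  have hbt : BoundedTorsion f (K'.homology (i + 1)) :=
    h1.of_linearEquiv (homologyIsoOfPreimage K' eK (i + 1)).toLinearEquiv
  have hinj : ∀ x : Dual.HD A (Q.obj (seqCx K')) (i + 1),
      ((HF A (i + 1)).map (Q.map (cxS K') ≫ Q.map (seqθ f K'))).hom x = 0 → x = 0 := by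
    intro x hx
    rw [hmap] at hx
    let e2 : Dual.HD A (Q.obj (seqCx K')) (i + 1) ≃ₗ[A] (ℕ → K'.homology (i + 1)) :=
      (seqHIso K' (i + 1)).toLinearEquiv
    have hnat := seqHIso_naturality K' (i + 1) (seqS A)
    have h2 : e2 (((HF A (i + 1)).map (Q.map (cxS K'))).hom x) =
        rshift A (K'.homology (i + 1)) (e2 x) := congr($hnat x)
    have h3 : rshift A (K'.homology (i + 1)) (e2 x) - f • (e2 x) = 0 := by
      rw [← h2, ← map_smul, ← map_sub, hx, map_zero]
    have h4 := rshift_sub_smul_injective hbt (e2 x) h3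
    exact e2.map_eq_zero_iff.mp h4
  have ex3 := HomologySequence.exact₃ _ hT i (i + 1) rfl
  have ex1 := HomologySequence.exact₁ _ hT i (i + 1) rfl
  have ex2 := HomologySequence.exact₂ _ hT i
  rw [ShortComplex.ShortExact.moduleCat_exact_iff_function_exact] at ex1 ex2 ex3
  refine ⟨fun a b => ?_⟩
  have key : ∀ y : Dual.HD A C i, y = 0 := by
    intro y
    have hδ := (ex1 _).mpr ⟨y, rfl⟩
    have hδ0 := hinj _ hδ
    obtain ⟨x, hx⟩ := (ex3 y).mp hδ0
    have hx0 : x = 0 := @Subsingleton.elim _ hX x 0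
    rw [← hx, hx0]
    exact map_zero _
  rw [key a, key b]

/-- One step of the derived completion, with the refined amplitude statement. -/
theorem exists_completion_step' (f : A) (K : Dual.D A) :
    ∃ (C : Dual.D A) (η : K ⟶ C),
      (∀ i : ℤ, SeqComplete f (Dual.HD A C i)) ∧
      (∀ E : Dual.D A, (∀ i : ℤ, SeqComplete f (Dual.HD A E i)) →
        Function.Bijective (fun v : C ⟶ E => η ≫ v)) ∧
      (∀ g : A, (∀ i : ℤ, SeqComplete g (Dual.HD A K i)) →
        ∀ i : ℤ, SeqComplete g (Dual.HD A C i)) ∧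
      (∀ i : ℤ, Subsingleton (Dual.HD A K i) → Subsingleton (Dual.HD A K (i + 1)) →
        Subsingleton (Dual.HD A C i)) ∧
      (∀ i : ℤ, Subsingleton (Dual.HD A K i) → BoundedTorsion f (Dual.HD A K (i + 1)) →
        Subsingleton (Dual.HD A C i)) := by
  let K' := Q.objPreimage K
  let eK : Q.obj K' ≅ K := Q.objObjPreimageIso K
  obtain ⟨C, β, γ, hT⟩ := distinguished_cocone_triangle
    (Q.map (cxS K') ≫ Q.map (seqθ f K'))
  exact ⟨C, (eK.inv ≫ Q.map (cxδ K')) ≫ β, seqComplete_cone f K' β γ hT,
    fun E hE => bijective_cone_precomp f K' eK β γ hT E hE,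
    fun g hK => seqComplete_cone_of_seqComplete f g K' eK β γ hT hK,
    fun i h0 h1 => subsingleton_cone f K' eK β γ hT i h0 h1,
    fun i h0 h1 => subsingleton_cone' f K' eK β γ hT i h0 h1⟩

end Groth.Agent.Lib.Helper36.DC
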