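import Mathlib
import Groth.Agent.Lib.Helper36.DerivedComplete
import Groth.Agent.Lib.Helper36.DerivedComplete3
import Groth.Agent.Lib.Helper36.DerivedComplete7

/-!
Helper (helper36): an `f`-sequentially complete `A`-module `M` is canonically a module over the
power series ring `A⟦X⟧`, with `X` acting as `f`: `(∑ p_n X^n) • m = ∑ f^n p_n m`.
Also: `A⟦X⟧` is `X`-sequentially complete, and `g`-sequentially complete when `A` is.
-/

set_option autoImplicit false
universe u v

open PowerSeries

namespace Groth.Agent.Lib.Helper36.DC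

section ps
variable {A : Type u} [CommRing A] {M : Type v} [AddCommGroup M] [Module A M] {f : A}

/-- The action of a power series: `p • m = ∑ f^n p_n m`. -/
noncomputable def psSmul (h : SeqComplete f M) (p : A⟦X⟧) (m : M) : M :=
  h.sum (fun n => coeff n p • m)

/-- The shifted power series `(p - p_0)/X`. -/
noncomputable def psShift (p : A⟦X⟧) : A⟦X⟧ := PowerSeries.mk fun n => coeff (n + 1) p

lemma ps_eq (p : A⟦X⟧) : p = C (coeff 0 p) + X * psShift p := by
  have := eq_X_mul_shift_add_const p
  rw [add_comm, ← coeff_zero_eq_constantCoeff_apply] at this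
  exact this

lemma psSmul_add_left (h : SeqComplete f M) (p q : A⟦X⟧) (m : M) :
    psSmul h (p + q) m = psSmul h p m + psSmul h q m := by
  unfold psSmul
  rw [← h.sum_add]
  congr 1
  funext n
  rw [map_add, add_smul]

lemma psSmul_add_right (h : SeqComplete f M) (p : A⟦X⟧) (m m' : M) :
    psSmul h p (m + m') = psSmul h p m + psSmul h p m' := by
  unfold psSmul
  rw [← h.sum_add]
  congr 1
  funext n
  rw [smul_add]

lemma psSmul_smul_right (h : SeqComplete f M) (p : A⟦X⟧) (a : A) (m : M) :
    psSmul h p (a • m) = a • psSmul h p m := by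
  unfold psSmul
  rw [← h.sum_smul]
  congr 1
  funext n
  rw [smul_comm]

lemma psSmul_C_mul (h : SeqComplete f M) (a : A) (p : A⟦X⟧) (m : M) :
    psSmul h (C a * p) m = a • psSmul h p m := by
  unfold psSmul
  rw [← h.sum_smul]
  congr 1
  funext n
  rw [coeff_C_mul, mul_smul]

lemma psSmul_X_mul (h : SeqComplete f M) (p : A⟦X⟧) (m : M) :
    psSmul h (X * p) m = f • psSmul h p m := by
  unfold psSmul
  rw [h.sum_succ]
  simp only [coeff_zero_X_mul, zero_smul, zero_add]
  congr 2
  funext n
  rw [add_comm 1 n, coeff_succ_X_mul]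

lemma psSmul_zero_left (h : SeqComplete f M) (m : M) : psSmul h 0 m = 0 := by
  unfold psSmul
  simp only [map_zero, zero_smul]
  exact h.sum_zero

lemma psSmul_zero_right (h : SeqComplete f M) (p : A⟦X⟧) : psSmul h p (0 : M) = 0 := by
  unfold psSmul
  simp only [smul_zero]
  exact h.sum_zero

lemma psSmul_C (h : SeqComplete f M) (a : A) (m : M) : psSmul h (C a) m = a • m := by
  unfold psSmul
  rw [h.sum_succ]
  simp only [coeff_zero_C]
  have : (fun j => coeff (1 + j) (C a : A⟦X⟧) • m) = fun _ => (0 : M) := by
    funext j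
    rw [coeff_C, if_neg (by omega), zero_smul]
  rw [this, h.sum_zero, smul_zero, add_zero]

lemma psSmul_one (h : SeqComplete f M) (m : M) : psSmul h 1 m = m := by
  have := psSmul_C h 1 m
  rwa [map_one, one_smul] at this

lemma psSmul_X (h : SeqComplete f M) (m : M) : psSmul h X m = f • m := by
  have := psSmul_X_mul h 1 m
  rwa [mul_one, psSmul_one] at this

lemma psSmul_eq (h : SeqComplete f M) (p : A⟦X⟧) (m : M) :
    psSmul h p m = coeff 0 p • m + f • psSmul h (psShift p) m := by
  conv_lhs => rw [ps_eq p]
  rw [psSmul_add_left, psSmul_C, psSmul_X_mul]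

lemma psSmul_mul (h : SeqComplete f M) (p q : A⟦X⟧) (m : M) :
    psSmul h (p * q) m = psSmul h p (psSmul h q m) := by
  set w := psSmul h q m with hw
  set P : ℕ → A⟦X⟧ := fun n => psShift^[n] p with hP
  have hP' : ∀ n, P n = C (coeff 0 (P n)) + X * P (n + 1) := by
    intro n
    have := ps_eq (P n)
    rwa [show psShift (P n) = P (n + 1) from (Function.iterate_succ_apply' psShift n p).symm]
      at this
  have key := h.1 (fun n => psSmul h (P n * q) m - psSmul h (P n) w) (fun n => by
    show psSmul h (P n * q) m - psSmul h (P n) w =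
      f • (psSmul h (P (n + 1) * q) m - psSmul h (P (n + 1)) w)
    have e1 : psSmul h (P n * q) m =
        coeff 0 (P n) • w + f • psSmul h (P (n + 1) * q) m := by
      conv_lhs => rw [hP' n]
      rw [add_mul, psSmul_add_left, mul_assoc, psSmul_C_mul, psSmul_X_mul]
    have e2 : psSmul h (P n) w = coeff 0 (P n) • w + f • psSmul h (P (n + 1)) w := by
      conv_lhs => rw [hP' n]
      rw [psSmul_add_left, psSmul_C, psSmul_X_mul]
    rw [e1, e2, smul_sub]
    abel) 0
  exact sub_eq_zero.mp key

/-- The `A⟦X⟧`-module structure on an `f`-sequentially complete module. -/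
@[instance_reducible]
noncomputable def psModule (h : SeqComplete f M) : Module A⟦X⟧ M where
  smul := psSmul h
  one_smul := psSmul_one h
  mul_smul := psSmul_mul h
  smul_zero := psSmul_zero_right h
  smul_add := psSmul_add_right h
  add_smul := psSmul_add_left h
  zero_smul := psSmul_zero_left h

lemma psModule_smul_def (h : SeqComplete f M) (p : A⟦X⟧) (m : M) :
    (psModule h).smul p m = psSmul h p m := rfl

end ps

section psring
variable {A : Type u} [CommRing A]

/-- `A⟦X⟧` is `X`-sequentially complete. -/
theorem seqComplete_X : SeqComplete (X : A⟦X⟧) A⟦X⟧ := by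
  constructor
  · intro m hm
    have key : ∀ n : ℕ, ∀ i : ℕ, coeff n (m i) = 0 := by
      intro n
      induction n with
      | zero =>
        intro i
        rw [hm i, smul_eq_mul, coeff_zero_X_mul]
      | succ n ih =>
        intro i
        rw [hm i, smul_eq_mul, coeff_succ_X_mul, ih]
    intro i
    ext n
    rw [key n i, map_zero]
  · intro c
    let μ : ℕ → ℕ → A := fun n => Nat.rec (motive := fun _ => ℕ → A)
      (fun i => coeff 0 (c i)) (fun n μn i => coeff (n + 1) (c i) + μn (i + 1)) n
    refine ⟨fun i => PowerSeries.mk (fun n => μ n i), fun i => ?_⟩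
    ext n
    cases n with
    | zero =>
      rw [map_add, smul_eq_mul, coeff_zero_X_mul, add_zero, coeff_mk]
      rfl
    | succ n =>
      rw [map_add, smul_eq_mul, coeff_succ_X_mul, coeff_mk, coeff_mk]

/-- The coefficient equivalence `A⟦X⟧ ≃ₗ[A] (ℕ → A)`. -/
noncomputable def coeffEquiv : A⟦X⟧ ≃ₗ[A] (ℕ → A) where
  toFun p n := coeff n p
  invFun c := PowerSeries.mk c
  map_add' p q := by funext n; simp
  map_smul' a p := by funext n; simp
  left_inv p := by ext n; simp
  right_inv c := by funext n; simp

/-- `A⟦X⟧` is `C g`-sequentially complete when `A` is `g`-sequentially complete. -/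
theorem seqComplete_C {g : A} (h : SeqComplete g A) : SeqComplete (C g : A⟦X⟧) A⟦X⟧ := by
  have h1 : SeqComplete g (ℕ → A) := SeqComplete.pi (fun _ => h)
  have h2 : SeqComplete g A⟦X⟧ := h1.of_linearEquiv coeffEquiv.symm
  exact h2.of_smul_eq (fun m => by rw [smul_eq_mul, ← smul_eq_C_mul])

end psring

end Groth.Agent.Lib.Helper36.DC
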