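import Mathlib
import Groth.Agent.Lib.Helper36.PowerSeriesModule
import Groth.Agent.Lib.Helper36.DerivedComplete4
import Groth.Agent.Lib.Helper36.DerivedComplete8

/-!
Helper (helper36): Krull intersection theorem for derived complete modules over a Noetherian
ring: if `M` is sequentially complete for each of finitely many generators of `I` and `M/IM` is
finite, then `⋂ I^n M = 0`.
-/

set_option autoImplicit false
universe u v

open PowerSeries

namespace Groth.Agent.Lib.Helper36.DC

section finite
variable {A : Type u} [CommRing A] {M : Type v} [AddCommGroup M] [Module A M]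

/-- Finite generation via derived Nakayama. -/
theorem finite_of_seqComplete (G : Finset A) (hA : ∀ g ∈ G, SeqComplete g A)
    (hM : ∀ g ∈ G, SeqComplete g M)
    (hfin : Module.Finite A (M ⧸ (Ideal.span (G : Set A) • ⊤ : Submodule A M))) :
    Module.Finite A M := by
  set I := Ideal.span (G : Set A) with hI
  obtain ⟨n, p, hp⟩ := Module.Finite.exists_fin' A (M ⧸ (I • ⊤ : Submodule A M))
  obtain ⟨ψ, hψ⟩ := Module.projective_lifting_property (I • ⊤ : Submodule A M).mkQ p
    (Submodule.mkQ_surjective _)
  have hQ : Subsingleton (M ⧸ LinearMap.range ψ) := by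
    apply nakayama G
    · intro g hg
      exact (seqComplete_of_finite_free (hA g hg) (Fin n → A)).quotient_range (hM g hg) ψ
    · rw [eq_top_iff]
      rintro x -
      obtain ⟨m, rfl⟩ := Submodule.mkQ_surjective _ x
      obtain ⟨c, hc⟩ := hp ((I • ⊤ : Submodule A M).mkQ m)
      have h1 : m - ψ c ∈ (I • ⊤ : Submodule A M) := by
        rw [← Submodule.Quotient.mk_eq_zero, Submodule.Quotient.mk_sub, sub_eq_zero]
        have := congrArg (fun g => g c) hψ
        simp only [LinearMap.coe_comp, Function.comp_apply] at this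
        rw [← Submodule.mkQ_apply, ← Submodule.mkQ_apply, this, hc]
      have h2 : (LinearMap.range ψ).mkQ m = (LinearMap.range ψ).mkQ (m - ψ c) := by
        have h3 : (LinearMap.range ψ).mkQ (ψ c) = 0 := by
          rw [Submodule.mkQ_apply, Submodule.Quotient.mk_eq_zero]
          exact LinearMap.mem_range_self ψ c
        rw [map_sub, h3, sub_zero]
      rw [h2]
      have := Submodule.mem_map_of_mem (f := (LinearMap.range ψ).mkQ) h1
      rw [Submodule.map_smul'', Submodule.map_top, Submodule.range_mkQ] at this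
      exact this
  have hsurj : Function.Surjective ψ := by
    rw [← LinearMap.range_eq_top]
    exact Submodule.Quotient.subsingleton_iff.mp hQ
  exact Module.Finite.of_surjective ψ hsurj

end finite

section compare
variable {A : Type u} [CommRing A] (R : Type*) [CommRing R] [Algebra A R]
  {M : Type v} [AddCommGroup M] [Module A M] [Module R M] [IsScalarTower A R M]

lemma smul_mem_of_gens (S : Set A) (S' : Set R)
    (hS : ∀ a ∈ S, ∀ m : M, ∃ r ∈ S', a • m = r • m) :
    ∀ a ∈ Ideal.span S, ∀ (N' : Submodule R M), ∀ m ∈ N',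
      a • m ∈ (Ideal.span S' • N' : Submodule R M) := by
  intro a ha
  induction ha using Submodule.span_induction with
  | mem a ha =>
    intro N' m hm
    obtain ⟨r, hr, e⟩ := hS a ha m
    rw [e]
    exact Submodule.smul_mem_smul (Ideal.subset_span hr) hm
  | zero =>
    intro N' m _
    rw [zero_smul]
    exact zero_mem _
  | add a b _ _ iha ihb =>
    intro N' m hm
    rw [add_smul]
    exact add_mem (iha N' m hm) (ihb N' m hm)
  | smul b a _ iha =>
    intro N' m hm
    rw [smul_eq_mul, mul_comm, mul_smul]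
    apply iha N'
    rw [← algebraMap_smul R b m]
    exact N'.smul_mem _ hm

lemma pow_smul_top_subset (S : Set A) (S' : Set R)
    (hS : ∀ a ∈ S, ∀ m : M, ∃ r ∈ S', a • m = r • m) (n : ℕ) :
    ∀ x ∈ (Ideal.span S ^ n • ⊤ : Submodule A M), x ∈ (Ideal.span S' ^ n • ⊤ : Submodule R M) := by
  induction n with
  | zero =>
    intro x _
    rw [pow_zero, Ideal.one_eq_top, Submodule.top_smul]
    trivial
  | succ n ih =>
    intro x hx
    rw [pow_succ', mul_smul] at hx
    refine Submodule.smul_induction_on hx (fun a ha m hm => ?_) (fun x y hx hy => add_mem hx hy)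
    rw [pow_succ', mul_smul]
    exact smul_mem_of_gens R S S' hS a ha _ m (ih m hm)

lemma finite_quotient_of_gens (S : Set A) (S' : Set R)
    (hS : ∀ a ∈ S, ∀ m : M, ∃ r ∈ S', a • m = r • m)
    (hfin : Module.Finite A (M ⧸ (Ideal.span S • ⊤ : Submodule A M))) :
    Module.Finite R (M ⧸ (Ideal.span S' • ⊤ : Submodule R M)) := by
  have hle : (Ideal.span S • ⊤ : Submodule A M) ≤
      LinearMap.ker ((Ideal.span S' • ⊤ : Submodule R M).mkQ.restrictScalars A) := by
    intro x hx
    rw [LinearMap.mem_ker, LinearMap.restrictScalars_apply, Submodule.mkQ_apply,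
      Submodule.Quotient.mk_eq_zero]
    have := pow_smul_top_subset R S S' hS 1 x (by rwa [pow_one])
    rwa [pow_one] at this
  have hsurj : Function.Surjective ((Ideal.span S • ⊤ : Submodule A M).liftQ
      ((Ideal.span S' • ⊤ : Submodule R M).mkQ.restrictScalars A) hle) := by
    intro y
    obtain ⟨m, rfl⟩ := Submodule.mkQ_surjective _ y
    exact ⟨Submodule.Quotient.mk m, rfl⟩
  have : Module.Finite A (M ⧸ (Ideal.span S' • ⊤ : Submodule R M)) :=
    Module.Finite.of_surjective _ hsurj
  exact Module.Finite.of_restrictScalars_finite A R _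

end compare

/-- Krull intersection for derived complete modules (auxiliary inductive form). -/
theorem iInf_pow_smul_eq_bot_aux (r : ℕ) :
    ∀ (A : Type u) [CommRing A] [IsNoetherianRing A] (G F : Finset A), F.card ≤ r →
      (∀ g ∈ G, SeqComplete g A) →
      ∀ (M : Type v) [AddCommGroup M] [Module A M], (∀ g ∈ G, SeqComplete g M) →
        (∀ f ∈ F, SeqComplete f M) →
        Module.Finite A (M ⧸ (Ideal.span ((G : Set A) ∪ (F : Set A)) • ⊤ : Submodule A M)) →
        (⨅ n : ℕ, Ideal.span ((G : Set A) ∪ (F : Set A)) ^ n • ⊤ : Submodule A M) = ⊥ := by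
  classical
  induction r with
  | zero =>
    intro A _ _ G F hF hA M _ _ hMG _ hfin
    have hF0 : F = ∅ := Finset.card_eq_zero.mp (Nat.le_zero.mp hF)
    subst hF0
    rw [Finset.coe_empty, Set.union_empty] at hfin ⊢
    have : Module.Finite A M := finite_of_seqComplete G hA hMG hfin
    apply Ideal.iInf_pow_smul_eq_bot_of_le_jacobson
    exact le_jacobson_bot _ (fun f hf => seqComplete_of_mem_span G hA hf)
  | succ r ih =>
    intro A _ _ G F hF hA M _ _ hMG hMF hfin
    by_cases hc : F.card ≤ r
    · exact ih A G F hc hA M hMG hMF hfin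
    have hpos : 0 < F.card := by omega
    obtain ⟨f, hf⟩ := Finset.card_pos.mp hpos
    have h : SeqComplete f M := hMF f hf
    let inst : Module A⟦X⟧ M := psModule h
    have hsm : ∀ (p : A⟦X⟧) (m : M), p • m = psSmul h p m := fun _ _ => rfl
    have ist : IsScalarTower A A⟦X⟧ M := ⟨fun a p m => by
      rw [hsm, hsm, smul_eq_C_mul, psSmul_C_mul]⟩
    have hC : ∀ (a : A) (m : M), (C a : A⟦X⟧) • m = a • m := fun a m => by
      rw [hsm, psSmul_C]
    have hX : ∀ m : M, (X : A⟦X⟧) • m = f • m := fun m => by rw [hsm, psSmul_X]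
    set G' : Finset A⟦X⟧ := insert X (G.image C) with hG'
    set F' : Finset A⟦X⟧ := (F.erase f).image C with hF'
    have hcard : F'.card ≤ r := by
      have h1 : F'.card ≤ (F.erase f).card := Finset.card_image_le
      have h2 : (F.erase f).card = F.card - 1 := Finset.card_erase_of_mem hf
      omega
    have hAG' : ∀ g ∈ G', SeqComplete g A⟦X⟧ := by
      intro g hg
      rw [hG', Finset.mem_insert, Finset.mem_image] at hg
      rcases hg with rfl | ⟨a, ha, rfl⟩
      · exact seqComplete_X
      · exact seqComplete_C (hA a ha)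
    have hMG' : ∀ g ∈ G', SeqComplete g M := by
      intro g hg
      rw [hG', Finset.mem_insert, Finset.mem_image] at hg
      rcases hg with rfl | ⟨a, ha, rfl⟩
      · exact h.of_smul_eq hX
      · exact (hMG a ha).of_smul_eq (hC a)
    have hMF' : ∀ g ∈ F', SeqComplete g M := by
      intro g hg
      rw [hF', Finset.mem_image] at hg
      obtain ⟨a, ha, rfl⟩ := hg
      exact (hMF a (Finset.mem_of_mem_erase ha)).of_smul_eq (hC a)
    have hS : ∀ a ∈ ((G : Set A) ∪ (F : Set A)), ∀ m : M,
        ∃ r ∈ ((G' : Set A⟦X⟧) ∪ (F' : Set A⟦X⟧)), a • m = r • m := by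
      intro a ha m
      rcases ha with ha | ha
      · refine ⟨C a, Or.inl ?_, (hC a m).symm⟩
        rw [hG', Finset.coe_insert, Finset.coe_image]
        exact Or.inr ⟨a, ha, rfl⟩
      · by_cases haf : a = f
        · subst haf
          refine ⟨X, Or.inl ?_, (hX m).symm⟩
          rw [hG', Finset.coe_insert]
          exact Or.inl rfl
        · refine ⟨C a, Or.inr ?_, (hC a m).symm⟩
          rw [hF', Finset.coe_image]
          exact ⟨a, Finset.mem_erase.mpr ⟨haf, ha⟩, rfl⟩
    have hfin' := finite_quotient_of_gens A⟦X⟧ _ _ hS hfin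
    have key := ih A⟦X⟧ G' F' hcard hAG' M hMG' hMF' hfin'
    rw [eq_bot_iff]
    intro x hx
    rw [Submodule.mem_iInf] at hx
    have hx' : x ∈ (⨅ n : ℕ, Ideal.span ((G' : Set A⟦X⟧) ∪ (F' : Set A⟦X⟧)) ^ n • ⊤ :
        Submodule A⟦X⟧ M) := by
      rw [Submodule.mem_iInf]
      intro n
      exact pow_smul_top_subset A⟦X⟧ _ _ hS n x (hx n)
    rw [key] at hx'
    rw [Submodule.mem_bot] at hx' ⊢
    exact hx'

/-- Krull intersection for derived complete modules. -/
theorem iInf_pow_smul_eq_bot_of_seqComplete {A : Type u} [CommRing A] [IsNoetherianRing A]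
    (F : Finset A) (M : Type v) [AddCommGroup M] [Module A M] (hM : ∀ f ∈ F, SeqComplete f M)
    (hfin : Module.Finite A (M ⧸ (Ideal.span (F : Set A) • ⊤ : Submodule A M))) :
    (⨅ n : ℕ, Ideal.span (F : Set A) ^ n • ⊤ : Submodule A M) = ⊥ := by
  have := iInf_pow_smul_eq_bot_aux F.card A ∅ F le_rfl (by simp) M (by simp) hM
    (by rwa [Finset.coe_empty, Set.empty_union])
  rwa [Finset.coe_empty, Set.empty_union] at this

end Groth.Agent.Lib.Helper36.DC
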