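import Mathlib
import Groth.Agent.S7059
import Groth.Agent.Lib.Helper63.CompletionNoeth
import Groth.Agent.Lib.Helper36.CompletionStep2

/-!
Helper (helper36): over a Noetherian ring `A`, a module `M` which is derived complete with respect
to an ideal `I` and such that `M/IM` is finite has bounded `g`-power torsion for every `g : A`
(it is a finite module over the Noetherian ring `A^`).
-/

set_option autoImplicit false
universe u

open CategoryTheory
attribute [local instance] HasDerivedCategory.standard

namespace Groth.Agent.Lib.Helper36.DC

variable {A : Type u} [CommRing A]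

theorem boundedTorsion_of_isDerivedComplete [IsNoetherianRing A] (I : Ideal A) (M : Type u)
    [AddCommGroup M] [Module A M]
    (hc : DRing.IsDerivedComplete I (Dual.inD A M))
    (hf : Module.Finite A (M ⧸ I • (⊤ : Submodule A M))) (g : A) : BoundedTorsion g M := by
  obtain ⟨h1, h2⟩ := Groth.Agent.S7059.result I M hc hf
  have hN : IsNoetherianRing (AdicCompletion I A) :=
    Groth.Agent.Lib.Helper63.CompletionNoeth.isNoetherianRing_adicCompletion A I
  have hNM : IsNoetherian (AdicCompletion I A) (AdicCompletion I M) :=
    isNoetherian_of_isNoetherianRing_of_finite _ _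
  let φ : AdicCompletion I M →ₗ[AdicCompletion I A] AdicCompletion I M :=
    LinearMap.lsmul (AdicCompletion I A) (AdicCompletion I M) (algebraMap A (AdicCompletion I A) g)
  obtain ⟨c, hc'⟩ := monotone_stabilizes_iff_noetherian.mpr hNM φ.iterateKer
  have hφ : ∀ (m : ℕ) (y : AdicCompletion I M), (φ ^ m) y = g ^ m • y := by
    intro m
    induction m with
    | zero => intro y; simp
    | succ m ih =>
      intro y
      rw [pow_succ', Module.End.mul_apply, ih, pow_succ', mul_smul]
      show (algebraMap A (AdicCompletion I A) g) • (g ^ m • y) = g • (g ^ m • y)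
      rw [algebraMap_smul]
  have hbij : Function.Bijective (AdicCompletion.of I M) := AdicCompletion.of_bijective I M
  refine ⟨c, fun m x hx => ?_⟩
  have h3 : AdicCompletion.of I M x ∈ φ.iterateKer (max m c) := by
    show AdicCompletion.of I M x ∈ LinearMap.ker (φ ^ (max m c))
    rw [LinearMap.mem_ker, hφ, ← map_smul]
    have : g ^ (max m c) • x = 0 := by
      obtain ⟨k, hk⟩ := Nat.exists_eq_add_of_le (le_max_left m c)
      rw [hk, pow_add, mul_comm, mul_smul, hx, smul_zero]
    rw [this, map_zero]
  rw [← hc' (max m c) (le_max_right m c)] at h3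
  have h4 : (φ ^ c) (AdicCompletion.of I M x) = 0 := h3
  rw [hφ, ← map_smul] at h4
  exact (map_eq_zero_iff _ hbij.1).mp h4

end Groth.Agent.Lib.Helper36.DC
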