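import Mathlib
import Groth.Agent.Lib.Helper36.CompletionStep

/-!
Helper (helper36): existence of the derived completion with respect to a finitely generated
ideal, with amplitude estimates.
-/

set_option autoImplicit false
universe u

open CategoryTheory CategoryTheory.Limits CategoryTheory.Pretriangulated DerivedCategory
attribute [local instance] HasDerivedCategory.standard

namespace Groth.Agent.Lib.Helper36.DC

open Groth.Agent.Lib.Helper36.DCF

variable {A : Type u} [CommRing A]

/-- Iterating the one-step completion along a finite set of elements. -/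
theorem exists_completion_finset (s : Finset A) : ∀ K : Dual.D A,
    ∃ (C : Dual.D A) (η : K ⟶ C),
      (∀ f ∈ s, ∀ i : ℤ, SeqComplete f (Dual.HD A C i)) ∧
      (∀ E : Dual.D A, (∀ f ∈ s, ∀ i : ℤ, SeqComplete f (Dual.HD A E i)) →
        Function.Bijective (fun v : C ⟶ E => η ≫ v)) ∧
      (∀ a : ℤ, (∀ i : ℤ, i < a → Subsingleton (Dual.HD A K i)) →
        ∀ i : ℤ, i + (s.card : ℤ) < a → Subsingleton (Dual.HD A C i)) ∧
      (∀ b : ℤ, (∀ i : ℤ, b < i → Subsingleton (Dual.HD A K i)) →
        ∀ i : ℤ, b < i → Subsingleton (Dual.HD A C i)) := by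
  classical
  induction s using Finset.induction_on with
  | empty =>
    intro K
    refine ⟨K, 𝟙 K, fun f hf => absurd hf (Finset.notMem_empty f), fun E _ => ?_, ?_, ?_⟩
    · have : (fun v : K ⟶ E => 𝟙 K ≫ v) = id := by
        funext v
        simp
      rw [this]
      exact Function.bijective_id
    · intro a ha i hi
      exact ha i (by simpa using hi)
    · intro b hb i hi
      exact hb i hi
  | insert g s hg ih =>
    intro K
    obtain ⟨C', η', h1, h2, h3, h4⟩ := ih K
    obtain ⟨C, η, k1, k2, k3, k4⟩ := exists_completion_step g C'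
    refine ⟨C, η' ≫ η, ?_, ?_, ?_, ?_⟩
    · intro f hf i
      rcases Finset.mem_insert.mp hf with rfl | hf'
      · exact k1 i
      · exact k3 f (h1 f hf') i
    · intro E hE
      have hb1 := h2 E (fun f hf => hE f (Finset.mem_insert_of_mem hf))
      have hb2 := k2 E (hE g (Finset.mem_insert_self g s))
      have : (fun v : C ⟶ E => (η' ≫ η) ≫ v) =
          (fun w : C' ⟶ E => η' ≫ w) ∘ (fun v : C ⟶ E => η ≫ v) := by
        funext v
        simp
      rw [this]
      exact hb1.comp hb2
    · intro a ha i hi
      rw [Finset.card_insert_of_notMem hg] at hi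
      push_cast at hi
      exact k4 i (h3 a ha i (by omega)) (h3 a ha (i + 1) (by omega))
    · intro b hb i hi
      exact k4 i (h4 b hb i hi) (h4 b hb (i + 1) (by omega))

/-- Existence of a derived completion (as a universal arrow) for an ideal generated by a finite
set, with amplitude estimates. -/
theorem exists_completion (I : Ideal A) (s : Finset A) (hs : Ideal.span (s : Set A) = I)
    (K : Dual.D A) :
    ∃ (C : Dual.D A) (η : K ⟶ C), DRing.IsDerivedComplete I C ∧
      (∀ E : Dual.D A, DRing.IsDerivedComplete I E →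
        Function.Bijective (fun v : C ⟶ E => η ≫ v)) ∧
      (∀ a : ℤ, (∀ i : ℤ, i < a → Subsingleton (Dual.HD A K i)) →
        ∀ i : ℤ, i + (s.card : ℤ) < a → Subsingleton (Dual.HD A C i)) ∧
      (∀ b : ℤ, (∀ i : ℤ, b < i → Subsingleton (Dual.HD A K i)) →
        ∀ i : ℤ, b < i → Subsingleton (Dual.HD A C i)) := by
  obtain ⟨C, η, h1, h2, h3, h4⟩ := exists_completion_finset s K
  refine ⟨C, η, ?_, ?_, h3, h4⟩
  · rw [isDerivedComplete_iff_HD]
    intro f hf i
    rw [← hs] at hf
    exact seqComplete_of_mem_span s (fun f' hf' => h1 f' hf' i) hf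
  · intro E hE
    rw [isDerivedComplete_iff_HD] at hE
    refine h2 E (fun f hf i => hE f ?_ i)
    rw [← hs]
    exact Ideal.subset_span hf

/-- The derived completion exists for finitely generated ideals. -/
theorem hasDerivedCompletion_of_fg (I : Ideal A) (hI : I.FG) : DRing.HasDerivedCompletion I := by
  obtain ⟨s, hs⟩ := hI
  choose Cobj η hC hU _ _ using exists_completion I s hs
  let F_obj : Dual.D A → DRing.DComp I := fun K => ⟨Cobj K, hC K⟩
  let e : ∀ (X : Dual.D A) (Y : DRing.DComp I),
      (F_obj X ⟶ Y) ≃ (X ⟶ (ObjectProperty.ι (DRing.IsDerivedComplete I)).obj Y) := fun X Y =>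
    ((DRing.IsDerivedComplete I).fullyFaithfulι.homEquiv (X := F_obj X) (Y := Y)).trans
      (Equiv.ofBijective _ (hU X Y.obj Y.property))
  exact ⟨_, ⟨Adjunction.adjunctionOfEquivLeft e (by
    intro X Y Y' g h
    simp [e, F_obj]
    rfl)⟩⟩

end Groth.Agent.Lib.Helper36.DC
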