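import Mathlib
import Groth.Agent.Lib.Helper36.DerivedCompletionExists

/-!
Helper (helper36): any universal arrow to a derived complete object is isomorphic to the chosen
derived completion; amplitude of the derived completion.
-/

set_option autoImplicit false
universe u

open CategoryTheory CategoryTheory.Limits CategoryTheory.Pretriangulated DerivedCategory
attribute [local instance] HasDerivedCategory.standard

namespace Groth.Agent.Lib.Helper36.DC

open Groth.Agent.Lib.Helper36.DCF

variable {A : Type u} [CommRing A] (I : Ideal A) [DRing.HasDerivedCompletion I]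

theorem exists_iso_completion (K C : Dual.D A) (η : K ⟶ C) (hC : DRing.IsDerivedComplete I C)
    (hU : ∀ E : Dual.D A, DRing.IsDerivedComplete I E →
      Function.Bijective (fun v : C ⟶ E => η ≫ v)) :
    ∃ e : C ≅ ((DRing.derivedCompletion I).obj K).obj,
      η ≫ e.hom = DRing.toDerivedCompletion I K := by
  have hK := ((DRing.derivedCompletion I).obj K).property
  obtain ⟨a, ha⟩ := (hU _ hK).2 (DRing.toDerivedCompletion I K)
  obtain ⟨b, hb⟩ := exists_lift_completion I hC η
  have ha' : η ≫ a = DRing.toDerivedCompletion I K := ha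
  refine ⟨⟨a, b, ?_, ?_⟩, ha'⟩
  · apply (hU C hC).1
    show η ≫ (a ≫ b) = η ≫ 𝟙 C
    rw [← Category.assoc, ha', hb, Category.comp_id]
  · apply hom_ext_completion I hK
    rw [← Category.assoc, hb, ha', Category.comp_id]

/-- Amplitude of the derived completion with respect to an ideal generated by `s`. -/
theorem subsingleton_HD_completion (s : Finset A) (hs : Ideal.span (s : Set A) = I)
    (K : Dual.D A) :
    (∀ a : ℤ, (∀ i : ℤ, i < a → Subsingleton (Dual.HD A K i)) →
        ∀ i : ℤ, i + (s.card : ℤ) < a →
          Subsingleton (Dual.HD A ((DRing.derivedCompletion I).obj K).obj i)) ∧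
      (∀ b : ℤ, (∀ i : ℤ, b < i → Subsingleton (Dual.HD A K i)) →
        ∀ i : ℤ, b < i → Subsingleton (Dual.HD A ((DRing.derivedCompletion I).obj K).obj i)) := by
  obtain ⟨C, η, hC, hU, h3, h4⟩ := exists_completion I s hs K
  obtain ⟨e, -⟩ := exists_iso_completion I K C η hC hU
  have key : ∀ i : ℤ, Subsingleton (Dual.HD A C i) →
      Subsingleton (Dual.HD A ((DRing.derivedCompletion I).obj K).obj i) := by
    intro i hi
    let l := ((homologyFunctor (ModuleCat.{u} A) i).mapIso e).toLinearEquiv
    exact @Equiv.subsingleton _ _ l.symm.toEquiv hi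
  exact ⟨fun a ha i hi => key i (h3 a ha i hi), fun b hb i hi => key i (h4 b hb i hi)⟩

end Groth.Agent.Lib.Helper36.DC
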