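import Mathlib

/-!
Helper (helper36): (1) a Yoneda argument: if precomposition with `η : M → P` is bijective on maps
to modules killed by an ideal `𝔞`, then `M/𝔞M → P/𝔞P` is bijective; (2) if `P` is `I`-adically
complete and `η` induces bijections `M/I^k M → P/I^k P`, then `P ≃ AdicCompletion I M`.
-/

set_option autoImplicit false
universe u

namespace Groth.Agent.Lib.Helper36.DC

variable {A : Type u} [CommRing A]

section yoneda
variable {M P : Type u} [AddCommGroup M] [Module A M] [AddCommGroup P] [Module A P]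

theorem bijective_reduceModIdeal_of_bijective_precomp (η : M →ₗ[A] P) (𝔞 : Ideal A)
    (h : ∀ (Q : Type u) [AddCommGroup Q] [Module A Q], (∀ a ∈ 𝔞, ∀ q : Q, a • q = 0) →
      Function.Bijective (fun v : P →ₗ[A] Q => v ∘ₗ η)) :
    Function.Bijective (η.reduceModIdeal 𝔞) := by
  have hkill : ∀ (N : Type u) [AddCommGroup N] [Module A N],
      ∀ a ∈ 𝔞, ∀ q : N ⧸ (𝔞 • ⊤ : Submodule A N), a • q = 0 := by
    intro N _ _ a ha q
    obtain ⟨n, rfl⟩ := Submodule.Quotient.mk_surjective _ q
    rw [← Submodule.Quotient.mk_smul, Submodule.Quotient.mk_eq_zero]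
    exact Submodule.smul_mem_smul ha Submodule.mem_top
  -- the retraction
  obtain ⟨r, hr⟩ := (h (M ⧸ (𝔞 • ⊤ : Submodule A M)) (hkill M)).2
    (Submodule.mkQ (𝔞 • ⊤ : Submodule A M))
  have hr' : ∀ m : M, r (η m) = Submodule.Quotient.mk m := fun m => congr($hr m)
  have hrker : (𝔞 • ⊤ : Submodule A P) ≤ LinearMap.ker r := by
    rw [Submodule.smul_le]
    intro a ha p _
    rw [LinearMap.mem_ker, map_smul]
    exact hkill M a ha _
  let rbar : P ⧸ (𝔞 • ⊤ : Submodule A P) →ₗ[A] M ⧸ (𝔞 • ⊤ : Submodule A M) :=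
    Submodule.liftQ _ r hrker
  have h1 : ∀ x, rbar (η.reduceModIdeal 𝔞 x) = x := by
    intro x
    obtain ⟨m, rfl⟩ := Submodule.Quotient.mk_surjective _ x
    rw [LinearMap.reduceModIdeal_apply]
    show r (η m) = _
    exact hr' m
  have h2 : ∀ y, η.reduceModIdeal 𝔞 (rbar y) = y := by
    have hinj := (h (P ⧸ (𝔞 • ⊤ : Submodule A P)) (hkill P)).1
    let ηbar : M ⧸ (𝔞 • ⊤ : Submodule A M) →ₗ[A] P ⧸ (𝔞 • ⊤ : Submodule A P) :=
      (η.reduceModIdeal 𝔞).restrictScalars A
    have h3 : (ηbar ∘ₗ r) = Submodule.mkQ (𝔞 • ⊤ : Submodule A P) := by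
      apply hinj
      apply LinearMap.ext
      intro m
      show ηbar (r (η m)) = Submodule.Quotient.mk (η m)
      rw [hr' m]
      rfl
    intro y
    obtain ⟨p, rfl⟩ := Submodule.Quotient.mk_surjective _ y
    exact congr($h3 p)
  exact ⟨Function.LeftInverse.injective h1, Function.RightInverse.surjective h2⟩

end yoneda

section adic
variable {M P : Type u} [AddCommGroup M] [Module A M] [AddCommGroup P] [Module A P]

theorem bijective_map_of_bijective_reduceModIdeal (I : Ideal A) (η : M →ₗ[A] P)
    (h : ∀ k : ℕ, Function.Bijective (η.reduceModIdeal (I ^ k))) :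
    Function.Bijective (AdicCompletion.map I η) := by
  constructor
  · intro x y hxy
    apply AdicCompletion.ext
    intro n
    have := congrArg (fun z => z.val n) hxy
    simp only [AdicCompletion.map_val_apply] at this
    exact (h n).1 this
  · intro y
    choose g hg using fun n => (h n).2 (y.val n)
    have hcompat : ∀ {m n : ℕ} (hmn : m ≤ n), AdicCompletion.transitionMap I M hmn (g n) = g m := by
      intro m n hmn
      apply (h m).1
      have h1 := congr($(AdicCompletion.transitionMap_comp_reduceModIdeal I η hmn) (g n))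
      simp only [LinearMap.coe_comp, Function.comp_apply] at h1
      rw [hg m]
      have h2 : (η.reduceModIdeal (I ^ m)) ((AdicCompletion.transitionMap I M hmn) (g n)) =
          (AdicCompletion.transitionMap I P hmn) ((η.reduceModIdeal (I ^ n)) (g n)) := h1.symm
      rw [h2, hg n]
      exact y.property hmn
    refine ⟨⟨g, fun hmn => hcompat hmn⟩, ?_⟩
    apply AdicCompletion.ext
    intro n
    rw [AdicCompletion.map_val_apply]
    exact hg n

theorem exists_equiv_adicCompletion (I : Ideal A) (η : M →ₗ[A] P) [IsAdicComplete I P]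
    (h : ∀ k : ℕ, Function.Bijective (η.reduceModIdeal (I ^ k))) :
    ∃ e : P ≃ₗ[A] AdicCompletion I M, ∀ m : M, e (η m) = AdicCompletion.of I M m := by
  let e1 : AdicCompletion I M ≃ₗ[A] AdicCompletion I P :=
    LinearEquiv.ofBijective ((AdicCompletion.map I η).restrictScalars A)
      (bijective_map_of_bijective_reduceModIdeal I η h)
  let e2 : P ≃ₗ[A] AdicCompletion I P :=
    LinearEquiv.ofBijective (AdicCompletion.of I P) (AdicCompletion.of_bijective I P)
  refine ⟨e2.trans e1.symm, fun m => ?_⟩
  rw [LinearEquiv.trans_apply, LinearEquiv.symm_apply_eq]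
  show AdicCompletion.of I P (η m) = AdicCompletion.map I η (AdicCompletion.of I M m)
  rw [AdicCompletion.map_of]

end adic

end Groth.Agent.Lib.Helper36.DC
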