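import Mathlib
import Groth.Agent.Lib.Helper36.BoundedTorsion
import Groth.Agent.Lib.Helper36.YonedaQuot
import Groth.Agent.Lib.Helper36.DerivedCompletionExists

/-!
Helper (helper36): over a Noetherian ring, the derived completion of a finite module placed in a
single degree `n` is again a module placed in degree `n`, namely the `I`-adic completion.
-/

set_option autoImplicit false
universe u

open CategoryTheory CategoryTheory.Limits CategoryTheory.Pretriangulated DerivedCategory
attribute [local instance] HasDerivedCategory.standard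

namespace Groth.Agent.Lib.Helper36.DC

open Groth.Agent.Lib.Helper36.DCF Groth.Agent.Lib.Helper12

variable {A : Type u} [CommRing A]

lemma seqComplete_of_subsingleton_module (f : A) (N : Type*) [AddCommGroup N] [Module A N]
    [Subsingleton N] : SeqComplete f N :=
  ⟨fun _ _ _ => Subsingleton.elim _ _, fun _ => ⟨0, fun _ => Subsingleton.elim _ _⟩⟩

lemma seqComplete_of_smul_eq_zero (g : A) (N : Type*) [AddCommGroup N] [Module A N]
    (h : ∀ q : N, g • q = 0) : SeqComplete g N :=
  ⟨fun m hm i => by rw [hm i, h], fun c => ⟨c, fun i => by rw [h, add_zero]⟩⟩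

lemma seqComplete_of_pow_smul_eq_zero (g : A) (k : ℕ) (N : Type*) [AddCommGroup N] [Module A N]
    (h : ∀ q : N, g ^ k • q = 0) : SeqComplete g N :=
  seqComplete_of_pow (seqComplete_of_smul_eq_zero (g ^ k) N h)

/-- The `n`-th cohomology of a module placed in degree `n`. -/
noncomputable def HDSingleEquiv (n : ℤ) (P : ModuleCat.{u} A) :
    Dual.HD A ((singleFunctor (ModuleCat.{u} A) n).obj P) n ≃ₗ[A] P :=
  ((singleFunctorCompHomologyFunctorIso (ModuleCat.{u} A) n).app P).toLinearEquiv

lemma subsingleton_HD_single (n : ℤ) (P : ModuleCat.{u} A) (i : ℤ) (hi : i ≠ n) :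
    Subsingleton (Dual.HD A ((singleFunctor (ModuleCat.{u} A) n).obj P) i) := by
  rcases lt_or_gt_of_ne hi with h | h
  · exact ModuleCat.subsingleton_of_isZero
      (isZero_of_isGE ((singleFunctor (ModuleCat.{u} A) n).obj P) n i h)
  · exact ModuleCat.subsingleton_of_isZero
      (isZero_of_isLE ((singleFunctor (ModuleCat.{u} A) n).obj P) n i h)

lemma seqComplete_HD_single (f : A) (n : ℤ) (P : ModuleCat.{u} A) (h : SeqComplete f P) (i : ℤ) :
    SeqComplete f (Dual.HD A ((singleFunctor (ModuleCat.{u} A) n).obj P) i) := by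
  by_cases hi : i = n
  · subst hi
    exact h.of_linearEquiv (HDSingleEquiv i P).symm
  · have := subsingleton_HD_single n P i hi
    exact seqComplete_of_subsingleton_module f _

lemma bijective_precomp_of_fullyFaithful {C D : Type*} [Category C] [Category D] (F : C ⥤ D)
    [F.Full] [F.Faithful] {X Y Z : C} (η : X ⟶ Y)
    (h : Function.Bijective (fun v : F.obj Y ⟶ F.obj Z => F.map η ≫ v)) :
    Function.Bijective (fun v : Y ⟶ Z => η ≫ v) := by
  constructor
  · intro v v' hvv
    apply F.map_injective
    apply h.1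
    show F.map η ≫ F.map v = F.map η ≫ F.map v'
    rw [← F.map_comp, ← F.map_comp]
    exact congrArg _ hvv
  · intro w
    obtain ⟨v, hv⟩ := h.2 (F.map w)
    obtain ⟨v', rfl⟩ := F.map_surjective v
    refine ⟨v', F.map_injective ?_⟩
    rw [F.map_comp]
    exact hv

/-- From the universal property in `D(A)` to quotients. -/
theorem bijective_reduceModIdeal_of_universal (n : ℤ) (s : Finset A) {M P : ModuleCat.{u} A}
    (η : M ⟶ P)
    (hU : ∀ E : Dual.D A, (∀ f ∈ s, ∀ i : ℤ, SeqComplete f (Dual.HD A E i)) →
      Function.Bijective (fun v : (singleFunctor (ModuleCat.{u} A) n).obj P ⟶ E =>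
        (singleFunctor (ModuleCat.{u} A) n).map η ≫ v))
    (𝔞 : Ideal A) (h𝔞 : ∀ f ∈ s, ∃ k : ℕ, f ^ k ∈ 𝔞) :
    Function.Bijective (η.hom.reduceModIdeal 𝔞) := by
  apply bijective_reduceModIdeal_of_bijective_precomp
  intro Q _ _ hQ
  have hE : ∀ f ∈ s, ∀ i : ℤ, SeqComplete f
      (Dual.HD A ((singleFunctor (ModuleCat.{u} A) n).obj (ModuleCat.of A Q)) i) := by
    intro f hf i
    obtain ⟨k, hk⟩ := h𝔞 f hf
    exact seqComplete_HD_single f n (ModuleCat.of A Q)
      (seqComplete_of_pow_smul_eq_zero f k Q (fun q => hQ _ hk q)) i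
  have h1 := bijective_precomp_of_fullyFaithful (singleFunctor (ModuleCat.{u} A) n)
    (Z := ModuleCat.of A Q) η (hU _ hE)
  constructor
  · intro v v' hvv
    have : ModuleCat.ofHom v = ModuleCat.ofHom v' := by
      apply h1.1
      ext x
      exact congr($hvv x)
    exact congrArg ModuleCat.Hom.hom this
  · intro w
    obtain ⟨v, hv⟩ := h1.2 (ModuleCat.ofHom w)
    refine ⟨v.hom, ?_⟩
    exact congrArg ModuleCat.Hom.hom hv

/-- Concentration in one degree gives a module placed in that degree. -/
lemma exists_iso_single_of_subsingleton (n : ℤ) (C : Dual.D A)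
    (h : ∀ j : ℤ, j ≠ n → Subsingleton (Dual.HD A C j)) :
    ∃ Y : ModuleCat.{u} A, Nonempty (C ≅ (singleFunctor (ModuleCat.{u} A) n).obj Y) := by
  have h1 : C.IsGE n := by
    rw [isGE_iff]
    intro i hi
    have := h i (ne_of_lt hi)
    exact ModuleCat.isZero_of_subsingleton _
  have h2 : C.IsLE n := by
    rw [isLE_iff]
    intro i hi
    have := h i (ne_of_gt hi)
    exact ModuleCat.isZero_of_subsingleton _
  exact exists_iso_singleFunctor_obj_of_isGE_of_isLE C n

/-- The derived completion, along a finite set of elements, of a finite module placed in degree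
`n` is a module placed in degree `n`. -/
theorem exists_single_completion [IsNoetherianRing A] (n : ℤ) (M : ModuleCat.{u} A)
    [Module.Finite A M] (s : Finset A) :
    ∃ (P : ModuleCat.{u} A) (η : M ⟶ P),
      (∀ f ∈ s, SeqComplete f P) ∧
      (∀ E : Dual.D A, (∀ f ∈ s, ∀ i : ℤ, SeqComplete f (Dual.HD A E i)) →
        Function.Bijective (fun v : (singleFunctor (ModuleCat.{u} A) n).obj P ⟶ E =>
          (singleFunctor (ModuleCat.{u} A) n).map η ≫ v)) := by
  classical
  induction s using Finset.induction_on with
  | empty =>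
    refine ⟨M, 𝟙 M, fun f hf => absurd hf (Finset.notMem_empty f), fun E _ => ?_⟩
    have : (fun v : (singleFunctor (ModuleCat.{u} A) n).obj M ⟶ E =>
        (singleFunctor (ModuleCat.{u} A) n).map (𝟙 M) ≫ v) = id := by
      funext v
      simp
    rw [this]
    exact Function.bijective_id
  | insert g s hg ih =>
    obtain ⟨P', η', h1, h2⟩ := ih
    -- bounded torsion of `P'`
    have hJ : ∀ f ∈ Ideal.span (s : Set A), SeqComplete f P' := fun f hf =>
      seqComplete_of_mem_span s h1 hf
    have hc : DRing.IsDerivedComplete (Ideal.span (s : Set A)) (Dual.inD A P') :=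
      (isDerivedComplete_iff (Ideal.span (s : Set A))).mpr hJ
    have hq := bijective_reduceModIdeal_of_universal n s η' h2 (Ideal.span (s : Set A))
      (fun f hf => ⟨1, by rw [pow_one]; exact Ideal.subset_span hf⟩)
    have hfin : Module.Finite A (P' ⧸ (Ideal.span (s : Set A)) • (⊤ : Submodule A P')) := by
      have hsurj : Function.Surjective
          ((η'.hom.reduceModIdeal (Ideal.span (s : Set A))).restrictScalars A) := hq.2
      exact Module.Finite.of_surjective _ hsurj
    have hbt : BoundedTorsion g P' :=
      boundedTorsion_of_isDerivedComplete (Ideal.span (s : Set A)) P' hc hfin g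
    -- the step
    obtain ⟨C, ηC, k1, k2, k3, k4, k5⟩ :=
      exists_completion_step' g ((singleFunctor (ModuleCat.{u} A) n).obj P')
    have hCz : ∀ j : ℤ, j ≠ n → Subsingleton (Dual.HD A C j) := by
      intro j hj
      by_cases hj1 : j + 1 = n
      · subst hj1
        exact k5 j (subsingleton_HD_single _ P' j hj)
          (hbt.of_linearEquiv (HDSingleEquiv (j + 1) P').symm)
      · exact k4 j (subsingleton_HD_single _ P' j hj) (subsingleton_HD_single _ P' (j + 1) hj1)
    obtain ⟨P'', ⟨eC⟩⟩ := exists_iso_single_of_subsingleton n C hCz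
    let η'' : P' ⟶ P'' := (singleFunctor (ModuleCat.{u} A) n).preimage (ηC ≫ eC.hom)
    have hη'' : (singleFunctor (ModuleCat.{u} A) n).map η'' = ηC ≫ eC.hom :=
      (singleFunctor (ModuleCat.{u} A) n).map_preimage _
    have hP'' : ∀ f : A, SeqComplete f (Dual.HD A C n) → SeqComplete f P'' := by
      intro f hf
      exact (hf.of_linearEquiv
        ((homologyFunctor (ModuleCat.{u} A) n).mapIso eC).toLinearEquiv).of_linearEquiv
        (HDSingleEquiv n P'')
    refine ⟨P'', η' ≫ η'', ?_, ?_⟩
    · intro f hf
      rcases Finset.mem_insert.mp hf with rfl | hf'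
      · exact hP'' f (k1 n)
      · exact hP'' f (k3 f (seqComplete_HD_single f n P' (h1 f hf')) n)
    · intro E hE
      have hb1 := h2 E (fun f hf => hE f (Finset.mem_insert_of_mem hf))
      have hb2 := k2 E (hE g (Finset.mem_insert_self g s))
      have hb3 : Function.Bijective
          (fun v : (singleFunctor (ModuleCat.{u} A) n).obj P'' ⟶ E => eC.hom ≫ v) :=
        ⟨fun v v' hvv => (cancel_epi eC.hom).mp hvv, fun w => ⟨eC.inv ≫ w, by simp⟩⟩
      have : (fun v : (singleFunctor (ModuleCat.{u} A) n).obj P'' ⟶ E =>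
          (singleFunctor (ModuleCat.{u} A) n).map (η' ≫ η'') ≫ v) =
          (fun w => (singleFunctor (ModuleCat.{u} A) n).map η' ≫ w) ∘
            (fun w : C ⟶ E => ηC ≫ w) ∘ (fun v => eC.hom ≫ v) := by
        funext v
        simp only [Function.comp_apply, Functor.map_comp, hη'', Category.assoc]
      rw [this]
      exact hb1.comp (hb2.comp hb3)

/-- The derived `I`-completion of a finite module placed in degree `n` over a Noetherian ring is
the `I`-adic completion placed in degree `n`. -/
theorem exists_single_completion_ideal [IsNoetherianRing A] (I : Ideal A) (n : ℤ)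
    (M : ModuleCat.{u} A) [Module.Finite A M] :
    ∃ (P : ModuleCat.{u} A) (η : M ⟶ P),
      DRing.IsDerivedComplete I ((singleFunctor (ModuleCat.{u} A) n).obj P) ∧
      (∀ E : Dual.D A, DRing.IsDerivedComplete I E →
        Function.Bijective (fun v : (singleFunctor (ModuleCat.{u} A) n).obj P ⟶ E =>
          (singleFunctor (ModuleCat.{u} A) n).map η ≫ v)) ∧
      ∃ e : P ≃ₗ[A] AdicCompletion I M, ∀ m : M, e (η.hom m) = AdicCompletion.of I M m := by
  obtain ⟨s, hs⟩ := IsNoetherian.noetherian I
  obtain ⟨P, η, h1, h2⟩ := exists_single_completion n M s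
  have hI : ∀ f ∈ I, SeqComplete f P := by
    intro f hf
    rw [← hs] at hf
    exact seqComplete_of_mem_span s h1 hf
  refine ⟨P, η, ?_, ?_, ?_⟩
  · rw [isDerivedComplete_iff_HD]
    intro f hf i
    exact seqComplete_HD_single f n P (hI f hf) i
  · intro E hE
    rw [isDerivedComplete_iff_HD] at hE
    refine h2 E (fun f hf i => hE f ?_ i)
    rw [← hs]
    exact Ideal.subset_span hf
  · have hsI : ∀ f ∈ s, f ∈ I := fun f hf => by
      rw [← hs]
      exact Ideal.subset_span hf
    have hc : DRing.IsDerivedComplete I (Dual.inD A P) := (isDerivedComplete_iff I).mpr hI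
    have hq := bijective_reduceModIdeal_of_universal n s η h2 I
      (fun f hf => ⟨1, by rw [pow_one]; exact hsI f hf⟩)
    have hfin : Module.Finite A (P ⧸ I • (⊤ : Submodule A P)) := by
      have hsurj : Function.Surjective ((η.hom.reduceModIdeal I).restrictScalars A) := hq.2
      exact Module.Finite.of_surjective _ hsurj
    obtain ⟨hcomp, -⟩ := Groth.Agent.S7059.result I P hc hfin
    have hk : ∀ k : ℕ, Function.Bijective (η.hom.reduceModIdeal (I ^ k)) := fun k =>
      bijective_reduceModIdeal_of_universal n s η h2 (I ^ k)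
        (fun f hf => ⟨k, Ideal.pow_mem_pow (hsI f hf) k⟩)
    exact exists_equiv_adicCompletion I η.hom hk

end Groth.Agent.Lib.Helper36.DC
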