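import Mathlib
import Groth.Agent.Lib.Helper36.DerivedCompletionExists
import Groth.Agent.Lib.Helper36.SingleCompletion

/-!
# Functors commuting with derived completion (helper36)

Namespace `Groth.Agent.Lib.Helper36.FCo`.

Abstract criterion: an endofunctor `F` of `D(A)` which is compatible with multiplication by
scalars, weakly exact, and preserves `f`-complete objects, carries completion maps (universal
arrows to derived complete objects, for a finitely generated ideal) to completion maps.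
-/

set_option autoImplicit false
universe u
open CategoryTheory CategoryTheory.Limits CategoryTheory.Pretriangulated DerivedCategory
attribute [local instance] HasDerivedCategory.standard

namespace Groth.Agent.Lib.Helper36.FCo

open Groth.Agent.Lib.Helper36.DC Groth.Agent.Lib.Helper36.DCF

variable {A : Type u} [CommRing A]

/-- `f`-complete objects -/
def FC (f : A) (E : Dual.D A) : Prop := ∀ i : ℤ, SeqComplete f (Dual.HD A E i)

lemma FC.shift {f : A} {E : Dual.D A} (h : FC f E) (n : ℤ) : FC f (E⟦n⟧) :=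
  seqComplete_shift E h n

/-- objects complete with respect to every element of a finite set -/
def SC (s : Finset A) (E : Dual.D A) : Prop := ∀ f ∈ s, FC f E

/-- `(f^2) • 𝟙 = 0` on the cone of `f • 𝟙` -/
lemma sq_smul_cone_eq_zero (f : A) {G C : Dual.D A} (β : G ⟶ C) (γ : C ⟶ G⟦(1 : ℤ)⟧)
    (hT : Triangle.mk (f • 𝟙 G) β γ ∈ distTriang (Dual.D A)) : (f * f) • 𝟙 C = 0 := by
  have h1 : β ≫ (f • 𝟙 C) = 0 := by
    have h0 := comp_distTriang_mor_zero₁₂ _ hT
    dsimp only [Triangle.mk] at h0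
    rw [Linear.comp_smul, Category.comp_id, ← Category.id_comp β, ← Linear.smul_comp]
    exact h0
  obtain ⟨t, ht⟩ := Triangle.yoneda_exact₃ _ hT (f • 𝟙 C) h1
  dsimp only [Triangle.mk] at ht
  have h2 : f • γ = 0 := by
    have h0 := comp_distTriang_mor_zero₃₁ _ hT
    dsimp only [Triangle.mk] at h0
    rw [Functor.map_smul, CategoryTheory.Functor.map_id, Linear.comp_smul, Category.comp_id] at h0
    exact h0
  rw [mul_smul, ht, ← Linear.smul_comp, h2, zero_comp]

/-- the cone of `f • 𝟙` is `f`-complete -/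
lemma fc_cone (f : A) {G C : Dual.D A} (β : G ⟶ C) (γ : C ⟶ G⟦(1 : ℤ)⟧)
    (hT : Triangle.mk (f • 𝟙 G) β γ ∈ distTriang (Dual.D A)) : FC f C := by
  intro i
  apply seqComplete_of_pow_smul_eq_zero f 2
  intro q
  have h1 := sq_smul_cone_eq_zero f β γ hT
  have h2 : (DerivedCategory.homologyFunctor (ModuleCat.{u} A) i).map ((f * f) • 𝟙 C) = 0 := by
    rw [h1, Functor.map_zero]
  rw [Functor.map_smul, CategoryTheory.Functor.map_id] at h2
  have h3 := congrArg (fun φ => φ.hom q) h2
  rw [pow_two]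
  exact h3

/-- the left orthogonal of a class of objects -/
def LO (P : Dual.D A → Prop) (Z : Dual.D A) : Prop := ∀ E : Dual.D A, P E → ∀ ψ : Z ⟶ E, ψ = 0

lemma LO.shift {P : Dual.D A → Prop} (hP : ∀ (E : Dual.D A) (n : ℤ), P E → P (E⟦n⟧))
    {G : Dual.D A} (h : LO P G) (n : ℤ) : LO P (G⟦n⟧) := by
  intro E hE ψ
  have h1 := h _ (hP E (-n) hE)
    ((shiftFunctorCompIsoId (Dual.D A) n (-n) (add_neg_cancel n)).inv.app G ≫
      (CategoryTheory.shiftFunctor (Dual.D A) (-n)).map ψ)
  have h2 : (CategoryTheory.shiftFunctor (Dual.D A) (-n)).map ψ = 0 := by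
    rw [← cancel_epi ((shiftFunctorCompIsoId (Dual.D A) n (-n) (add_neg_cancel n)).inv.app G),
      h1, comp_zero]
  apply (CategoryTheory.shiftFunctor (Dual.D A) (-n)).map_injective
  rw [h2, Functor.map_zero]

lemma bijective_precomp_of_iso' {X Y E E' : Dual.D A} (g : X ⟶ Y) (e : E ≅ E')
    (h : Function.Bijective (fun a : Y ⟶ E => g ≫ a)) :
    Function.Bijective (fun a : Y ⟶ E' => g ≫ a) := by
  constructor
  · intro a b hab
    have h1 : g ≫ (a ≫ e.inv) = g ≫ (b ≫ e.inv) := by
      rw [← Category.assoc, ← Category.assoc]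
      exact congrArg (· ≫ e.inv) hab
    have h2 := h.1 h1
    exact (cancel_mono e.inv).1 h2
  · intro c
    obtain ⟨a, ha⟩ := h.2 (c ≫ e.inv)
    refine ⟨a ≫ e.hom, ?_⟩
    show g ≫ a ≫ e.hom = c
    have ha' : g ≫ a = c ≫ e.inv := ha
    rw [← Category.assoc, ha', Category.assoc, e.inv_hom_id, Category.comp_id]

lemma lo_iff_universal {P : Dual.D A → Prop} (hP : ∀ (E : Dual.D A) (n : ℤ), P E → P (E⟦n⟧))
    (T : Triangle (Dual.D A)) (hT : T ∈ distTriang (Dual.D A)) :
    LO P T.obj₃ ↔ ∀ E : Dual.D A, P E →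
      Function.Bijective (fun v : T.obj₂ ⟶ E => T.mor₁ ≫ v) := by
  constructor
  · intro h E hE
    have h1 := (forall_eq_zero_iff_bijective T hT E).mp (fun n a => h _ (hP E n hE) a) 0
    exact bijective_precomp_of_iso' T.mor₁ ((shiftFunctorZero (Dual.D A) ℤ).app E) h1
  · intro h E hE ψ
    have h1 := (forall_eq_zero_iff_bijective T hT E).mpr (fun n => h _ (hP E n hE)) 0
      (ψ ≫ (shiftFunctorZero (Dual.D A) ℤ).inv.app E)
    rw [← cancel_mono ((shiftFunctorZero (Dual.D A) ℤ).inv.app E), h1, zero_comp]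

/-- an object left orthogonal to the `f`-complete objects is `f`-local -/
theorem isIso_smul_of_lo (f : A) (G : Dual.D A) (h : LO (FC f) G) : IsIso (f • 𝟙 G) := by
  obtain ⟨C, β, γ, hT⟩ := distinguished_cocone_triangle (f • 𝟙 G)
  have hC : FC f C := fc_cone f β γ hT
  have hid : 𝟙 C = 0 := by
    have h1 : β ≫ 𝟙 C = 0 := by
      rw [Category.comp_id]
      exact h C hC β
    obtain ⟨t, ht⟩ := Triangle.yoneda_exact₃ _ hT (𝟙 C) h1
    dsimp only [Triangle.mk] at ht
    have hs : LO (FC f) (G⟦(1 : ℤ)⟧) :=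
      LO.shift (P := FC f) (fun E n (hE : FC f E) => FC.shift hE n) h 1
    rw [ht, hs C hC t, comp_zero]
  have hz : IsZero C := (IsZero.iff_id_eq_zero C).2 hid
  exact (Triangle.isZero₃_iff_isIso₁ _ hT).1 hz

/-- an `f`-local object is left orthogonal to the `f`-complete objects -/
theorem lo_of_isIso_smul (f : A) (G : Dual.D A) (h : IsIso (f • 𝟙 G)) : LO (FC f) G :=
  fun E hE ψ => hom_eq_zero_of_isIso_smul G E h hE ψ

lemma bijective_precomp_of_isIso {X Y : Dual.D A} (g : X ⟶ Y) [IsIso g] (E : Dual.D A) :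
    Function.Bijective (fun a : Y ⟶ E => g ≫ a) := by
  constructor
  · intro a b hab
    exact (cancel_epi g).1 hab
  · intro c
    exact ⟨inv g ≫ c, by simp⟩

lemma isIso_of_universal_all {L C : Dual.D A} (η : L ⟶ C)
    (hη : ∀ E : Dual.D A, Function.Bijective (fun v : C ⟶ E => η ≫ v)) : IsIso η := by
  obtain ⟨v, hv⟩ := (hη L).2 (𝟙 L)
  have hv' : η ≫ v = 𝟙 L := hv
  refine ⟨v, hv', ?_⟩
  apply (hη C).1
  show η ≫ v ≫ η = η ≫ 𝟙 C
  rw [← Category.assoc, hv', Category.id_comp, Category.comp_id]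

/-- uniqueness of universal arrows -/
lemma exists_iso_of_universal {P : Dual.D A → Prop} {L C C' : Dual.D A} (η : L ⟶ C)
    (η' : L ⟶ C') (hC : P C) (hC' : P C')
    (hη : ∀ E : Dual.D A, P E → Function.Bijective (fun v : C ⟶ E => η ≫ v))
    (hη' : ∀ E : Dual.D A, P E → Function.Bijective (fun v : C' ⟶ E => η' ≫ v)) :
    ∃ e : C ≅ C', η ≫ e.hom = η' := by
  obtain ⟨a, ha⟩ := (hη C' hC').2 η'
  obtain ⟨b, hb⟩ := (hη' C hC).2 η
  have ha' : η ≫ a = η' := ha
  have hb' : η' ≫ b = η := hb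
  refine ⟨⟨a, b, ?_, ?_⟩, ha'⟩
  · apply (hη C hC).1
    show η ≫ a ≫ b = η ≫ 𝟙 C
    rw [← Category.assoc, ha', hb', Category.comp_id]
  · apply (hη' C' hC').1
    show η' ≫ b ≫ a = η' ≫ 𝟙 C'
    rw [← Category.assoc, hb', ha', Category.comp_id]

/-- hypotheses on an endofunctor of `D(A)` ensuring that it commutes with derived completion -/
structure Good (F : Dual.D A ⥤ Dual.D A) : Prop where
  map_smul_id : ∀ (f : A) (X : Dual.D A), F.map (f • 𝟙 X) = f • 𝟙 (F.obj X)
  exists_distTriang : ∀ {X Y : Dual.D A} (η : X ⟶ Y),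
    ∃ (Z : Dual.D A) (β : Y ⟶ Z) (γ : Z ⟶ X⟦(1 : ℤ)⟧) (β' : F.obj Y ⟶ F.obj Z)
      (γ' : F.obj Z ⟶ (F.obj X)⟦(1 : ℤ)⟧),
      Triangle.mk η β γ ∈ distTriang (Dual.D A) ∧
        Triangle.mk (F.map η) β' γ' ∈ distTriang (Dual.D A)
  fc : ∀ (f : A) (E : Dual.D A), FC f E → FC f (F.obj E)

variable {F : Dual.D A ⥤ Dual.D A}

theorem Good.universal_principal (hF : Good F) (f : A) {L C : Dual.D A} (η : L ⟶ C)
    (hη : ∀ E : Dual.D A, FC f E → Function.Bijective (fun v : C ⟶ E => η ≫ v)) :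
    ∀ E : Dual.D A, FC f E → Function.Bijective (fun v : F.obj C ⟶ E => F.map η ≫ v) := by
  obtain ⟨Z, β, γ, β', γ', hT, hT'⟩ := hF.exists_distTriang η
  have hsh : ∀ (E : Dual.D A) (n : ℤ), FC f E → FC f (E⟦n⟧) := fun E n hE => FC.shift hE n
  have hZ : LO (FC f) Z := (lo_iff_universal hsh (Triangle.mk η β γ) hT).mpr hη
  have hf : IsIso (f • 𝟙 Z) := isIso_smul_of_lo f Z hZ
  have hf' : IsIso (f • 𝟙 (F.obj Z)) := by
    rw [← hF.map_smul_id]
    infer_instance
  have hZ' : LO (FC f) (F.obj Z) := lo_of_isIso_smul f _ hf'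
  exact (lo_iff_universal hsh (Triangle.mk (F.map η) β' γ') hT').mp hZ'

theorem Good.sc (hF : Good F) (s : Finset A) (E : Dual.D A) (hE : SC s E) : SC s (F.obj E) :=
  fun f hf => hF.fc f E (hE f hf)

theorem Good.universal_finset (hF : Good F) (s : Finset A) :
    ∀ {L C : Dual.D A} (η : L ⟶ C), SC s C →
      (∀ E : Dual.D A, SC s E → Function.Bijective (fun v : C ⟶ E => η ≫ v)) →
      ∀ E : Dual.D A, SC s E → Function.Bijective (fun v : F.obj C ⟶ E => F.map η ≫ v) := by
  classical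
  induction s using Finset.induction_on with
  | empty =>
    intro L C η _ hη E _
    have hall : ∀ E : Dual.D A, SC ∅ E := fun E f hf => absurd hf (Finset.notMem_empty f)
    have : IsIso η := isIso_of_universal_all η (fun E => hη E (hall E))
    exact bijective_precomp_of_isIso (F.map η) E
  | insert g s hg ih =>
    intro L C η hC hη E hE
    obtain ⟨C₁, η₁, h1, h2, -, -⟩ := exists_completion_finset s L
    obtain ⟨C₂, η₂, k1, k2, k3, -⟩ := exists_completion_step g C₁
    have hC₂ : SC (insert g s) C₂ := by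
      intro f hf
      rcases Finset.mem_insert.mp hf with rfl | hf'
      · exact k1
      · exact k3 f (h1 f hf')
    have hE₁ : SC s E := fun f hf => hE f (Finset.mem_insert_of_mem hf)
    have hEg : FC g E := hE g (Finset.mem_insert_self g s)
    have hU : ∀ E' : Dual.D A, SC (insert g s) E' →
        Function.Bijective (fun v : C₂ ⟶ E' => (η₁ ≫ η₂) ≫ v) := by
      intro E' hE'
      have hb1 := h2 E' (fun f hf => hE' f (Finset.mem_insert_of_mem hf))
      have hb2 := k2 E' (hE' g (Finset.mem_insert_self g s))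
      have : (fun v : C₂ ⟶ E' => (η₁ ≫ η₂) ≫ v) =
          (fun w : C₁ ⟶ E' => η₁ ≫ w) ∘ (fun v : C₂ ⟶ E' => η₂ ≫ v) := by
        funext v
        simp
      rw [this]
      exact hb1.comp hb2
    obtain ⟨e, he⟩ := exists_iso_of_universal (P := SC (insert g s)) η (η₁ ≫ η₂) hC hC₂ hη hU
    have hb1 := ih η₁ h1 h2 E hE₁
    have hb2 := hF.universal_principal g η₂ k2 E hEg
    have hb3 : Function.Bijective (fun v : F.obj C ⟶ E => F.map e.inv ≫ v) :=
      bijective_precomp_of_isIso (F.map e.inv) E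
    have : (fun v : F.obj C ⟶ E => F.map η ≫ v) =
        (fun w : F.obj C₁ ⟶ E => F.map η₁ ≫ w) ∘ (fun v : F.obj C₂ ⟶ E => F.map η₂ ≫ v) ∘
          (fun v : F.obj C ⟶ E => F.map e.inv ≫ v) := by
      funext v
      show F.map η ≫ v = F.map η₁ ≫ F.map η₂ ≫ F.map e.inv ≫ v
      rw [← Functor.map_comp_assoc, ← Functor.map_comp_assoc, ← he,
        Category.assoc, e.hom_inv_id, Category.comp_id]
    rw [this]
    exact hb1.comp (hb2.comp hb3)

/-- the main criterion, for a finitely generated ideal -/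
theorem Good.universal (hF : Good F) (I : Ideal A) (hI : I.FG) {L C : Dual.D A} (η : L ⟶ C)
    (hC : DRing.IsDerivedComplete I C)
    (hη : ∀ E : Dual.D A, DRing.IsDerivedComplete I E →
      Function.Bijective (fun v : C ⟶ E => η ≫ v)) :
    DRing.IsDerivedComplete I (F.obj C) ∧
      ∀ E : Dual.D A, DRing.IsDerivedComplete I E →
        Function.Bijective (fun v : F.obj C ⟶ E => F.map η ≫ v) := by
  obtain ⟨s, hs⟩ := hI
  have key : ∀ E : Dual.D A, DRing.IsDerivedComplete I E ↔ SC s E := by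
    intro E
    rw [isDerivedComplete_iff_HD]
    constructor
    · intro h f hf i
      refine h f ?_ i
      rw [← hs]
      exact Ideal.subset_span hf
    · intro h f hf i
      rw [← hs] at hf
      exact seqComplete_of_mem_span s (fun f' hf' => h f' hf' i) hf
  refine ⟨(key _).2 (hF.sc s C ((key C).1 hC)), fun E hE => ?_⟩
  exact hF.universal_finset s η ((key C).1 hC) (fun E' hE' => hη E' ((key E').2 hE')) E
    ((key E).1 hE)

end Groth.Agent.Lib.Helper36.FCo
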