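import Mathlib

/-!
# Cochain identities for the mapping cocone (helper36)

Namespace `Groth.Agent.Lib.Helper36.CCI`.
-/

set_option autoImplicit false
universe v u
open CategoryTheory CategoryTheory.Limits HomologicalComplex CochainComplex
open HomComplex

namespace Groth.Agent.Lib.Helper36.CCI

variable {C : Type u} [Category.{v} C] [Preadditive C] [HasBinaryBiproducts C]
  {K L : CochainComplex C ℤ} (φ : K ⟶ L)

open mappingCocone

lemma inl_fst : (inl φ).comp (Cochain.ofHom (fst φ)) (add_zero 0) = Cochain.ofHom (𝟙 K) := by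
  ext p
  simp

lemma inl_snd : (inl φ).comp (snd φ) (zero_add (-1)) = 0 := by
  ext p q hpq
  simp

lemma inr_fst : (inr φ).1.comp (Cochain.ofHom (fst φ)) (add_zero 1) = 0 := by
  ext p q hpq
  simp

lemma inr_snd : (inr φ).1.comp (snd φ) (add_neg_cancel 1) = Cochain.ofHom (𝟙 L) := by
  ext p
  rw [Cochain.comp_v _ _ (add_neg_cancel 1) p (p + 1) p rfl (by omega)]
  simp

lemma id : (Cochain.ofHom (fst φ)).comp (inl φ) (zero_add 0) +
    (snd φ).comp (inr φ).1 (neg_add_cancel 1) = Cochain.ofHom (𝟙 _) := by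
  ext p
  rw [Cochain.add_v, Cochain.comp_v _ _ (neg_add_cancel 1) p (p + -1) p rfl (by omega)]
  simp only [Cochain.zero_cochain_comp_v, Cochain.ofHom_v, HomologicalComplex.id_f]
  exact id_X φ p (p + -1) rfl

lemma ext_to {M : CochainComplex C ℤ} {n : ℤ} (m : ℤ) (hm : n + -1 = m)
    {γ₁ γ₂ : Cochain M (mappingCocone φ) n}
    (h₁ : γ₁.comp (Cochain.ofHom (fst φ)) (add_zero n) = γ₂.comp (Cochain.ofHom (fst φ)) (add_zero n))
    (h₂ : γ₁.comp (snd φ) hm = γ₂.comp (snd φ) hm) : γ₁ = γ₂ := by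
  have key : ∀ γ : Cochain M (mappingCocone φ) n,
      γ = (γ.comp (Cochain.ofHom (fst φ)) (add_zero n)).comp (inl φ) (add_zero n) +
        (γ.comp (snd φ) hm).comp (inr φ).1 (by omega) := by
    intro γ
    rw [Cochain.comp_assoc_of_second_is_zero_cochain,
      Cochain.comp_assoc _ _ _ hm (neg_add_cancel 1) (by omega), ← Cochain.comp_add, id,
      Cochain.comp_id]
  rw [key γ₁, key γ₂, h₁, h₂]

lemma inl_eq : inl φ = liftCochain φ (Cochain.ofHom (𝟙 K)) (0 : Cochain K L (-1))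
    (neg_add_cancel 1) := by
  apply ext_to φ (-1) (zero_add _)
  · rw [liftCochain_comp_fst, inl_fst]
  · rw [liftCochain_comp_snd, inl_snd]

lemma δ_inl : δ 0 1 (inl φ) = -(Cochain.ofHom φ).comp (inr φ).1 (zero_add 1) := by
  rw [inl_eq, δ_liftCochain φ _ _ _ 1 (zero_add 1)]
  simp

lemma ext_from {M : CochainComplex C ℤ} {n : ℤ} (m : ℤ) (hm : 1 + n = m)
    {γ₁ γ₂ : Cochain (mappingCocone φ) M n}
    (h₁ : (inl φ).comp γ₁ (zero_add n) = (inl φ).comp γ₂ (zero_add n))
    (h₂ : (inr φ).1.comp γ₁ hm = (inr φ).1.comp γ₂ hm) : γ₁ = γ₂ := by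
  have key : ∀ γ : Cochain (mappingCocone φ) M n,
      γ = (Cochain.ofHom (fst φ)).comp ((inl φ).comp γ (zero_add n)) (zero_add n) +
        (snd φ).comp ((inr φ).1.comp γ hm) (by omega) := by
    intro γ
    rw [← Cochain.comp_assoc_of_first_is_zero_cochain,
      ← Cochain.comp_assoc _ _ _ (neg_add_cancel 1) hm (by omega), ← Cochain.add_comp, id,
      Cochain.id_comp]
  rw [key γ₁, key γ₂, h₁, h₂]

lemma snd_eq : snd φ = descCochain φ (0 : Cochain K L (-1)) (Cochain.ofHom (𝟙 L))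
    (neg_add_cancel 1) := by
  apply ext_from φ 0 (add_neg_cancel 1)
  · rw [inl_comp_descCochain, inl_snd]
  · rw [inr_comp_descCochain, inr_snd]

lemma δ_snd : δ (-1) 0 (snd φ) = -Cochain.ofHom (fst φ ≫ φ) := by
  rw [snd_eq, δ_descCochain φ _ _ _ 1 (zero_add 1)]
  simp

end Groth.Agent.Lib.Helper36.CCI
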