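import Mathlib
import Groth.Prelude.Def_DDual2

/-!
Helper (helper36): exact pairings of cochain complexes of modules: the complexes are bounded with
finite projective terms.
-/

set_option autoImplicit false
universe u

open CategoryTheory CategoryTheory.Limits MonoidalCategory HomologicalComplex

namespace Groth.Agent.Lib.Helper36.CxPairing

section algebra

variable {R : Type u} [CommRing R] {V : Type u} [AddCommGroup V] [Module R V]

variable (R V) in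
/-- the endomorphisms of finite rank in the naive sense: sums of `x ↦ φ x • v` -/
def finRank : Submodule R (V →ₗ[R] V) :=
  Submodule.span R {g | ∃ (φ : V →ₗ[R] R) (v : V), g = φ.smulRight v}

lemma exists_factor_of_mem_finRank (g : V →ₗ[R] V) (hg : g ∈ finRank R V) :
    ∃ (ι : Type) (_ : Fintype ι) (a : V →ₗ[R] (ι → R)) (b : (ι → R) →ₗ[R] V), b ∘ₗ a = g := by
  induction hg using Submodule.span_induction with
  | mem g hg =>
    obtain ⟨φ, v, rfl⟩ := hg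
    refine ⟨Unit, inferInstance, LinearMap.pi (fun _ => φ),
      (LinearMap.id.smulRight v) ∘ₗ LinearMap.proj (), ?_⟩
    ext x
    simp
  | zero => exact ⟨Empty, inferInstance, 0, 0, by simp⟩
  | add g₁ g₂ _ _ h₁ h₂ =>
    obtain ⟨ι₁, _, a₁, b₁, rfl⟩ := h₁
    obtain ⟨ι₂, _, a₂, b₂, rfl⟩ := h₂
    refine ⟨ι₁ ⊕ ι₂, inferInstance,
      (LinearEquiv.sumArrowLequivProdArrow ι₁ ι₂ R R).symm.toLinearMap ∘ₗ (a₁.prod a₂),
      (b₁.coprod b₂) ∘ₗ (LinearEquiv.sumArrowLequivProdArrow ι₁ ι₂ R R).toLinearMap, ?_⟩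
    ext x
    simp
  | smul r g _ h =>
    obtain ⟨ι, _, a, b, rfl⟩ := h
    exact ⟨ι, inferInstance, r • a, b, by ext x; simp⟩

lemma finite_projective_of_id_mem_finRank (h : LinearMap.id ∈ finRank R V) :
    Module.Finite R V ∧ Module.Projective R V := by
  obtain ⟨ι, _, a, b, hab⟩ := exists_factor_of_mem_finRank _ h
  constructor
  · refine Module.Finite.of_surjective b ?_
    intro x
    exact ⟨a x, LinearMap.congr_fun hab x⟩
  · exact Module.Projective.of_split a b hab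

end algebra

section generation

variable {R : Type u} [CommRing R] (K L : DRing.Cx R)

/-- a submodule of `(K ⊗ L)^n` containing the images of all `K^p ⊗ L^q` is everything -/
lemma eq_top_of_forall_ι_mem (n : ℤ) (S : Submodule R ((K ⊗ L).X n))
    (h : ∀ (p q : ℤ) (hpq : p + q = n) (t : (K.X p ⊗ L.X q : ModuleCat.{u} R)),
      (ιTensorObj K L p q n hpq).hom t ∈ S) : S = ⊤ := by
  have h0 : ModuleCat.ofHom S.mkQ = 0 := by
    apply mapBifunctor.hom_ext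
    intro p q hpq
    rw [comp_zero]
    apply ModuleCat.hom_ext
    apply LinearMap.ext
    intro t
    exact (Submodule.Quotient.mk_eq_zero S).mpr (h p q hpq t)
  have h1 : S.mkQ = 0 := by
    have := congrArg ModuleCat.Hom.hom h0
    simpa using this
  rw [← Submodule.ker_mkQ S, h1, LinearMap.ker_zero]

end generation

section pairing

variable {R : Type u} [CommRing R] (X Y : DRing.Cx R)
  (η : 𝟙_ (DRing.Cx R) ⟶ X ⊗ Y) (ε : Y ⊗ X ⟶ 𝟙_ (DRing.Cx R))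

variable (R) in
/-- the degree zero part of the unit complex is the unit module -/
noncomputable def unitIso0 : (𝟙_ (DRing.Cx R)).X 0 ≅ 𝟙_ (ModuleCat.{u} R) :=
  singleObjXSelf (ComplexShape.up ℤ) 0 (𝟙_ (ModuleCat.{u} R))

/-- the action of `(X ⊗ Y)^0` on `X^k` induced by the evaluation -/
noncomputable def Ψ (k : ℤ) : (X ⊗ Y).X 0 ⊗ X.X k ⟶ X.X k :=
  ιTensorObj (X ⊗ Y) X 0 k k (zero_add k) ≫ (α_ X Y X).hom.f k ≫ (X ◁ ε).f k ≫ (ρ_ X).hom.f k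

lemma leftUnitor_inv_f (k : ℤ) : (λ_ X).inv.f k =
    (λ_ (X.X k)).inv ≫ ((unitIso0 R).inv ▷ X.X k) ≫
      ιTensorObj (𝟙_ (DRing.Cx R)) X 0 k k (zero_add k) :=
  leftUnitor'_inv X k

lemma rightUnitor_inv_f (k : ℤ) : (ρ_ X).inv.f k =
    (ρ_ (X.X k)).inv ≫ (X.X k ◁ (unitIso0 R).inv) ≫
      ιTensorObj X (𝟙_ (DRing.Cx R)) k 0 k (add_zero k) :=
  rightUnitor'_inv X k

@[reassoc]
lemma ι_whiskerRight_f {K K' : DRing.Cx R} (f : K ⟶ K') (L : DRing.Cx R) (p q n : ℤ)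
    (h : p + q = n) :
    ιTensorObj K L p q n h ≫ (f ▷ L).f n = (f.f p ▷ L.X q) ≫ ιTensorObj K' L p q n h := by
  have := ι_mapBifunctorMap f (𝟙 L) (curriedTensor (ModuleCat.{u} R)) (ComplexShape.up ℤ) p q n h
  refine this.trans ?_
  rw [HomologicalComplex.id_f, CategoryTheory.Functor.map_id, Category.id_comp]
  rfl

@[reassoc]
lemma ι_whiskerLeft_f (K : DRing.Cx R) {L L' : DRing.Cx R} (g : L ⟶ L') (p q n : ℤ)
    (h : p + q = n) :
    ιTensorObj K L p q n h ≫ (K ◁ g).f n = (K.X p ◁ g.f q) ≫ ιTensorObj K L' p q n h := by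
  have := ι_mapBifunctorMap (𝟙 K) g (curriedTensor (ModuleCat.{u} R)) (ComplexShape.up ℤ) p q n h
  refine this.trans ?_
  rw [HomologicalComplex.id_f, CategoryTheory.Functor.map_id, NatTrans.id_app, Category.id_comp]
  rfl

include η in
lemma step1 (hb : (η ▷ X) ≫ (α_ X Y X).hom ≫ (X ◁ ε) = (λ_ X).hom ≫ (ρ_ X).inv) (k : ℤ) :
    (λ_ (X.X k)).inv ≫ (((unitIso0 R).inv ≫ η.f 0) ▷ X.X k) ≫ Ψ X Y ε k = 𝟙 (X.X k) := by
  have h : (η ▷ X).f k ≫ (α_ X Y X).hom.f k ≫ (X ◁ ε).f k = (λ_ X).hom.f k ≫ (ρ_ X).inv.f k :=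
    congrArg (fun f => f.f k) hb
  have h1 : (λ_ X).inv.f k ≫ (λ_ X).hom.f k = 𝟙 _ := by
    rw [← HomologicalComplex.comp_f, Iso.inv_hom_id, HomologicalComplex.id_f]
  have h2 : (ρ_ X).inv.f k ≫ (ρ_ X).hom.f k = 𝟙 _ := by
    rw [← HomologicalComplex.comp_f, Iso.inv_hom_id, HomologicalComplex.id_f]
  calc (λ_ (X.X k)).inv ≫ (((unitIso0 R).inv ≫ η.f 0) ▷ X.X k) ≫ Ψ X Y ε k
      = (λ_ X).inv.f k ≫ ((η ▷ X).f k ≫ (α_ X Y X).hom.f k ≫ (X ◁ ε).f k) ≫ (ρ_ X).hom.f k := by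
        rw [leftUnitor_inv_f, Ψ, comp_whiskerRight]
        simp only [Category.assoc]
        rw [ι_whiskerRight_f_assoc]
    _ = 𝟙 (X.X k) := by
        rw [h, Category.assoc, h2, Category.comp_id, h1]

lemma associator_hom_f (K₁ K₂ K₃ : DRing.Cx R) (k : ℤ) : (α_ K₁ K₂ K₃).hom.f k =
    (mapBifunctorAssociatorX (curriedAssociatorNatIso (ModuleCat.{u} R)) K₁ K₂ K₃
      (ComplexShape.up ℤ) (ComplexShape.up ℤ) (ComplexShape.up ℤ) k).hom := rfl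

/-- the associator on summands -/
@[reassoc]
lemma ι_ι_associator_hom_f (K₁ K₂ K₃ : DRing.Cx R) (p q r pq qr n : ℤ) (hpq : p + q = pq)
    (hqr : q + r = qr) (h1 : pq + r = n) (h2 : p + qr = n) :
    (ιTensorObj K₁ K₂ p q pq hpq ▷ K₃.X r) ≫ ιTensorObj (K₁ ⊗ K₂) K₃ pq r n h1 ≫
      (α_ K₁ K₂ K₃).hom.f n =
    (α_ (K₁.X p) (K₂.X q) (K₃.X r)).hom ≫ (K₁.X p ◁ ιTensorObj K₂ K₃ q r qr hqr) ≫
      ιTensorObj K₁ (K₂ ⊗ K₃) p qr n h2 := by
  have e1 := mapBifunctor₁₂.ι_eq (curriedTensor (ModuleCat.{u} R)) (curriedTensor (ModuleCat.{u} R))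
    K₁ K₂ K₃ (ComplexShape.up ℤ) (ComplexShape.up ℤ) p q r pq n hpq h1
  have e2 := ι_mapBifunctorAssociatorX_hom (curriedAssociatorNatIso (ModuleCat.{u} R)) K₁ K₂ K₃
    (ComplexShape.up ℤ) (ComplexShape.up ℤ) (ComplexShape.up ℤ) p q r n
    (by rw [← h1, ← hpq]; rfl)
  have e3 := mapBifunctor₂₃.ι_eq (curriedTensor (ModuleCat.{u} R))
    (curriedTensor (ModuleCat.{u} R)) K₁ K₂ K₃ (ComplexShape.up ℤ) (ComplexShape.up ℤ)
    (ComplexShape.up ℤ) p q r qr n hqr h2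
  rw [associator_hom_f]
  rw [e1, e3] at e2
  simp at e2
  exact e2

lemma isZero_unit_X (j : ℤ) (hj : j ≠ 0) : IsZero ((𝟙_ (DRing.Cx R)).X j) :=
  isZero_single_obj_X (ComplexShape.up ℤ) 0 (𝟙_ (ModuleCat.{u} R)) j hj

lemma ι_rightUnitor_hom_f (k : ℤ) :
    ιTensorObj X (𝟙_ (DRing.Cx R)) k 0 k (add_zero k) ≫ (ρ_ X).hom.f k =
      (X.X k ◁ (unitIso0 R).hom) ≫ (ρ_ (X.X k)).hom := by
  have h2 : (ρ_ X).inv.f k ≫ (ρ_ X).hom.f k = 𝟙 _ := by
    rw [← HomologicalComplex.comp_f, Iso.inv_hom_id, HomologicalComplex.id_f]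
  have h := rightUnitor_inv_f X k
  have h3 : ιTensorObj X (𝟙_ (DRing.Cx R)) k 0 k (add_zero k) =
      (X.X k ◁ (unitIso0 R).hom) ≫ (ρ_ (X.X k)).hom ≫ (ρ_ X).inv.f k := by
    rw [h]
    simp
  rw [h3, Category.assoc, Category.assoc, h2, Category.comp_id]

lemma ι_leftUnitor_hom_f (k : ℤ) :
    ιTensorObj (𝟙_ (DRing.Cx R)) X 0 k k (zero_add k) ≫ (λ_ X).hom.f k =
      ((unitIso0 R).hom ▷ X.X k) ≫ (λ_ (X.X k)).hom := by
  have h2 : (λ_ X).inv.f k ≫ (λ_ X).hom.f k = 𝟙 _ := by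
    rw [← HomologicalComplex.comp_f, Iso.inv_hom_id, HomologicalComplex.id_f]
  have h := leftUnitor_inv_f X k
  have h3 : ιTensorObj (𝟙_ (DRing.Cx R)) X 0 k k (zero_add k) =
      ((unitIso0 R).hom ▷ X.X k) ≫ (λ_ (X.X k)).hom ≫ (λ_ X).inv.f k := by
    rw [h]
    simp
  rw [h3, Category.assoc, Category.assoc, h2, Category.comp_id]

lemma ι_Ψ_eq_zero (k p q : ℤ) (h : p + q = 0) (hp : p ≠ k) :
    (ιTensorObj X Y p q 0 h ▷ X.X k) ≫ Ψ X Y ε k = 0 := by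
  have hz : ε.f (q + k) = 0 := (isZero_unit_X (q + k) (by omega)).eq_of_tgt _ _
  rw [Ψ, ι_ι_associator_hom_f_assoc X Y X p q k 0 (q + k) k h rfl (zero_add k) (by omega),
    ι_whiskerLeft_f_assoc, hz]
  simp

lemma ι_Ψ_eq (k : ℤ) :
    (ιTensorObj X Y k (-k) 0 (by omega) ▷ X.X k) ≫ Ψ X Y ε k =
      (α_ (X.X k) (Y.X (-k)) (X.X k)).hom ≫
        (X.X k ◁ (ιTensorObj Y X (-k) k 0 (by omega) ≫ ε.f 0 ≫ (unitIso0 R).hom)) ≫
          (ρ_ (X.X k)).hom := by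
  rw [Ψ, ι_ι_associator_hom_f_assoc X Y X k (-k) k 0 0 k (by omega) (by omega) (zero_add k)
    (add_zero k), ι_whiskerLeft_f_assoc, ι_rightUnitor_hom_f]
  simp

/-- the action of `(X ⊗ Y)^0` on `X^k` as a bilinear map -/
noncomputable def T (k : ℤ) : ((X ⊗ Y).X 0) →ₗ[R] (X.X k →ₗ[R] X.X k) :=
  TensorProduct.curry (Ψ X Y ε k).hom

lemma T_apply (k : ℤ) (a : (X ⊗ Y).X 0) (v : X.X k) :
    T X Y ε k a v = (Ψ X Y ε k).hom (a ⊗ₜ[R] v) := rfl

/-- the coevaluation element -/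
noncomputable def coevElt : (X ⊗ Y).X 0 := (η.f 0).hom ((unitIso0 R).inv.hom (1 : R))

include η in
lemma T_coevElt (hb : (η ▷ X) ≫ (α_ X Y X).hom ≫ (X ◁ ε) = (λ_ X).hom ≫ (ρ_ X).inv) (k : ℤ) :
    T X Y ε k (coevElt X Y η) = LinearMap.id := by
  apply LinearMap.ext
  intro v
  have h := congrArg (fun f => f.hom v) (step1 X Y η ε hb k)
  exact h

lemma T_ι_eq_zero (k p q : ℤ) (h : p + q = 0) (hp : p ≠ k)
    (t : (X.X p ⊗ Y.X q : ModuleCat.{u} R)) :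
    T X Y ε k ((ιTensorObj X Y p q 0 h).hom t) = 0 := by
  apply LinearMap.ext
  intro v
  have h := congrArg (fun f => f.hom (t ⊗ₜ[R] v)) (ι_Ψ_eq_zero X Y ε k p q h hp)
  exact h

lemma T_ι_tmul (k : ℤ) (x : X.X k) (y : Y.X (-k)) (v : X.X k) :
    T X Y ε k ((ιTensorObj X Y k (-k) 0 (by omega)).hom (x ⊗ₜ[R] y)) v =
      ((unitIso0 R).hom.hom ((ε.f 0).hom ((ιTensorObj Y X (-k) k 0 (by omega)).hom
        (y ⊗ₜ[R] v))) : R) • x := by
  have h := congrArg (fun f => f.hom ((x ⊗ₜ[R] y) ⊗ₜ[R] v)) (ι_Ψ_eq X Y ε k)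
  exact h

lemma T_ι_mem_finRank (k : ℤ) (t : (X.X k ⊗ Y.X (-k) : ModuleCat.{u} R)) :
    T X Y ε k ((ιTensorObj X Y k (-k) 0 (by omega)).hom t) ∈ finRank R (X.X k) := by
  let S : Submodule R (TensorProduct R (X.X k) (Y.X (-k))) :=
    (finRank R (X.X k)).comap
      ((T X Y ε k) ∘ₗ (ιTensorObj X Y k (-k) 0 (by omega)).hom)
  have hS : S = ⊤ := by
    rw [eq_top_iff, ← TensorProduct.span_tmul_eq_top, Submodule.span_le]
    rintro _ ⟨x, y, rfl⟩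
    show T X Y ε k ((ιTensorObj X Y k (-k) 0 (by omega)).hom (x ⊗ₜ[R] y)) ∈ finRank R (X.X k)
    refine Submodule.subset_span ⟨((unitIso0 R).hom.hom ∘ₗ (ε.f 0).hom ∘ₗ
      (ιTensorObj Y X (-k) k 0 (by omega)).hom) ∘ₗ (TensorProduct.mk R _ _ y), x, ?_⟩
    apply LinearMap.ext
    intro v
    exact T_ι_tmul X Y ε k x y v
  have : t ∈ S := hS ▸ Submodule.mem_top
  exact this

include η in
/-- the terms of `X` are finite projective -/
theorem finite_projective_X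
    (hb : (η ▷ X) ≫ (α_ X Y X).hom ≫ (X ◁ ε) = (λ_ X).hom ≫ (ρ_ X).inv) (k : ℤ) :
    Module.Finite R (X.X k) ∧ Module.Projective R (X.X k) := by
  apply finite_projective_of_id_mem_finRank
  rw [← T_coevElt X Y η ε hb k]
  have hS : (finRank R (X.X k)).comap (T X Y ε k) = ⊤ := by
    apply eq_top_of_forall_ι_mem
    intro p q hpq t
    by_cases hp : p = k
    · subst hp
      obtain rfl : q = -p := by omega
      exact T_ι_mem_finRank X Y ε p t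
    · show T X Y ε k _ ∈ finRank R (X.X k)
      rw [T_ι_eq_zero X Y ε k p q hpq hp t]
      exact Submodule.zero_mem _
  have : coevElt X Y η ∈ (finRank R (X.X k)).comap (T X Y ε k) := hS ▸ Submodule.mem_top
  exact this

/-- elements of `(X ⊗ Y)^0` acting by zero on almost all `X^k` -/
def bddSub : Submodule R ((X ⊗ Y).X 0) where
  carrier := {a | ∃ F : Finset ℤ, ∀ k, k ∉ F → T X Y ε k a = 0}
  add_mem' := by
    classical
    rintro a b ⟨F, hF⟩ ⟨G, hG⟩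
    refine ⟨F ∪ G, fun k hk => ?_⟩
    rw [Finset.mem_union, not_or] at hk
    rw [map_add, hF k hk.1, hG k hk.2, add_zero]
  zero_mem' := ⟨∅, fun k _ => map_zero _⟩
  smul_mem' := by
    rintro r a ⟨F, hF⟩
    exact ⟨F, fun k hk => by rw [map_smul, hF k hk, smul_zero]⟩

include η in
/-- `X` is bounded -/
theorem bounded_X
    (hb : (η ▷ X) ≫ (α_ X Y X).hom ≫ (X ◁ ε) = (λ_ X).hom ≫ (ρ_ X).inv) :
    ∃ a b : ℤ, DRing.VanishesOutside X a b := by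
  have hS : bddSub X Y ε = ⊤ := by
    apply eq_top_of_forall_ι_mem
    intro p q hpq t
    exact ⟨{p}, fun k hk => T_ι_eq_zero X Y ε k p q hpq
      (fun h => hk (by rw [h]; exact Finset.mem_singleton_self k)) t⟩
  have : coevElt X Y η ∈ bddSub X Y ε := hS ▸ Submodule.mem_top
  obtain ⟨F, hF⟩ := this
  refine ⟨-(F.sup Int.natAbs : ℕ), (F.sup Int.natAbs : ℕ), fun k hk => ?_⟩
  have hkF : k ∉ F := by
    intro hkF
    have h1 : k.natAbs ≤ F.sup Int.natAbs := Finset.le_sup (f := Int.natAbs) hkF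
    omega
  have h0 := hF k hkF
  rw [T_coevElt X Y η ε hb k] at h0
  have : Subsingleton (X.X k) := ⟨fun x y => by
    have hx : x = 0 := LinearMap.congr_fun h0 x
    have hy : y = 0 := LinearMap.congr_fun h0 y
    rw [hx, hy]⟩
  exact ModuleCat.isZero_of_subsingleton _

/-! ### The mirrored argument for `Y` -/

/-- the associator inverse on summands -/
@[reassoc]
lemma ι_ι_associator_inv_f (K₁ K₂ K₃ : DRing.Cx R) (p q r pq qr n : ℤ) (hpq : p + q = pq)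
    (hqr : q + r = qr) (h1 : pq + r = n) (h2 : p + qr = n) :
    (K₁.X p ◁ ιTensorObj K₂ K₃ q r qr hqr) ≫ ιTensorObj K₁ (K₂ ⊗ K₃) p qr n h2 ≫
      (α_ K₁ K₂ K₃).inv.f n =
    (α_ (K₁.X p) (K₂.X q) (K₃.X r)).inv ≫ (ιTensorObj K₁ K₂ p q pq hpq ▷ K₃.X r) ≫
      ιTensorObj (K₁ ⊗ K₂) K₃ pq r n h1 := by
  have h := ι_ι_associator_hom_f K₁ K₂ K₃ p q r pq qr n hpq hqr h1 h2
  have h3 : (α_ K₁ K₂ K₃).hom.f n ≫ (α_ K₁ K₂ K₃).inv.f n = 𝟙 _ := by
    rw [← HomologicalComplex.comp_f, Iso.hom_inv_id, HomologicalComplex.id_f]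
  rw [← cancel_epi (α_ (K₁.X p) (K₂.X q) (K₃.X r)).hom, Iso.hom_inv_id_assoc]
  have h4 := congrArg (fun f => f ≫ (α_ K₁ K₂ K₃).inv.f n) h
  simp only [Category.assoc, h3] at h4
  exact h4.symm

/-- the action of `(X ⊗ Y)^0` on `Y^k` induced by the evaluation -/
noncomputable def Ψ' (k : ℤ) : Y.X k ⊗ (X ⊗ Y).X 0 ⟶ Y.X k :=
  ιTensorObj Y (X ⊗ Y) k 0 k (add_zero k) ≫ (α_ Y X Y).inv.f k ≫ (ε ▷ Y).f k ≫ (λ_ Y).hom.f k

include η in
lemma step1' (ha : (Y ◁ η) ≫ (α_ Y X Y).inv ≫ (ε ▷ Y) = (ρ_ Y).hom ≫ (λ_ Y).inv) (k : ℤ) :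
    (ρ_ (Y.X k)).inv ≫ (Y.X k ◁ ((unitIso0 R).inv ≫ η.f 0)) ≫ Ψ' X Y ε k = 𝟙 (Y.X k) := by
  have h : (Y ◁ η).f k ≫ (α_ Y X Y).inv.f k ≫ (ε ▷ Y).f k = (ρ_ Y).hom.f k ≫ (λ_ Y).inv.f k :=
    congrArg (fun f => f.f k) ha
  have h1 : (λ_ Y).inv.f k ≫ (λ_ Y).hom.f k = 𝟙 _ := by
    rw [← HomologicalComplex.comp_f, Iso.inv_hom_id, HomologicalComplex.id_f]
  have h2 : (ρ_ Y).inv.f k ≫ (ρ_ Y).hom.f k = 𝟙 _ := by
    rw [← HomologicalComplex.comp_f, Iso.inv_hom_id, HomologicalComplex.id_f]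
  calc (ρ_ (Y.X k)).inv ≫ (Y.X k ◁ ((unitIso0 R).inv ≫ η.f 0)) ≫ Ψ' X Y ε k
      = (ρ_ Y).inv.f k ≫ ((Y ◁ η).f k ≫ (α_ Y X Y).inv.f k ≫ (ε ▷ Y).f k) ≫ (λ_ Y).hom.f k := by
        rw [rightUnitor_inv_f, Ψ', whiskerLeft_comp]
        simp only [Category.assoc]
        rw [ι_whiskerLeft_f_assoc]
    _ = 𝟙 (Y.X k) := by
        rw [h, Category.assoc, h1, Category.comp_id, h2]

lemma ι_Ψ'_eq_zero (k p q : ℤ) (h : p + q = 0) (hq : q ≠ k) :
    (Y.X k ◁ ιTensorObj X Y p q 0 h) ≫ Ψ' X Y ε k = 0 := by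
  have hz : ε.f (k + p) = 0 := (isZero_unit_X (k + p) (by omega)).eq_of_tgt _ _
  rw [Ψ', ι_ι_associator_inv_f_assoc Y X Y k p q (k + p) 0 k rfl h (by omega) (add_zero k),
    ι_whiskerRight_f_assoc, hz]
  simp

lemma ι_Ψ'_eq (k : ℤ) :
    (Y.X k ◁ ιTensorObj X Y (-k) k 0 (by omega)) ≫ Ψ' X Y ε k =
      (α_ (Y.X k) (X.X (-k)) (Y.X k)).inv ≫
        ((ιTensorObj Y X k (-k) 0 (by omega) ≫ ε.f 0 ≫ (unitIso0 R).hom) ▷ Y.X k) ≫
          (λ_ (Y.X k)).hom := by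
  rw [Ψ', ι_ι_associator_inv_f_assoc Y X Y k (-k) k 0 0 k (by omega) (by omega) (zero_add k)
    (add_zero k), ι_whiskerRight_f_assoc, ι_leftUnitor_hom_f]
  simp

/-- the action of `(X ⊗ Y)^0` on `Y^k` as a bilinear map -/
noncomputable def T' (k : ℤ) : ((X ⊗ Y).X 0) →ₗ[R] (Y.X k →ₗ[R] Y.X k) :=
  (TensorProduct.curry (Ψ' X Y ε k).hom).flip

lemma T'_apply (k : ℤ) (a : (X ⊗ Y).X 0) (w : Y.X k) :
    T' X Y ε k a w = (Ψ' X Y ε k).hom (w ⊗ₜ[R] a) := rfl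

include η in
lemma T'_coevElt (ha : (Y ◁ η) ≫ (α_ Y X Y).inv ≫ (ε ▷ Y) = (ρ_ Y).hom ≫ (λ_ Y).inv) (k : ℤ) :
    T' X Y ε k (coevElt X Y η) = LinearMap.id := by
  apply LinearMap.ext
  intro w
  have h := congrArg (fun f => f.hom w) (step1' X Y η ε ha k)
  exact h

lemma T'_ι_eq_zero (k p q : ℤ) (h : p + q = 0) (hq : q ≠ k)
    (t : (X.X p ⊗ Y.X q : ModuleCat.{u} R)) :
    T' X Y ε k ((ιTensorObj X Y p q 0 h).hom t) = 0 := by
  apply LinearMap.ext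
  intro w
  have h := congrArg (fun f => f.hom (w ⊗ₜ[R] t)) (ι_Ψ'_eq_zero X Y ε k p q h hq)
  exact h

lemma T'_ι_tmul (k : ℤ) (x : X.X (-k)) (y : Y.X k) (w : Y.X k) :
    T' X Y ε k ((ιTensorObj X Y (-k) k 0 (by omega)).hom (x ⊗ₜ[R] y)) w =
      ((unitIso0 R).hom.hom ((ε.f 0).hom ((ιTensorObj Y X k (-k) 0 (by omega)).hom
        (w ⊗ₜ[R] x))) : R) • y := by
  have h := congrArg (fun f => f.hom (w ⊗ₜ[R] (x ⊗ₜ[R] y))) (ι_Ψ'_eq X Y ε k)
  exact h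

lemma T'_ι_mem_finRank (k : ℤ) (t : (X.X (-k) ⊗ Y.X k : ModuleCat.{u} R)) :
    T' X Y ε k ((ιTensorObj X Y (-k) k 0 (by omega)).hom t) ∈ finRank R (Y.X k) := by
  let S : Submodule R (TensorProduct R (X.X (-k)) (Y.X k)) :=
    (finRank R (Y.X k)).comap
      ((T' X Y ε k) ∘ₗ (ιTensorObj X Y (-k) k 0 (by omega)).hom)
  have hS : S = ⊤ := by
    rw [eq_top_iff, ← TensorProduct.span_tmul_eq_top, Submodule.span_le]
    rintro _ ⟨x, y, rfl⟩
    show T' X Y ε k ((ιTensorObj X Y (-k) k 0 (by omega)).hom (x ⊗ₜ[R] y)) ∈ finRank R (Y.X k)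
    refine Submodule.subset_span ⟨((unitIso0 R).hom.hom ∘ₗ (ε.f 0).hom ∘ₗ
      (ιTensorObj Y X k (-k) 0 (by omega)).hom) ∘ₗ (TensorProduct.mk R _ _).flip x, y, ?_⟩
    apply LinearMap.ext
    intro w
    exact T'_ι_tmul X Y ε k x y w
  have : t ∈ S := hS ▸ Submodule.mem_top
  exact this

include η in
/-- the terms of `Y` are finite projective -/
theorem finite_projective_Y
    (ha : (Y ◁ η) ≫ (α_ Y X Y).inv ≫ (ε ▷ Y) = (ρ_ Y).hom ≫ (λ_ Y).inv) (k : ℤ) :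
    Module.Finite R (Y.X k) ∧ Module.Projective R (Y.X k) := by
  apply finite_projective_of_id_mem_finRank
  rw [← T'_coevElt X Y η ε ha k]
  have hS : (finRank R (Y.X k)).comap (T' X Y ε k) = ⊤ := by
    apply eq_top_of_forall_ι_mem
    intro p q hpq t
    by_cases hq : q = k
    · subst hq
      obtain rfl : p = -q := by omega
      exact T'_ι_mem_finRank X Y ε q t
    · show T' X Y ε k _ ∈ finRank R (Y.X k)
      rw [T'_ι_eq_zero X Y ε k p q hpq hq t]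
      exact Submodule.zero_mem _
  have : coevElt X Y η ∈ (finRank R (Y.X k)).comap (T' X Y ε k) := hS ▸ Submodule.mem_top
  exact this

/-- elements of `(X ⊗ Y)^0` acting by zero on almost all `Y^k` -/
def bddSub' : Submodule R ((X ⊗ Y).X 0) where
  carrier := {a | ∃ F : Finset ℤ, ∀ k, k ∉ F → T' X Y ε k a = 0}
  add_mem' := by
    classical
    rintro a b ⟨F, hF⟩ ⟨G, hG⟩
    refine ⟨F ∪ G, fun k hk => ?_⟩
    rw [Finset.mem_union, not_or] at hk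
    rw [map_add, hF k hk.1, hG k hk.2, add_zero]
  zero_mem' := ⟨∅, fun k _ => map_zero _⟩
  smul_mem' := by
    rintro r a ⟨F, hF⟩
    exact ⟨F, fun k hk => by rw [map_smul, hF k hk, smul_zero]⟩

include η in
/-- `Y` is bounded -/
theorem bounded_Y
    (ha : (Y ◁ η) ≫ (α_ Y X Y).inv ≫ (ε ▷ Y) = (ρ_ Y).hom ≫ (λ_ Y).inv) :
    ∃ a b : ℤ, DRing.VanishesOutside Y a b := by
  have hS : bddSub' X Y ε = ⊤ := by
    apply eq_top_of_forall_ι_mem
    intro p q hpq t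
    exact ⟨{q}, fun k hk => T'_ι_eq_zero X Y ε k p q hpq
      (fun h => hk (by rw [h]; exact Finset.mem_singleton_self k)) t⟩
  have : coevElt X Y η ∈ bddSub' X Y ε := hS ▸ Submodule.mem_top
  obtain ⟨F, hF⟩ := this
  refine ⟨-(F.sup Int.natAbs : ℕ), (F.sup Int.natAbs : ℕ), fun k hk => ?_⟩
  have hkF : k ∉ F := by
    intro hkF
    have h1 : k.natAbs ≤ F.sup Int.natAbs := Finset.le_sup (f := Int.natAbs) hkF
    omega
  have h0 := hF k hkF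
  rw [T'_coevElt X Y η ε ha k] at h0
  have : Subsingleton (Y.X k) := ⟨fun x y => by
    have hx : x = 0 := LinearMap.congr_fun h0 x
    have hy : y = 0 := LinearMap.congr_fun h0 y
    rw [hx, hy]⟩
  exact ModuleCat.isZero_of_subsingleton _

end pairing

end Groth.Agent.Lib.Helper36.CxPairing
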