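import Mathlib
import Groth.Prelude.Def_DRing4
import Groth.Agent.Lib.Helper36.CxPairing
import Groth.Agent.Lib.Helper87.CochainWhisker

/-!
# The tensor-hom adjunction on cochain complexes, at the level of cochains (helper36)

Namespace `Groth.Agent.Lib.Helper36.HCA`.

For complexes `X P L` of `A`-modules, a cochain `c : Cochain (X ⊗ P) L n` and a cochain
`z : Cochain X (homCx P L) n` both have *components* `X^p ⊗ P^q ⟶ L^m` (`p + q + n = m`), and both are
determined by them (`extT`, `extH`); any family of components is realized (`mkT`, `mkH`).  The resulting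
bijection `cur`/`unc` commutes with the differential `δ` WITHOUT any sign (`δ_cur`).
-/

set_option autoImplicit false
universe u
open CategoryTheory CategoryTheory.Limits MonoidalCategory HomologicalComplex CochainComplex
open HomComplex

namespace Groth.Agent.Lib.Helper36.HCA

open Groth.Agent.Lib.Helper87.CochainWhisker (ι_d)

variable {A : Type u} [CommRing A] {X P L : DRing.Cx A}

/-- a family of components -/
abbrev Fam (X P L : DRing.Cx A) (n : ℤ) : Type u :=
  ∀ p q m : ℤ, p + q + n = m → (X.X p ⊗ P.X q ⟶ L.X m)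

/-! ### the tensor side -/

/-- components of a cochain out of a tensor product -/
noncomputable def compT {n : ℤ} (c : Cochain (X ⊗ P) L n) : Fam X P L n := fun p q m h =>
  ιTensorObj X P p q (p + q) rfl ≫ c.v (p + q) m h

lemma compT_eq {n : ℤ} (c : Cochain (X ⊗ P) L n) (p q m : ℤ) (h : p + q + n = m) (j : ℤ)
    (hj : p + q = j) :
    compT c p q m h = ιTensorObj X P p q j hj ≫ c.v j m (by omega) := by
  subst hj
  rfl

lemma extT {n : ℤ} {c c' : Cochain (X ⊗ P) L n} (h : compT c = compT c') : c = c' := by
  refine Cochain.ext _ _ (fun i j hij => ?_)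
  apply mapBifunctor.hom_ext
  intro p q hpq
  have hpq' : p + q = i := hpq
  have := congrFun (congrFun (congrFun (congrFun h p) q) j) (by omega)
  rw [compT_eq c p q j (by omega) i hpq', compT_eq c' p q j (by omega) i hpq'] at this
  exact this

/-- the cochain with given components -/
noncomputable def mkT {n : ℤ} (φ : Fam X P L n) : Cochain (X ⊗ P) L n :=
  Cochain.mk (fun j m hjm => mapBifunctorDesc (K₁ := X) (K₂ := P) (F := curriedTensor _)
    (c := ComplexShape.up ℤ) (fun p q (hpq : p + q = j) => φ p q m (by omega)))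

lemma compT_mkT {n : ℤ} (φ : Fam X P L n) : compT (mkT φ) = φ := by
  funext p q m h
  dsimp only [compT, mkT]
  rw [Cochain.mk_v]
  erw [ι_mapBifunctorDesc]

lemma mkT_compT {n : ℤ} (c : Cochain (X ⊗ P) L n) : mkT (compT c) = c :=
  extT (compT_mkT _)

lemma compT_add {n : ℤ} (c c' : Cochain (X ⊗ P) L n) (p q m : ℤ) (h : p + q + n = m) :
    compT (c + c') p q m h = compT c p q m h + compT c' p q m h := by
  simp [compT]

lemma compT_smul {n : ℤ} (a : A) (c : Cochain (X ⊗ P) L n) (p q m : ℤ) (h : p + q + n = m) :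
    compT (a • c) p q m h = a • compT c p q m h := by
  simp [compT]

/-! ### the hom side -/

/-- evaluation of a cochain at a pair of degrees, as a linear map -/
noncomputable def evalLin (k q m : ℤ) (h : q + k = m) :
    Cochain P L k →ₗ[A] (P.X q →ₗ[A] L.X m) where
  toFun z := (z.v q m h).hom
  map_add' z z' := by simp
  map_smul' a z := by simp

/-- components of a cochain with values in the Hom complex -/
noncomputable def compH {n : ℤ} (z : Cochain X (DRing.homCx P L) n) : Fam X P L n :=
  fun p q m h => ModuleCat.ofHom (TensorProduct.lift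
    ((evalLin (P := P) (L := L) (p + n) q m (by omega)).comp (z.v p (p + n) rfl).hom))

lemma compH_tmul {n : ℤ} (z : Cochain X (DRing.homCx P L) n) (p q m : ℤ) (h : p + q + n = m)
    (p' : ℤ) (hp : p + n = p') (x : X.X p) (e : P.X q) :
    (compH z p q m h).hom (x ⊗ₜ e) =
      (((z.v p p' hp).hom x : Cochain P L p').v q m (by omega)).hom e := by
  subst hp
  rfl

lemma extH {n : ℤ} {z z' : Cochain X (DRing.homCx P L) n} (h : compH z = compH z') : z = z' := by
  refine Cochain.ext _ _ (fun p p' hp => ?_)
  refine ModuleCat.hom_ext (LinearMap.ext fun x => ?_)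
  refine Cochain.ext _ _ (fun q m hqm => ?_)
  refine ModuleCat.hom_ext (LinearMap.ext fun e => ?_)
  have := congrFun (congrFun (congrFun (congrFun h p) q) m) (by omega)
  have h2 : (compH z p q m (by omega)).hom (x ⊗ₜ e) = (compH z' p q m (by omega)).hom (x ⊗ₜ e) := by
    rw [this]
  rw [compH_tmul z p q m (by omega) p' hp, compH_tmul z' p q m (by omega) p' hp] at h2
  exact h2

/-- the cochain with values in the Hom complex with given components -/
noncomputable def mkH {n : ℤ} (φ : Fam X P L n) : Cochain X (DRing.homCx P L) n :=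
  Cochain.mk (fun p p' hp => ModuleCat.ofHom
    { toFun := fun x => (Cochain.mk (fun q m hqm => ModuleCat.ofHom
        ((φ p q m (by omega)).hom.comp (TensorProduct.mk A (X.X p) (P.X q) x))) : Cochain P L p')
      map_add' := fun x x' => by
        refine Cochain.ext _ _ (fun q m hqm => ?_)
        refine ModuleCat.hom_ext (LinearMap.ext fun e => ?_)
        simp
      map_smul' := fun a x => by
        refine Cochain.ext _ _ (fun q m hqm => ?_)
        refine ModuleCat.hom_ext (LinearMap.ext fun e => ?_)
        show (φ p q m _).hom ((a • x) ⊗ₜ[A] e) = a • (φ p q m _).hom (x ⊗ₜ[A] e)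
        rw [← TensorProduct.smul_tmul', map_smul] })

lemma compH_mkH {n : ℤ} (φ : Fam X P L n) : compH (mkH φ) = φ := by
  funext p q m h
  refine ModuleCat.hom_ext (TensorProduct.ext' fun x e => ?_)
  rw [compH_tmul (mkH φ) p q m h (p + n) rfl]
  rfl

lemma mkH_compH {n : ℤ} (z : Cochain X (DRing.homCx P L) n) : mkH (compH z) = z :=
  extH (compH_mkH _)

lemma compH_add {n : ℤ} (z z' : Cochain X (DRing.homCx P L) n) (p q m : ℤ) (h : p + q + n = m) :
    compH (z + z') p q m h = compH z p q m h + compH z' p q m h := by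
  refine ModuleCat.hom_ext (TensorProduct.ext' fun x e => ?_)
  rw [compH_tmul _ p q m h (p + n) rfl]
  simp only [ModuleCat.hom_add, LinearMap.add_apply]
  rw [compH_tmul _ p q m h (p + n) rfl, compH_tmul _ p q m h (p + n) rfl]
  have key : ∀ (w w' : Cochain P L (p + n)), ((w + w').v q m (by omega)).hom e =
      (w.v q m (by omega)).hom e + (w'.v q m (by omega)).hom e := by
    intro w w'
    simp
  exact key _ _

lemma compH_smul {n : ℤ} (a : A) (z : Cochain X (DRing.homCx P L) n) (p q m : ℤ)
    (h : p + q + n = m) :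
    compH (a • z) p q m h = a • compH z p q m h := by
  refine ModuleCat.hom_ext (TensorProduct.ext' fun x e => ?_)
  rw [compH_tmul _ p q m h (p + n) rfl]
  simp only [ModuleCat.hom_smul, LinearMap.smul_apply]
  rw [compH_tmul _ p q m h (p + n) rfl]
  have key : ∀ (w : Cochain P L (p + n)), ((a • w).v q m (by omega)).hom e =
      a • (w.v q m (by omega)).hom e := by
    intro w
    simp
  exact key _

/-! ### the differential -/

/-- the formula for the components of a coboundary -/
noncomputable def δFam {n n' : ℤ} (hn : n + 1 = n') (φ : Fam X P L n) : Fam X P L n' :=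
  fun p q m' h' =>
    φ p q (m' - 1) (by omega) ≫ L.d (m' - 1) m' +
      n'.negOnePow • ((X.d p (p + 1) ▷ P.X q) ≫ φ (p + 1) q m' (by omega) +
        p.negOnePow • ((X.X p ◁ P.d q (q + 1)) ≫ φ p (q + 1) m' (by omega)))

lemma compT_δ {n n' : ℤ} (hn : n + 1 = n') (c : Cochain (X ⊗ P) L n) :
    compT (δ n n' c) = δFam hn (compT c) := by
  funext p q m' h'
  dsimp only [δFam]
  rw [compT_eq (δ n n' c) p q m' h' (p + q) rfl,
    δ_v n n' hn c (p + q) m' (by omega) (m' - 1) (p + q + 1) (by omega) rfl,
    Preadditive.comp_add, Linear.comp_units_smul]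
  have hd := ι_d X P p q (p + q) (p + q + 1) (p + 1) (q + 1) rfl rfl rfl rfl
  erw [reassoc_of% hd]
  rw [Preadditive.add_comp, Category.assoc, Linear.units_smul_comp, Category.assoc,
    compT_eq c p q (m' - 1) (by omega) (p + q) rfl,
    compT_eq c (p + 1) q m' (by omega) (p + q + 1) (by omega),
    compT_eq c p (q + 1) m' (by omega) (p + q + 1) (by omega)]
  simp only [Category.assoc]

lemma hom_units_smul_apply {M N : ModuleCat.{u} A} (ε : ℤˣ) (f : M ⟶ N) (x : M) :
    (ε • f).hom x = ε • f.hom x := by
  rcases Int.units_eq_one_or ε with rfl | rfl <;> simp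

lemma compH_δ {n n' : ℤ} (hn : n + 1 = n') (z : Cochain X (DRing.homCx P L) n) :
    compH (δ n n' z) = δFam hn (compH z) := by
  funext p q m' h'
  refine ModuleCat.hom_ext (TensorProduct.ext' fun x e => ?_)
  rw [compH_tmul _ p q m' h' (p + n') rfl]
  rw [δ_v n n' hn z p (p + n') rfl (p + n) (p + 1) (by omega) rfl]
  dsimp only [δFam]
  simp only [ModuleCat.hom_add, ModuleCat.hom_comp, LinearMap.add_apply, LinearMap.comp_apply]
  have key : ∀ (w : Cochain P L (p + n)) (w1 : Cochain P L (p + n')),
      (((δ (p + n) (p + n') w + n'.negOnePow • w1 : Cochain P L (p + n')).v q m'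
        (by omega)).hom e : L.X m') =
      (L.d (m' - 1) m').hom ((w.v q (m' - 1) (by omega)).hom e) +
        n'.negOnePow • ((w1.v q m' (by omega)).hom e +
          p.negOnePow • (w.v (q + 1) m' (by omega)).hom ((P.d q (q + 1)).hom e)) := by
    intro w w1
    rw [Cochain.add_v, Cochain.units_smul_v,
      δ_v (p + n) (p + n') (by omega) w q m' (by omega) (m' - 1) (q + 1) (by omega) rfl]
    simp only [ModuleCat.hom_add, ModuleCat.hom_comp, LinearMap.add_apply, LinearMap.comp_apply,
      hom_units_smul_apply, smul_add, smul_smul]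
    have hs : (p + n').negOnePow = n'.negOnePow * p.negOnePow := by
      rw [Int.negOnePow_add, mul_comm]
    rw [hs]
    abel
  have e1 : (ModuleCat.Hom.hom (n'.negOnePow • X.d p (p + 1) ≫ z.v (p + 1) (p + n') (by omega))) x =
      n'.negOnePow • ((z.v (p + 1) (p + n') (by omega)).hom ((X.d p (p + 1)).hom x)) := by
    rw [hom_units_smul_apply]
    rfl
  rw [e1]
  refine (key ((z.v p (p + n) rfl).hom x) ((z.v (p + 1) (p + n') (by omega)).hom
    ((X.d p (p + 1)).hom x))).trans ?_
  rw [compH_tmul z p q (m' - 1) (by omega) (p + n) rfl, hom_units_smul_apply]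
  simp only [ModuleCat.hom_add, ModuleCat.hom_comp, LinearMap.add_apply, LinearMap.comp_apply,
    hom_units_smul_apply]
  rw [ModuleCat.MonoidalCategory.whiskerRight_apply, ModuleCat.MonoidalCategory.whiskerLeft_apply,
    compH_tmul z (p + 1) q m' (by omega) (p + n') (by omega),
    compH_tmul z p (q + 1) m' (by omega) (p + n) rfl]

/-! ### currying -/

/-- currying of cochains -/
noncomputable def cur {n : ℤ} (c : Cochain (X ⊗ P) L n) : Cochain X (DRing.homCx P L) n :=
  mkH (compT c)

/-- uncurrying of cochains -/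
noncomputable def unc {n : ℤ} (z : Cochain X (DRing.homCx P L) n) : Cochain (X ⊗ P) L n :=
  mkT (compH z)

lemma compH_cur {n : ℤ} (c : Cochain (X ⊗ P) L n) : compH (cur c) = compT c := compH_mkH _

lemma compT_unc {n : ℤ} (z : Cochain X (DRing.homCx P L) n) : compT (unc z) = compH z :=
  compT_mkT _

@[simp] lemma unc_cur {n : ℤ} (c : Cochain (X ⊗ P) L n) : unc (cur c) = c :=
  extT (by rw [compT_unc, compH_cur])

@[simp] lemma cur_unc {n : ℤ} (z : Cochain X (DRing.homCx P L) n) : cur (unc z) = z :=
  extH (by rw [compH_cur, compT_unc])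

lemma cur_add {n : ℤ} (c c' : Cochain (X ⊗ P) L n) : cur (c + c') = cur c + cur c' := by
  apply extH
  funext p q m h
  rw [compH_add, compH_cur, compH_cur, compH_cur, compT_add]

lemma cur_smul {n : ℤ} (a : A) (c : Cochain (X ⊗ P) L n) : cur (a • c) = a • cur c := by
  apply extH
  funext p q m h
  rw [compH_smul, compH_cur, compH_cur, compT_smul]

/-- currying as a linear equivalence -/
noncomputable def curEquiv (X P L : DRing.Cx A) (n : ℤ) :
    Cochain (X ⊗ P) L n ≃ₗ[A] Cochain X (DRing.homCx P L) n where
  toFun := cur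
  invFun := unc
  map_add' := cur_add
  map_smul' := cur_smul
  left_inv := unc_cur
  right_inv := cur_unc

@[simp] lemma curEquiv_apply {n : ℤ} (c : Cochain (X ⊗ P) L n) : curEquiv X P L n c = cur c := rfl

@[simp] lemma curEquiv_symm_apply {n : ℤ} (z : Cochain X (DRing.homCx P L) n) :
    (curEquiv X P L n).symm z = unc z := rfl

@[simp] lemma cur_zero {n : ℤ} : cur (0 : Cochain (X ⊗ P) L n) = 0 := (curEquiv X P L n).map_zero

@[simp] lemma unc_zero {n : ℤ} : unc (0 : Cochain X (DRing.homCx P L) n) = 0 :=
  (curEquiv X P L n).symm.map_zero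

lemma unc_add {n : ℤ} (z z' : Cochain X (DRing.homCx P L) n) : unc (z + z') = unc z + unc z' :=
  (curEquiv X P L n).symm.map_add z z'

/-- currying commutes with the differential, without sign -/
lemma δ_cur (n n' : ℤ) (c : Cochain (X ⊗ P) L n) : δ n n' (cur c) = cur (δ n n' c) := by
  by_cases hn : n + 1 = n'
  · apply extH
    rw [compH_δ hn, compH_cur, compH_cur, compT_δ hn]
  · rw [δ_shape _ _ hn, δ_shape _ _ hn, cur_zero]

lemma δ_unc (n n' : ℤ) (z : Cochain X (DRing.homCx P L) n) : δ n n' (unc z) = unc (δ n n' z) := by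
  have := δ_cur n n' (unc z)
  rw [cur_unc] at this
  rw [this, unc_cur]

end Groth.Agent.Lib.Helper36.HCA
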