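import Mathlib
import Groth.Agent.Lib.Helper36.HomCxAdj

/-!
# The tensor-hom adjunction on cochain complexes: chain maps, homotopies, naturality (helper36)

Namespace `Groth.Agent.Lib.Helper36.HCA`.

* `curry`/`uncurry` : `(X ⊗ P ⟶ L) ≃ (X ⟶ homCx P L)` with `ofHom_curry`, `ofHom_uncurry`;
* `homotopyCurry`, `homotopyUncurry` : they preserve homotopies;
* naturality in `X` (`uncurry_comp`), dinaturality in `P` (`homCxPre`, `whiskerLeft_uncurry`);
* `evCx P L : homCx P L ⊗ P ⟶ L`, `uncurry_eq`, `evCx_dinat`.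
-/

set_option autoImplicit false
universe u
open CategoryTheory CategoryTheory.Limits MonoidalCategory HomologicalComplex CochainComplex
open HomComplex

namespace Groth.Agent.Lib.Helper36.HCA

open Groth.Agent.Lib.Helper36.CxPairing

variable {A : Type u} [CommRing A] {X X' P P' L : DRing.Cx A}

/-! ### naturality of components -/

lemma compT_ofHom_whiskerRight_comp {n : ℤ} (a : X' ⟶ X) (c : Cochain (X ⊗ P) L n)
    (p q m : ℤ) (h : p + q + n = m) :
    compT ((Cochain.ofHom (a ▷ P)).comp c (zero_add n)) p q m h =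
      (a.f p ▷ P.X q) ≫ compT c p q m h := by
  dsimp only [compT]
  rw [Cochain.zero_cochain_comp_v, Cochain.ofHom_v, ι_whiskerRight_f_assoc]

lemma compH_ofHom_comp {n : ℤ} (a : X' ⟶ X) (z : Cochain X (DRing.homCx P L) n)
    (p q m : ℤ) (h : p + q + n = m) :
    compH ((Cochain.ofHom a).comp z (zero_add n)) p q m h = (a.f p ▷ P.X q) ≫ compH z p q m h := by
  refine ModuleCat.hom_ext (TensorProduct.ext' fun x e => ?_)
  have hR : ((a.f p ▷ P.X q) ≫ compH z p q m h).hom (x ⊗ₜ e) =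
      (compH z p q m h).hom ((a.f p).hom x ⊗ₜ e) := by
    rw [ModuleCat.hom_comp, LinearMap.comp_apply, ModuleCat.MonoidalCategory.whiskerRight_apply]
  rw [hR, compH_tmul _ p q m h (p + n) rfl, compH_tmul _ p q m h (p + n) rfl,
    Cochain.zero_cochain_comp_v, Cochain.ofHom_v]
  rfl

lemma cur_ofHom_whiskerRight_comp {n : ℤ} (a : X' ⟶ X) (c : Cochain (X ⊗ P) L n) :
    cur ((Cochain.ofHom (a ▷ P)).comp c (zero_add n)) = (Cochain.ofHom a).comp (cur c) (zero_add n) := by
  apply extH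
  funext p q m h
  rw [compH_cur, compT_ofHom_whiskerRight_comp, compH_ofHom_comp, compH_cur]

lemma unc_ofHom_comp {n : ℤ} (a : X' ⟶ X) (z : Cochain X (DRing.homCx P L) n) :
    unc ((Cochain.ofHom a).comp z (zero_add n)) =
      (Cochain.ofHom (a ▷ P)).comp (unc z) (zero_add n) := by
  have := cur_ofHom_whiskerRight_comp a (unc z)
  rw [cur_unc] at this
  rw [← this, unc_cur]

/-! ### precomposition in the first variable of the Hom complex -/

/-- precomposition with `g` as a linear map on cochains -/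
noncomputable def precompLin (g : P' ⟶ P) (L : DRing.Cx A) (i : ℤ) :
    Cochain P L i →ₗ[A] Cochain P' L i where
  toFun z := (Cochain.ofHom g).comp z (zero_add i)
  map_add' z z' := by simp
  map_smul' a z := by simp

/-- Functoriality of `Hom•(-, L)` in the first variable. -/
noncomputable def homCxPre (g : P' ⟶ P) (L : DRing.Cx A) : DRing.homCx P L ⟶ DRing.homCx P' L where
  f i := ModuleCat.ofHom (precompLin g L i)
  comm' i j _ := by
    ext z
    change δ i j ((Cochain.ofHom g).comp z (zero_add i)) = (Cochain.ofHom g).comp (δ i j z) (zero_add j)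
    exact δ_ofHom_comp g z j

lemma homCxPre_f_apply (g : P' ⟶ P) (L : DRing.Cx A) (i : ℤ) (z : Cochain P L i) :
    ((homCxPre g L).f i).hom z = (Cochain.ofHom g).comp z (zero_add i) := rfl

lemma compT_ofHom_whiskerLeft_comp {n : ℤ} (g : P' ⟶ P) (c : Cochain (X ⊗ P) L n)
    (p q m : ℤ) (h : p + q + n = m) :
    compT ((Cochain.ofHom (X ◁ g)).comp c (zero_add n)) p q m h =
      (X.X p ◁ g.f q) ≫ compT c p q m h := by
  dsimp only [compT]
  rw [Cochain.zero_cochain_comp_v, Cochain.ofHom_v, ι_whiskerLeft_f_assoc]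

lemma compH_comp_ofHom_homCxPre {n : ℤ} (g : P' ⟶ P) (z : Cochain X (DRing.homCx P L) n)
    (p q m : ℤ) (h : p + q + n = m) :
    compH (z.comp (Cochain.ofHom (homCxPre g L)) (add_zero n)) p q m h =
      (X.X p ◁ g.f q) ≫ compH z p q m h := by
  refine ModuleCat.hom_ext (TensorProduct.ext' fun x e => ?_)
  have hR : ((X.X p ◁ g.f q) ≫ compH z p q m h).hom (x ⊗ₜ e) =
      (compH z p q m h).hom (x ⊗ₜ (g.f q).hom e) := by
    rw [ModuleCat.hom_comp, LinearMap.comp_apply, ModuleCat.MonoidalCategory.whiskerLeft_apply]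
  rw [hR, compH_tmul _ p q m h (p + n) rfl, compH_tmul _ p q m h (p + n) rfl,
    Cochain.comp_zero_cochain_v, Cochain.ofHom_v, ModuleCat.hom_comp, LinearMap.comp_apply,
    homCxPre_f_apply, Cochain.zero_cochain_comp_v, Cochain.ofHom_v]
  rfl

lemma unc_comp_ofHom_homCxPre {n : ℤ} (g : P' ⟶ P) (z : Cochain X (DRing.homCx P L) n) :
    unc (z.comp (Cochain.ofHom (homCxPre g L)) (add_zero n)) =
      (Cochain.ofHom (X ◁ g)).comp (unc z) (zero_add n) := by
  apply extT
  funext p q m h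
  rw [compT_unc, compH_comp_ofHom_homCxPre, compT_ofHom_whiskerLeft_comp, compT_unc]

/-! ### chain maps -/

/-- currying of chain maps -/
noncomputable def curry (f : X ⊗ P ⟶ L) : X ⟶ DRing.homCx P L :=
  Cocycle.homOf (Cocycle.mk (cur (Cochain.ofHom f)) 1 (zero_add 1) (by
    rw [δ_cur, δ_ofHom, cur_zero]))

/-- uncurrying of chain maps -/
noncomputable def uncurry (ψ : X ⟶ DRing.homCx P L) : X ⊗ P ⟶ L :=
  Cocycle.homOf (Cocycle.mk (unc (Cochain.ofHom ψ)) 1 (zero_add 1) (by
    rw [δ_unc, δ_ofHom, unc_zero]))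

@[simp] lemma ofHom_curry (f : X ⊗ P ⟶ L) : Cochain.ofHom (curry f) = cur (Cochain.ofHom f) :=
  Cocycle.cochain_ofHom_homOf_eq_coe _

@[simp] lemma ofHom_uncurry (ψ : X ⟶ DRing.homCx P L) :
    Cochain.ofHom (uncurry ψ) = unc (Cochain.ofHom ψ) :=
  Cocycle.cochain_ofHom_homOf_eq_coe _

@[simp] lemma uncurry_curry (f : X ⊗ P ⟶ L) : uncurry (curry f) = f :=
  Cochain.ofHom_injective (by simp)

@[simp] lemma curry_uncurry (ψ : X ⟶ DRing.homCx P L) : curry (uncurry ψ) = ψ :=
  Cochain.ofHom_injective (by simp)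

/-- currying preserves homotopies -/
noncomputable def homotopyCurry {f f' : X ⊗ P ⟶ L} (h : Homotopy f f') :
    Homotopy (curry f) (curry f') :=
  (Cochain.equivHomotopy _ _).symm ⟨cur (Cochain.equivHomotopy _ _ h).1, by
    rw [ofHom_curry, ofHom_curry, δ_cur, ← cur_add, ← (Cochain.equivHomotopy _ _ h).2]⟩

/-- uncurrying preserves homotopies -/
noncomputable def homotopyUncurry {ψ ψ' : X ⟶ DRing.homCx P L} (h : Homotopy ψ ψ') :
    Homotopy (uncurry ψ) (uncurry ψ') :=
  (Cochain.equivHomotopy _ _).symm ⟨unc (Cochain.equivHomotopy _ _ h).1, by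
    rw [ofHom_uncurry, ofHom_uncurry, δ_unc, ← unc_add, ← (Cochain.equivHomotopy _ _ h).2]⟩

lemma uncurry_comp (a : X' ⟶ X) (ψ : X ⟶ DRing.homCx P L) :
    uncurry (a ≫ ψ) = (a ▷ P) ≫ uncurry ψ := by
  apply Cochain.ofHom_injective
  rw [ofHom_uncurry, Cochain.ofHom_comp, Cochain.ofHom_comp, ofHom_uncurry, unc_ofHom_comp]

lemma curry_whiskerRight_comp (a : X' ⟶ X) (f : X ⊗ P ⟶ L) :
    curry ((a ▷ P) ≫ f) = a ≫ curry f := by
  have := uncurry_comp a (curry f)
  rw [uncurry_curry] at this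
  rw [← this, curry_uncurry]

lemma uncurry_comp_homCxPre (g : P' ⟶ P) (ψ : X ⟶ DRing.homCx P L) :
    uncurry (ψ ≫ homCxPre g L) = (X ◁ g) ≫ uncurry ψ := by
  apply Cochain.ofHom_injective
  rw [ofHom_uncurry, Cochain.ofHom_comp, Cochain.ofHom_comp, ofHom_uncurry,
    unc_comp_ofHom_homCxPre]

/-! ### evaluation -/

/-- the evaluation map `Hom•(P, L) ⊗ P ⟶ L` -/
noncomputable def evCx (P L : DRing.Cx A) : DRing.homCx P L ⊗ P ⟶ L := uncurry (𝟙 _)

lemma uncurry_eq (ψ : X ⟶ DRing.homCx P L) : uncurry ψ = (ψ ▷ P) ≫ evCx P L := by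
  rw [evCx, ← uncurry_comp, Category.comp_id]

/-- dinaturality of the evaluation in `P` -/
lemma evCx_dinat (g : P' ⟶ P) (L : DRing.Cx A) :
    (DRing.homCx P L ◁ g) ≫ evCx P L = (homCxPre g L ▷ P') ≫ evCx P' L := by
  rw [← uncurry_eq, evCx, ← uncurry_comp_homCxPre, Category.id_comp]

end Groth.Agent.Lib.Helper36.HCA
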