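import Mathlib
import Groth.Agent.Lib.Helper36.HomCxAdj2
import Groth.Agent.Lib.Helper94.KFlatAbs

/-!
# Hom complexes out of K-projective complexes (helper36)

Namespace `Groth.Agent.Lib.Helper36.HCA`.

* `acyclic_homCx` : `Hom•(P, Z)` is acyclic for `P` K-projective and `Z` acyclic;
* `isKProjective_tensor` : `X ⊗ P` is K-projective for `X`, `P` K-projective;
* `shortExact_homCxPre` : `Hom•(-, L)` sends degreewise split short exact sequences to short exact
  sequences.
-/

set_option autoImplicit false
universe u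
open CategoryTheory CategoryTheory.Limits MonoidalCategory HomologicalComplex CochainComplex
open HomComplex

namespace Groth.Agent.Lib.Helper36.HCA

variable {A : Type u} [CommRing A]

theorem acyclic_homCx (P Z : DRing.Cx A) [P.IsKProjective] (hZ : Z.Acyclic) :
    (DRing.homCx P Z).Acyclic := by
  intro n
  rw [HomologicalComplex.exactAt_iff' _ (n - 1) n (n + 1) (by simp) (by simp),
    ShortComplex.ShortExact.moduleCat_exact_iff_function_exact]
  intro (z : Cochain P Z n)
  constructor
  · intro (hz : δ n (n + 1) z = 0)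
    let x : Cocycle P Z n := Cocycle.mk z (n + 1) rfl hz
    have h0 : CohomologyClass.toHom (CohomologyClass.mk x) = 0 := by
      rw [CohomologyClass.toHom_mk, HomotopyCategory.quotient_map_eq_zero_iff]
      exact IsKProjective.nonempty_homotopy_zero _
        ((Groth.Agent.Lib.Helper94.KFlatAbs.acyclic_shift_iff Z n).2 hZ)
    rw [CohomologyClass.toHom_mk_eq_zero_iff, mem_coboundaries_iff x (n - 1) (by omega)] at h0
    obtain ⟨β, hβ⟩ := h0
    exact ⟨β, hβ⟩
  · rintro ⟨β, rfl⟩
    exact δ_δ _ _ _ β

lemma uncurry_zero {X P L : DRing.Cx A} : uncurry (0 : X ⟶ DRing.homCx P L) = 0 :=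
  Cochain.ofHom_injective (by simp)

lemma curry_zero {X P L : DRing.Cx A} : curry (0 : X ⊗ P ⟶ L) = 0 :=
  Cochain.ofHom_injective (by simp)

instance isKProjective_tensor (X P : DRing.Cx A) [X.IsKProjective] [P.IsKProjective] :
    (X ⊗ P).IsKProjective := by
  refine ⟨fun {Z} f hZ => ?_⟩
  have h1 : Homotopy (curry f) 0 := IsKProjective.homotopyZero (curry f) (acyclic_homCx P Z hZ)
  exact ⟨(Homotopy.ofEq (uncurry_curry f).symm).trans
    ((homotopyUncurry h1).trans (Homotopy.ofEq uncurry_zero))⟩

/-! ### degreewise split sequences -/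

section Split

variable (S : ShortComplex (DRing.Cx A))
  (σ : ∀ n : ℤ, (S.map (HomologicalComplex.eval (ModuleCat.{u} A) (ComplexShape.up ℤ) n)).Splitting)
  (L : DRing.Cx A)

/-- `Hom•(-, L)` applied to a short complex -/
noncomputable def homCxPreSC : ShortComplex (DRing.Cx A) :=
  ShortComplex.mk (homCxPre S.g L) (homCxPre S.f L) (by
    ext i z
    change (Cochain.ofHom S.f).comp ((Cochain.ofHom S.g).comp z (zero_add i)) (zero_add i) = 0
    rw [← Cochain.comp_assoc_of_first_is_zero_cochain, ← Cochain.ofHom_comp, S.zero,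
      Cochain.ofHom_zero, Cochain.zero_comp])

/-- the degreewise retraction as a cochain -/
noncomputable def rC : Cochain S.X₂ S.X₁ 0 := Cochain.ofHoms (fun p => (σ p).r)

/-- the degreewise section as a cochain -/
noncomputable def sC : Cochain S.X₃ S.X₂ 0 := Cochain.ofHoms (fun p => (σ p).s)

lemma ofHom_f_comp_rC : (Cochain.ofHom S.f).comp (rC S σ) (zero_add 0) = Cochain.ofHom (𝟙 _) := by
  refine Cochain.ext₀ _ _ (fun p => ?_)
  simp only [Cochain.zero_cochain_comp_v, Cochain.ofHom_v, rC, Cochain.ofHoms_v, id_f]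
  exact (σ p).f_r

lemma sC_comp_ofHom_g : (sC S σ).comp (Cochain.ofHom S.g) (zero_add 0) = Cochain.ofHom (𝟙 _) := by
  refine Cochain.ext₀ _ _ (fun p => ?_)
  simp only [Cochain.zero_cochain_comp_v, Cochain.ofHom_v, sC, Cochain.ofHoms_v, id_f]
  exact (σ p).s_g

lemma rC_f_add_g_sC : (rC S σ).comp (Cochain.ofHom S.f) (zero_add 0) +
    (Cochain.ofHom S.g).comp (sC S σ) (zero_add 0) = Cochain.ofHom (𝟙 _) := by
  refine Cochain.ext₀ _ _ (fun p => ?_)
  simp only [Cochain.add_v, Cochain.zero_cochain_comp_v, Cochain.ofHom_v, rC, sC,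
    Cochain.ofHoms_v, id_f]
  exact (σ p).id

/-- precomposition with a cochain of degree `0`, as a linear map -/
noncomputable def precompLin₀ {P P' : DRing.Cx A} (g : Cochain P' P 0) (L : DRing.Cx A) (i : ℤ) :
    Cochain P L i →ₗ[A] Cochain P' L i where
  toFun z := g.comp z (zero_add i)
  map_add' z z' := by simp
  map_smul' a z := by simp

/-- the degreewise splitting of `Hom•(-, L)` applied to a degreewise split sequence -/
noncomputable def homCxPreSplitting (i : ℤ) :
    ((homCxPreSC S L).map
      (HomologicalComplex.eval (ModuleCat.{u} A) (ComplexShape.up ℤ) i)).Splitting where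
  r := ModuleCat.ofHom (precompLin₀ (sC S σ) L i)
  s := ModuleCat.ofHom (precompLin₀ (rC S σ) L i)
  f_r := by
    refine ModuleCat.hom_ext (LinearMap.ext fun (z : Cochain S.X₃ L i) => ?_)
    change (sC S σ).comp ((Cochain.ofHom S.g).comp z (zero_add i)) (zero_add i) = z
    rw [← Cochain.comp_assoc_of_first_is_zero_cochain, sC_comp_ofHom_g, Cochain.id_comp]
  s_g := by
    refine ModuleCat.hom_ext (LinearMap.ext fun (z : Cochain S.X₁ L i) => ?_)
    change (Cochain.ofHom S.f).comp ((rC S σ).comp z (zero_add i)) (zero_add i) = z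
    rw [← Cochain.comp_assoc_of_first_is_zero_cochain, ofHom_f_comp_rC, Cochain.id_comp]
  id := by
    refine ModuleCat.hom_ext (LinearMap.ext fun (z : Cochain S.X₂ L i) => ?_)
    change (Cochain.ofHom S.g).comp ((sC S σ).comp z (zero_add i)) (zero_add i) +
      (rC S σ).comp ((Cochain.ofHom S.f).comp z (zero_add i)) (zero_add i) = z
    rw [← Cochain.comp_assoc_of_first_is_zero_cochain, ← Cochain.comp_assoc_of_first_is_zero_cochain,
      ← Cochain.add_comp, add_comm, rC_f_add_g_sC, Cochain.id_comp]

include σ in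
theorem shortExact_homCxPre : (homCxPreSC S L).ShortExact :=
  HomologicalComplex.shortExact_of_degreewise_shortExact _
    (fun i => (homCxPreSplitting S σ L i).shortExact)

end Split

end Groth.Agent.Lib.Helper36.HCA
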