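import Mathlib
import Groth.Agent.Lib.Helper36.HomCxKProj
import Groth.Agent.Lib.Helper46.DTenKProj

/-!
# `Hom•(P, -)` : naturality in the target, homotopies, quasi-isomorphisms (helper36)

Namespace `Groth.Agent.Lib.Helper36.HCA`.

* `uncurry_comp_homCxMap`, `curry_comp` : naturality of the adjunction in the target;
* `homotopyHomCxMap` : `Hom•(P, -)` preserves homotopies;
* `quasiIso_homCxMap` : `Hom•(P, -)` preserves quasi-isomorphisms for `P` K-projective.
-/

set_option autoImplicit false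
universe u
open CategoryTheory CategoryTheory.Limits MonoidalCategory HomologicalComplex CochainComplex
open HomComplex
attribute [local instance] HasDerivedCategory.standard

namespace Groth.Agent.Lib.Helper36.HCA

variable {A : Type u} [CommRing A] {X P L L' : DRing.Cx A}

lemma compT_comp_ofHom {n : ℤ} (c : Cochain (X ⊗ P) L n) (b : L ⟶ L') (p q m : ℤ)
    (h : p + q + n = m) :
    compT (c.comp (Cochain.ofHom b) (add_zero n)) p q m h = compT c p q m h ≫ b.f m := by
  dsimp only [compT]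
  rw [Cochain.comp_zero_cochain_v, Cochain.ofHom_v, Category.assoc]

lemma compH_comp_ofHom_homCxMap {n : ℤ} (z : Cochain X (DRing.homCx P L) n) (b : L ⟶ L')
    (p q m : ℤ) (h : p + q + n = m) :
    compH (z.comp (Cochain.ofHom (DRing.homCxMap P b)) (add_zero n)) p q m h =
      compH z p q m h ≫ b.f m := by
  refine ModuleCat.hom_ext (TensorProduct.ext' fun x e => ?_)
  have hR : (compH z p q m h ≫ b.f m).hom (x ⊗ₜ e) = (b.f m).hom ((compH z p q m h).hom (x ⊗ₜ e)) := by
    rw [ModuleCat.hom_comp, LinearMap.comp_apply]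
  rw [hR, compH_tmul _ p q m h (p + n) rfl, compH_tmul _ p q m h (p + n) rfl,
    Cochain.comp_zero_cochain_v, Cochain.ofHom_v, ModuleCat.hom_comp, LinearMap.comp_apply]
  have key : ∀ w : Cochain P L (p + n),
      ((((DRing.homCxMap P b).f (p + n)).hom w : Cochain P L' (p + n)).v q m (by omega)).hom e =
        (b.f m).hom ((w.v q m (by omega)).hom e) := by
    intro w
    show (((w.comp (Cochain.ofHom b) (add_zero (p + n))).v q m (by omega)).hom e) = _
    rw [Cochain.comp_zero_cochain_v, Cochain.ofHom_v, ModuleCat.hom_comp, LinearMap.comp_apply]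
  exact key _

lemma unc_comp_ofHom_homCxMap {n : ℤ} (z : Cochain X (DRing.homCx P L) n) (b : L ⟶ L') :
    unc (z.comp (Cochain.ofHom (DRing.homCxMap P b)) (add_zero n)) =
      (unc z).comp (Cochain.ofHom b) (add_zero n) := by
  apply extT
  funext p q m h
  rw [compT_unc, compH_comp_ofHom_homCxMap, compT_comp_ofHom, compT_unc]

lemma uncurry_comp_homCxMap (ψ : X ⟶ DRing.homCx P L) (b : L ⟶ L') :
    uncurry (ψ ≫ DRing.homCxMap P b) = uncurry ψ ≫ b := by
  apply Cochain.ofHom_injective
  rw [ofHom_uncurry, Cochain.ofHom_comp, Cochain.ofHom_comp, ofHom_uncurry,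
    unc_comp_ofHom_homCxMap]

lemma curry_comp (f : X ⊗ P ⟶ L) (b : L ⟶ L') :
    curry (f ≫ b) = curry f ≫ DRing.homCxMap P b := by
  have := uncurry_comp_homCxMap (curry f) b
  rw [uncurry_curry] at this
  rw [← this, curry_uncurry]

lemma homCxMap_eq_curry (b : L ⟶ L') : DRing.homCxMap P b = curry (evCx P L ≫ b) := by
  rw [evCx, ← uncurry_comp_homCxMap, Category.id_comp, curry_uncurry]

/-- `Hom•(P, -)` preserves homotopies -/
noncomputable def homotopyHomCxMap (P : DRing.Cx A) {b b' : L ⟶ L'} (h : Homotopy b b') :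
    Homotopy (DRing.homCxMap P b) (DRing.homCxMap P b') :=
  (Homotopy.ofEq (homCxMap_eq_curry b)).trans
    ((homotopyCurry (h.compLeft (evCx P L))).trans (Homotopy.ofEq (homCxMap_eq_curry b').symm))

open Groth.Agent.Lib.Helper46.DTenKProj DerivedCategory in
/-- `Hom•(P, -)` preserves quasi-isomorphisms for `P` K-projective -/
theorem quasiIso_homCxMap (P : DRing.Cx A) [P.IsKProjective] (f : L ⟶ L') [hf : QuasiIso f] :
    QuasiIso (DRing.homCxMap P f) := by
  have hQf : IsIso (Q.map f : (Q.obj L : Dual.D A) ⟶ _) :=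
    (DerivedCategory.isIso_Q_map_iff_quasiIso (ModuleCat.{u} A) f).2 hf
  rw [← DerivedCategory.isIso_Q_map_iff_quasiIso (ModuleCat.{u} A)]
  apply isIso_of_yoneda_map_bijective
  intro W
  obtain ⟨X, hX, ⟨e⟩⟩ := exists_kproj_iso W
  have := hX
  suffices h : Function.Bijective
      (fun x : (Q.obj X : Dual.D A) ⟶ Q.obj (DRing.homCx P L) =>
        x ≫ Q.map (DRing.homCxMap P f)) by
    constructor
    · intro x x' hxx
      have : (e.hom ≫ x) ≫ Q.map (DRing.homCxMap P f) =
          (e.hom ≫ x') ≫ Q.map (DRing.homCxMap P f) := by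
        simp only [Category.assoc]
        exact congrArg (e.hom ≫ ·) hxx
      exact (cancel_epi e.hom).1 (h.1 this)
    · intro z
      obtain ⟨y, hy⟩ := h.2 (e.hom ≫ z)
      refine ⟨e.inv ≫ y, ?_⟩
      dsimp only at hy ⊢
      rw [Category.assoc, hy, Iso.inv_hom_id_assoc]
  constructor
  · intro x x' hxx
    obtain ⟨ψ, rfl⟩ := exists_Q_map_eq x
    obtain ⟨ψ', rfl⟩ := exists_Q_map_eq x'
    dsimp only at hxx
    rw [← Functor.map_comp, ← Functor.map_comp] at hxx
    obtain ⟨H⟩ := nonempty_homotopy_of_Q_map_eq _ _ hxx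
    have H1 : Homotopy (uncurry ψ ≫ f) (uncurry ψ' ≫ f) :=
      (Homotopy.ofEq (uncurry_comp_homCxMap ψ f).symm).trans
        ((homotopyUncurry H).trans (Homotopy.ofEq (uncurry_comp_homCxMap ψ' f)))
    have h2 : (Q.map (uncurry ψ) : (Q.obj (X ⊗ P) : Dual.D A) ⟶ _) = Q.map (uncurry ψ') := by
      have h3 := DerivedCategory.Q_map_eq_of_homotopy (ModuleCat.{u} A) H1
      rw [Functor.map_comp, Functor.map_comp] at h3
      exact (cancel_mono (Q.map f)).1 h3
    obtain ⟨H2⟩ := nonempty_homotopy_of_Q_map_eq (S := X ⊗ P) _ _ h2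
    have H3 : Homotopy ψ ψ' :=
      (Homotopy.ofEq (curry_uncurry ψ).symm).trans
        ((homotopyCurry H2).trans (Homotopy.ofEq (curry_uncurry ψ')))
    exact DerivedCategory.Q_map_eq_of_homotopy _ H3
  · intro z
    obtain ⟨χ, rfl⟩ := exists_Q_map_eq z
    obtain ⟨θ, hθ⟩ := exists_Q_map_eq (S := X ⊗ P) (L := L) (Q.map (uncurry χ) ≫ inv (Q.map f))
    refine ⟨Q.map (curry θ), ?_⟩
    dsimp only
    rw [← Functor.map_comp, ← curry_comp]
    have h1 : (Q.map (θ ≫ f) : (Q.obj (X ⊗ P) : Dual.D A) ⟶ _) = Q.map (uncurry χ) := by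
      rw [Functor.map_comp, hθ, Category.assoc, IsIso.inv_hom_id, Category.comp_id]
    obtain ⟨H⟩ := nonempty_homotopy_of_Q_map_eq (S := X ⊗ P) _ _ h1
    exact DerivedCategory.Q_map_eq_of_homotopy _
      ((homotopyCurry H).trans (Homotopy.ofEq (curry_uncurry χ)))

end Groth.Agent.Lib.Helper36.HCA
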