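import Mathlib
import Groth.Prelude.Def_DRing4

/-!
Helper (helper36): the tensor product of a complex `E` with a module `M` placed in degree `0` is the
termwise tensor product `E^n ⊗ M`.
-/

set_option autoImplicit false
universe u

open CategoryTheory CategoryTheory.Limits MonoidalCategory HomologicalComplex

namespace Groth.Agent.Lib.Helper36.TS

variable {A : Type u} [CommRing A] (E : DRing.Cx A) (M : ModuleCat.{u} A)

/-- `M` placed in degree `0`. -/
noncomputable abbrev sM : DRing.Cx A :=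
  (HomologicalComplex.single (ModuleCat.{u} A) (ComplexShape.up ℤ) 0).obj M

lemma isZero_sM_X (q : ℤ) (hq : q ≠ 0) : IsZero ((sM M).X q) :=
  isZero_single_obj_X (ComplexShape.up ℤ) 0 M q hq

/-- The degree `0` term. -/
noncomputable def sM0 : (sM M).X 0 ≅ M := singleObjXSelf (ComplexShape.up ℤ) 0 M

lemma isZero_tensor_sM_X (p q : ℤ) (hq : q ≠ 0) : IsZero (E.X p ⊗ (sM M).X q) := by
  have := ModuleCat.subsingleton_of_isZero (isZero_sM_X M q hq)
  have : Subsingleton (E.X p ⊗ (sM M).X q : ModuleCat.{u} A) :=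
    inferInstanceAs (Subsingleton (TensorProduct A (E.X p) ((sM M).X q)))
  exact ModuleCat.isZero_of_subsingleton _

/-- The inclusion of the only nonzero summand. -/
noncomputable def inc (n : ℤ) : E.X n ⊗ M ⟶ (E ⊗ sM M).X n :=
  (E.X n ◁ (sM0 M).inv) ≫ ιTensorObj E (sM M) n 0 n (add_zero n)

/-- The projection to the only nonzero summand. -/
noncomputable def proj (n : ℤ) : (E ⊗ sM M).X n ⟶ E.X n ⊗ M :=
  mapBifunctorDesc (fun p q (h : p + q = n) =>
    if hq : q = 0 then
      ((E.XIsoOfEq (show p = n by omega)).hom ▷ (sM M).X q) ≫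
        (E.X n ◁ (singleObjXIsoOfEq (ComplexShape.up ℤ) 0 M q hq).hom)
    else 0)

lemma ι_proj_zero (n : ℤ) :
    ιTensorObj E (sM M) n 0 n (add_zero n) ≫ proj E M n = E.X n ◁ (sM0 M).hom := by
  dsimp only [proj]
  erw [ι_mapBifunctorDesc]
  rw [dif_pos rfl]
  simp only [XIsoOfEq_rfl, Iso.refl_hom, id_whiskerRight, Category.id_comp]
  rfl

lemma inc_proj (n : ℤ) : inc E M n ≫ proj E M n = 𝟙 _ := by
  rw [inc, Category.assoc, ι_proj_zero, ← MonoidalCategory.whiskerLeft_comp, Iso.inv_hom_id,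
    MonoidalCategory.whiskerLeft_id]

lemma proj_inc (n : ℤ) : proj E M n ≫ inc E M n = 𝟙 _ := by
  apply mapBifunctor.hom_ext
  intro p q h
  have h' : p + q = n := h
  by_cases hq : q = 0
  · subst hq
    obtain rfl : p = n := by omega
    erw [reassoc_of% (ι_proj_zero E M p)]
    rw [inc, ← MonoidalCategory.whiskerLeft_comp_assoc, Iso.hom_inv_id,
      MonoidalCategory.whiskerLeft_id, Category.id_comp]
    exact (Category.comp_id _).symm
  · exact (isZero_tensor_sM_X E M p q hq).eq_of_src _ _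

/-- The termwise isomorphism. -/
noncomputable def XIso (n : ℤ) : (E ⊗ sM M).X n ≅ E.X n ⊗ M where
  hom := proj E M n
  inv := inc E M n
  hom_inv_id := proj_inc E M n
  inv_hom_id := inc_proj E M n

lemma inc_d (n m : ℤ) (h : n + 1 = m) :
    inc E M n ≫ (E ⊗ sM M).d n m = (E.d n m ▷ M) ≫ inc E M m := by
  dsimp only [inc]
  rw [Category.assoc]
  erw [mapBifunctor.d_eq]
  rw [Preadditive.comp_add]
  erw [mapBifunctor.ι_D₁, mapBifunctor.ι_D₂]
  rw [mapBifunctor.d₁_eq E (sM M) (curriedTensor (ModuleCat.{u} A)) (ComplexShape.up ℤ)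
    (show (ComplexShape.up ℤ).Rel n m from h) 0 m (by simp [ComplexShape.π])]
  have hd2 : mapBifunctor.d₂ E (sM M) (curriedTensor (ModuleCat.{u} A)) (ComplexShape.up ℤ) n 0 m
      = 0 := by
    rw [mapBifunctor.d₂_eq' E (sM M) (curriedTensor (ModuleCat.{u} A)) (ComplexShape.up ℤ) n
      (show (ComplexShape.up ℤ).Rel 0 1 from rfl) m]
    have : (sM M).d 0 1 = 0 := (isZero_sM_X M 1 (by norm_num)).eq_of_tgt _ _
    rw [this, Functor.map_zero, zero_comp, smul_zero]
  rw [hd2, add_zero]
  have hε : ComplexShape.ε₁ (ComplexShape.up ℤ) (ComplexShape.up ℤ) (ComplexShape.up ℤ) (n, 0) = 1 :=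
    rfl
  rw [hε, one_smul]
  dsimp only [curriedTensor_map_app]
  rw [← Category.assoc, ← Category.assoc, ← MonoidalCategory.whisker_exchange]

/-- **The bridge**: `E ⊗ M[0]` is the termwise tensor product. -/
noncomputable def tensorSingleIso :
    E ⊗ sM M ≅ ((tensorRight M).mapHomologicalComplex (ComplexShape.up ℤ)).obj E :=
  Iso.symm (Hom.isoOfComponents (fun n => (XIso E M n).symm) (fun n m h => by
    exact inc_d E M n m h))

lemma tensorSingleIso_inv_f (n : ℤ) : (tensorSingleIso E M).inv.f n = inc E M n := rfl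

lemma tensorSingleIso_hom_f (n : ℤ) : (tensorSingleIso E M).hom.f n = proj E M n := rfl

end Groth.Agent.Lib.Helper36.TS
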