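import Mathlib
import Groth.Agent.Lib.Helper36.HomCxAdj3
import Groth.Agent.Lib.Helper36.TensorSingle

/-!
# K-injectivity of `Hom•(E, J)` (helper36)

Namespace `Groth.Agent.Lib.Helper36.HKI`.

* `isKInjective_homCx` : `Hom•(E, J)` is K-injective for `J` K-injective and `E` K-flat;
* `acyclic_tensor_single_of_flat` : a flat module placed in degree `0` is K-flat;
* `awayTensorEquiv`, `singleTensorSingleIso`.
-/

set_option autoImplicit false
universe u
open CategoryTheory CategoryTheory.Limits MonoidalCategory HomologicalComplex CochainComplex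

namespace Groth.Agent.Lib.Helper36.HKI

open Groth.Agent.Lib.Helper36.HCA Groth.Agent.Lib.Helper36.TS

variable {A : Type u} [CommRing A]

theorem isKInjective_homCx (E J : DRing.Cx A) [J.IsKInjective]
    (hE : ∀ Z : DRing.Cx A, Z.Acyclic → (Z ⊗ E).Acyclic) : (DRing.homCx E J).IsKInjective := by
  refine ⟨fun {Z} χ hZ => ?_⟩
  obtain ⟨H⟩ := IsKInjective.nonempty_homotopy_zero (uncurry χ) (hE Z hZ)
  exact ⟨(Homotopy.ofEq (curry_uncurry χ).symm).trans
    ((homotopyCurry H).trans (Homotopy.ofEq curry_zero))⟩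

lemma exactAt_tensorRight_of_flat (Z : DRing.Cx A) (M : ModuleCat.{u} A) [Module.Flat A M]
    (i : ℤ) (h : Z.ExactAt i) :
    (((tensorRight M).mapHomologicalComplex (ComplexShape.up ℤ)).obj Z).ExactAt i := by
  rw [HomologicalComplex.exactAt_iff] at h ⊢
  exact Module.Flat.rTensor_shortComplex_exact M _ h

theorem acyclic_tensor_single_of_flat (M : ModuleCat.{u} A) [Module.Flat A M] (Z : DRing.Cx A)
    (hZ : Z.Acyclic) : (Z ⊗ sM M).Acyclic := fun i =>
  (exactAt_tensorRight_of_flat Z M i (hZ i)).of_iso (tensorSingleIso Z M).symm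

open TensorProduct in
/-- `A_f ⊗ A_g ≃ A_{fg}` -/
noncomputable def awayTensorEquiv (f g : A) :
    (Localization.Away f) ⊗[A] (Localization.Away g) ≃ₗ[A] Localization.Away (f * g) := by
  have h1 : IsLocalization (Algebra.algebraMapSubmonoid (Localization.Away f) (Submonoid.powers g))
      (Localization.Away f ⊗[A] Localization.Away g) :=
    IsLocalization.tensor (Localization.Away g) (Submonoid.powers g)
  have h2 : IsLocalization.Away (algebraMap A (Localization.Away f) g)
      (Localization.Away f ⊗[A] Localization.Away g) := by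
    have : Algebra.algebraMapSubmonoid (Localization.Away f) (Submonoid.powers g) =
        Submonoid.powers (algebraMap A (Localization.Away f) g) := by
      simp [Algebra.algebraMapSubmonoid, Submonoid.map_powers]
    rw [this] at h1
    exact h1
  have h3 : IsLocalization.Away (f * g) (Localization.Away f ⊗[A] Localization.Away g) :=
    IsLocalization.Away.mul' (Localization.Away f) _ f g
  exact (IsLocalization.algEquiv (Submonoid.powers (f * g)) _ _).toLinearEquiv

/-- `M'[0] ⊗ M[0] ≅ (M' ⊗ M)[0]` -/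
noncomputable def singleTensorSingleIso (M' M : ModuleCat.{u} A) :
    sM M' ⊗ sM M ≅ sM (M' ⊗ M) :=
  tensorSingleIso (sM M') M ≪≫
    (HomologicalComplex.singleMapHomologicalComplex (tensorRight M) (ComplexShape.up ℤ) 0).app M'

/-- `A_f[0] ⊗ A_g[0] ≅ A_{fg}[0]` -/
noncomputable def awaySingleIso (f g : A) :
    sM (ModuleCat.of A (Localization.Away f)) ⊗ sM (ModuleCat.of A (Localization.Away g)) ≅
      sM (ModuleCat.of A (Localization.Away (f * g))) :=
  singleTensorSingleIso _ _ ≪≫
    (HomologicalComplex.single (ModuleCat.{u} A) (ComplexShape.up ℤ) 0).mapIso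
      (awayTensorEquiv f g).toModuleIso

open HomComplex in
lemma homCxPre_id (P L : DRing.Cx A) : homCxPre (𝟙 P) L = 𝟙 _ := by
  refine HomologicalComplex.hom_ext _ _ fun i =>
    ModuleCat.hom_ext (LinearMap.ext fun (z : Cochain P L i) => ?_)
  show (Cochain.ofHom (𝟙 P)).comp z (zero_add i) = z
  exact Cochain.id_comp z

open HomComplex in
lemma homCxPre_comp {P P' P'' : DRing.Cx A} (g : P'' ⟶ P') (g' : P' ⟶ P) (L : DRing.Cx A) :
    homCxPre (g ≫ g') L = homCxPre g' L ≫ homCxPre g L := by
  refine HomologicalComplex.hom_ext _ _ fun i =>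
    ModuleCat.hom_ext (LinearMap.ext fun (z : Cochain P L i) => ?_)
  show (Cochain.ofHom (g ≫ g')).comp z (zero_add i) =
    (Cochain.ofHom g).comp ((Cochain.ofHom g').comp z (zero_add i)) (zero_add i)
  rw [Cochain.ofHom_comp, Cochain.comp_assoc_of_first_is_zero_cochain]

/-- `Hom•(-, L)` on isomorphisms -/
noncomputable def homCxPreIso {P P' : DRing.Cx A} (e : P' ≅ P) (L : DRing.Cx A) :
    DRing.homCx P L ≅ DRing.homCx P' L where
  hom := homCxPre e.hom L
  inv := homCxPre e.inv L
  hom_inv_id := by rw [← homCxPre_comp, e.inv_hom_id, homCxPre_id]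
  inv_hom_id := by rw [← homCxPre_comp, e.hom_inv_id, homCxPre_id]

/-- `Hom•(K, Hom•(L, M)) ≅ Hom•(K ⊗ L, M)` -/
noncomputable def homCxTensorIso (K L M : DRing.Cx A) :
    DRing.homCx K (DRing.homCx L M) ≅ DRing.homCx (K ⊗ L) M :=
  HomologicalComplex.Hom.isoOfComponents
    (fun n => (curEquiv K L M n).symm.toModuleIso) (by
      intro i j _
      refine ModuleCat.hom_ext (LinearMap.ext fun z => ?_)
      exact δ_unc i j z)

end Groth.Agent.Lib.Helper36.HKI
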