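import Mathlib
import Groth.Agent.Lib.Helper36.HomCxKInj

/-!
# `Hom•(-, L)` as a contravariant dg-functor (helper36)

Namespace `Groth.Agent.Lib.Helper36.PDG`.

`pre L γ : Cochain (Hom•(P, L)) (Hom•(P', L)) d` for `γ : Cochain P' P d`, with the Koszul sign
`z ↦ (-1)^{d * deg z} γ ≫ z`; `δ_pre` (no sign), `pre_comp` (contravariant, Koszul sign), `pre_ofHom`.
-/

set_option autoImplicit false
universe u
open CategoryTheory CategoryTheory.Limits HomologicalComplex CochainComplex
open HomComplex

namespace Groth.Agent.Lib.Helper36.PDG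

open Groth.Agent.Lib.Helper36.HCA

variable {A : Type u} [CommRing A] (L : DRing.Cx A) {P P' P'' : DRing.Cx A}

/-- precomposition with a cochain (with the Koszul sign), as a linear map -/
noncomputable def preLin {d : ℤ} (γ : Cochain P' P d) (p q : ℤ) (h : p + d = q) :
    Cochain P L p →ₗ[A] Cochain P' L q where
  toFun z := (d * p).negOnePow • γ.comp z (by omega)
  map_add' z z' := by rw [Cochain.comp_add, smul_add]
  map_smul' a z := by
    rw [Cochain.comp_smul, RingHom.id_apply]
    exact smul_comm _ _ _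

/-- precomposition with a cochain, as a cochain between Hom complexes -/
noncomputable def pre {d : ℤ} (γ : Cochain P' P d) :
    Cochain (DRing.homCx P L) (DRing.homCx P' L) d :=
  Cochain.mk (fun p q h => ModuleCat.ofHom (preLin L γ p q h))

lemma pre_ext {d : ℤ} {c c' : Cochain (DRing.homCx P L) (DRing.homCx P' L) d}
    (h : ∀ (p q : ℤ) (hpq : p + d = q) (z : Cochain P L p),
      ((c.v p q hpq).hom z : Cochain P' L q) = (c'.v p q hpq).hom z) : c = c' := by
  refine Cochain.ext _ _ (fun p q hpq => ?_)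
  exact ModuleCat.hom_ext (LinearMap.ext fun (z : Cochain P L p) => h p q hpq z)

lemma pre_v_apply {d : ℤ} (γ : Cochain P' P d) (p q : ℤ) (h : p + d = q) (z : Cochain P L p) :
    (((pre L γ).v p q h).hom z : Cochain P' L q) = (d * p).negOnePow • γ.comp z (by omega) := rfl

lemma pre_ofHom (g : P' ⟶ P) : pre L (Cochain.ofHom g) = Cochain.ofHom (homCxPre g L) := by
  refine pre_ext L (fun p q hpq z => ?_)
  obtain rfl : p = q := by omega
  rw [Cochain.ofHom_v, pre_v_apply, zero_mul, Int.negOnePow_zero, one_smul]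
  rfl

lemma pre_zero (d : ℤ) : pre L (0 : Cochain P' P d) = 0 := by
  refine pre_ext L (fun p q hpq z => ?_)
  rw [pre_v_apply, Cochain.zero_comp, smul_zero]
  rfl

lemma pre_add {d : ℤ} (γ γ' : Cochain P' P d) : pre L (γ + γ') = pre L γ + pre L γ' := by
  refine pre_ext L (fun p q hpq z => ?_)
  rw [pre_v_apply, Cochain.add_comp, smul_add, Cochain.add_v]
  rfl

lemma pre_neg {d : ℤ} (γ : Cochain P' P d) : pre L (-γ) = -pre L γ := by
  refine pre_ext L (fun p q hpq z => ?_)
  rw [pre_v_apply, Cochain.neg_comp, smul_neg, Cochain.neg_v]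
  rfl

lemma pre_comp {d d' e : ℤ} (γ : Cochain P'' P' d) (γ' : Cochain P' P d') (h : d + d' = e) :
    pre L (γ.comp γ' h) = (d * d').negOnePow • (pre L γ').comp (pre L γ) (by omega) := by
  refine pre_ext L (fun p q hpq z => ?_)
  rw [Cochain.units_smul_v, Cochain.comp_v _ _ (show d' + d = e by omega) p (p + d') q rfl (by omega)]
  show (e * p).negOnePow • (γ.comp γ' h).comp z (by omega) =
    (d * d').negOnePow • ((d * (p + d')).negOnePow • γ.comp ((d' * p).negOnePow • γ'.comp z rfl) (by omega))
  rw [Cochain.comp_units_smul, smul_smul, smul_smul,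
    Cochain.comp_assoc _ _ _ h rfl (by omega)]
  congr 1
  rw [← Int.negOnePow_add, ← Int.negOnePow_add, ← h]
  have : (d + d') * p = d * d' + d * (p + d') + d' * p - 2 * (d * d') := by ring
  rw [this, Int.negOnePow_sub, Int.negOnePow_even (2 * (d * d')) ⟨d * d', by ring⟩]
  simp

lemma δ_pre {d e : ℤ} (γ : Cochain P' P d) (h : d + 1 = e) :
    δ d e (pre L γ) = pre L (δ d e γ) := by
  subst h
  refine pre_ext L (fun p q hpq z => ?_)
  rw [δ_v d (d + 1) rfl _ p q hpq (q - 1) (p + 1) rfl rfl]
  show δ (q - 1) q ((d * p).negOnePow • γ.comp z (by omega)) +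
      (d + 1).negOnePow • ((d * (p + 1)).negOnePow • γ.comp (δ p (p + 1) z) (by omega)) =
    ((d + 1) * p).negOnePow • (δ d (d + 1) γ).comp z (by omega)
  rw [δ_units_smul, δ_comp γ z (show d + p = q - 1 by omega) (d + 1) (p + 1) q (by omega) rfl rfl,
    smul_add, smul_smul, smul_smul]
  have h1 : (d + 1).negOnePow * (d * (p + 1)).negOnePow = -(d * p).negOnePow := by
    rw [← Int.negOnePow_add]
    have : d + 1 + d * (p + 1) = d * p + 1 + 2 * d := by ring
    rw [this, Int.negOnePow_add, Int.negOnePow_even (2 * d) ⟨d, by ring⟩, mul_one,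
      Int.negOnePow_succ]
  have h2 : (d * p).negOnePow * p.negOnePow = ((d + 1) * p).negOnePow := by
    rw [← Int.negOnePow_add]
    congr 1
    ring
  rw [h1, h2, Units.neg_smul]
  abel

end Groth.Agent.Lib.Helper36.PDG
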