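import Mathlib
import Groth.Agent.Lib.Helper36.HomCxPreDG
import Groth.Agent.Lib.Helper36.CoconeIds

/-!
# `Hom•(Cocone φ, L) ≅ Cone(Hom•(φ, L))` (helper36)

Namespace `Groth.Agent.Lib.Helper36.HCC`.
-/

set_option autoImplicit false
universe u
open CategoryTheory CategoryTheory.Limits HomologicalComplex CochainComplex
open HomComplex

namespace Groth.Agent.Lib.Helper36.HCC

open Groth.Agent.Lib.Helper36.HCA Groth.Agent.Lib.Helper36.PDG Groth.Agent.Lib.Helper36.HKI
open Groth.Agent.Lib.Helper36

variable {A : Type u} [CommRing A] {M N : DRing.Cx A} (φ : M ⟶ N) (L : DRing.Cx A)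

/-- the comparison map `Cone(Hom•(φ, L)) ⟶ Hom•(Cocone φ, L)` -/
noncomputable def coconeHom :
    mappingCone (homCxPre φ L) ⟶ DRing.homCx (mappingCocone φ) L :=
  mappingCone.desc (homCxPre φ L) (-pre L (mappingCocone.snd φ))
    (homCxPre (mappingCocone.fst φ) L) (by
      rw [δ_neg, δ_pre L _ (neg_add_cancel 1), CCI.δ_snd, pre_neg, neg_neg, pre_ofHom]
      exact congrArg Cochain.ofHom (homCxPre_comp _ _ L))

lemma pre_inr_mem : δ 1 2 (pre L (mappingCocone.inr φ).1) = 0 := by
  rw [δ_pre L _ (by norm_num), Cocycle.δ_eq_zero, pre_zero]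

/-- the comparison map `Hom•(Cocone φ, L) ⟶ Cone(Hom•(φ, L))` -/
noncomputable def coconeInv :
    DRing.homCx (mappingCocone φ) L ⟶ mappingCone (homCxPre φ L) :=
  mappingCone.lift (homCxPre φ L)
    (Cocycle.mk (pre L (mappingCocone.inr φ).1) 2 (by norm_num) (pre_inr_mem φ L))
    (pre L (mappingCocone.inl φ)) (by
      rw [δ_pre L _ (zero_add 1), CCI.δ_inl, pre_neg, pre_comp, pre_ofHom, zero_mul,
        Int.negOnePow_zero, one_smul]
      exact neg_add_cancel _)

lemma coconeInv_coconeHom : coconeInv φ L ≫ coconeHom φ L = 𝟙 _ := by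
  apply Cochain.ofHom_injective
  rw [Cochain.ofHom_comp]
  dsimp only [coconeInv, coconeHom]
  rw [mappingCone.ofHom_lift, mappingCone.ofHom_desc,
    mappingCone.liftCochain_descCochain _ _ _ _ _ (zero_add 1) (neg_add_cancel 1) 0 (add_zero 0)]
  rw [Cocycle.mk_coe, ← pre_ofHom, Cochain.comp_neg]
  have h1 : pre L ((mappingCocone.snd φ).comp (mappingCocone.inr φ).1 (neg_add_cancel 1)) =
      -(pre L (mappingCocone.inr φ).1).comp (pre L (mappingCocone.snd φ)) (add_neg_cancel 1) := by
    rw [pre_comp]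
    simp
  have h2 : pre L ((Cochain.ofHom (mappingCocone.fst φ)).comp (mappingCocone.inl φ) (zero_add 0)) =
      (pre L (mappingCocone.inl φ)).comp (pre L (Cochain.ofHom (mappingCocone.fst φ)))
        (add_zero 0) := by
    rw [pre_comp]
    simp
  rw [← h1, ← h2, add_comm, ← pre_add, CCI.id, pre_ofHom]
  exact congrArg Cochain.ofHom (homCxPre_id _ L)

lemma coconeHom_coconeInv : coconeHom φ L ≫ coconeInv φ L = 𝟙 _ := by
  apply Cochain.ofHom_injective
  rw [Cochain.ofHom_comp]
  rw [mappingCone.ext_cochain_from_iff _ (-1) 0 (neg_add_cancel 1)]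
  have hinl : (mappingCone.inl (homCxPre φ L)).comp (Cochain.ofHom (coconeHom φ L))
      (add_zero _) = -pre L (mappingCocone.snd φ) := mappingCone.inl_desc _ _ _ _
  have hinr : (Cochain.ofHom (mappingCone.inr (homCxPre φ L))).comp
      (Cochain.ofHom (coconeHom φ L)) (add_zero _) =
      pre L (Cochain.ofHom (mappingCocone.fst φ)) := by
    rw [← Cochain.ofHom_comp, pre_ofHom]
    exact congrArg Cochain.ofHom (mappingCone.inr_desc _ _ _ _)
  have hfst : (Cochain.ofHom (coconeInv φ L)).comp (mappingCone.fst (homCxPre φ L)).1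
      (zero_add 1) = pre L (mappingCocone.inr φ).1 := mappingCone.lift_fst _ _ _ _
  have hsnd : (Cochain.ofHom (coconeInv φ L)).comp (mappingCone.snd (homCxPre φ L))
      (zero_add 0) = pre L (mappingCocone.inl φ) := mappingCone.lift_snd _ _ _ _
  have k1 : pre L ((mappingCocone.inr φ).1.comp (mappingCocone.snd φ) (add_neg_cancel 1)) =
      -(pre L (mappingCocone.snd φ)).comp (pre L (mappingCocone.inr φ).1) (neg_add_cancel 1) := by
    rw [pre_comp]
    simp
  have k2 : pre L ((mappingCocone.inl φ).comp (mappingCocone.snd φ) (zero_add (-1))) =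
      (pre L (mappingCocone.snd φ)).comp (pre L (mappingCocone.inl φ)) (add_zero (-1)) := by
    rw [pre_comp]
    simp
  have k3 : pre L ((mappingCocone.inr φ).1.comp (Cochain.ofHom (mappingCocone.fst φ)) (add_zero 1)) =
      (pre L (Cochain.ofHom (mappingCocone.fst φ))).comp (pre L (mappingCocone.inr φ).1)
        (zero_add 1) := by
    rw [pre_comp]
    simp
  have k4 : pre L ((mappingCocone.inl φ).comp (Cochain.ofHom (mappingCocone.fst φ)) (add_zero 0)) =
      (pre L (Cochain.ofHom (mappingCocone.fst φ))).comp (pre L (mappingCocone.inl φ))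
        (zero_add 0) := by
    rw [pre_comp]
    simp
  constructor
  · rw [← Cochain.comp_assoc_of_second_is_zero_cochain, hinl, Cochain.comp_id,
      mappingCone.ext_cochain_to_iff _ (-1) 0 (neg_add_cancel 1)]
    constructor
    · rw [Cochain.comp_assoc_of_second_is_zero_cochain, hfst, Cochain.neg_comp, ← k1,
        CCI.inr_snd, mappingCone.inl_fst, pre_ofHom]
      exact congrArg Cochain.ofHom (homCxPre_id _ L)
    · rw [Cochain.comp_assoc_of_second_is_zero_cochain, hsnd, Cochain.neg_comp, ← k2,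
        CCI.inl_snd, mappingCone.inl_snd, pre_zero, neg_zero]
  · rw [← Cochain.comp_assoc_of_second_is_zero_cochain, hinr, Cochain.comp_id,
      mappingCone.ext_cochain_to_iff _ 0 1 (zero_add 1)]
    constructor
    · rw [Cochain.comp_assoc_of_second_is_zero_cochain, hfst, ← k3, CCI.inr_fst,
        mappingCone.inr_fst, pre_zero]
    · rw [Cochain.comp_assoc_of_second_is_zero_cochain, hsnd, ← k4, CCI.inl_fst,
        mappingCone.inr_snd, pre_ofHom]
      exact congrArg Cochain.ofHom (homCxPre_id _ L)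

/-- `Cone(Hom•(φ, L)) ≅ Hom•(Cocone φ, L)` -/
noncomputable def coconeIso :
    mappingCone (homCxPre φ L) ≅ DRing.homCx (mappingCocone φ) L where
  hom := coconeHom φ L
  inv := coconeInv φ L
  hom_inv_id := coconeHom_coconeInv φ L
  inv_hom_id := coconeInv_coconeHom φ L

lemma inr_coconeIso_hom :
    mappingCone.inr (homCxPre φ L) ≫ (coconeIso φ L).hom =
      homCxPre (mappingCocone.fst φ) L := by
  dsimp only [coconeIso, coconeHom]
  exact mappingCone.inr_desc _ _ _ _

end Groth.Agent.Lib.Helper36.HCC
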