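import Mathlib
import Groth.Prelude.Def_DRing4
import Groth.Agent.Lib.Helper36.InjAmp
import Groth.Agent.Lib.Helper99.KInjRes

/-!
# Basic facts on K-injective complexes of modules (helper36)

Namespace `Groth.Agent.Lib.Helper36.KIB`.

* `isKInjective_mappingCone`;
* `nonempty_homotopy_of_Q_map_eq` : `Q` is faithful up to homotopy on maps into a K-injective complex;
* `exists_kinj_iso` : every object of `D(A)` is the image of a K-injective complex;
* `exists_map_of_isKInjective` : `Q` is full on maps into a K-injective complex (from `InjAmp`).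
-/

set_option autoImplicit false
universe u
open CategoryTheory CategoryTheory.Limits HomologicalComplex CochainComplex
attribute [local instance] HasDerivedCategory.standard

namespace Groth.Agent.Lib.Helper36.KIB

variable {A : Type u} [CommRing A]

instance isKInjective_mappingCone {M N : DRing.Cx A} (φ : M ⟶ N) [hM : M.IsKInjective]
    [hN : N.IsKInjective] : (mappingCone φ).IsKInjective := by
  rw [isKInjective_iff_rightOrthogonal] at hM hN ⊢
  exact (HomotopyCategory.subcategoryAcyclic (ModuleCat.{u} A)).rightOrthogonal.ext_of_isTriangulatedClosed₃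
    _ (HomotopyCategory.mappingCone_triangleh_distinguished φ) hM hN

lemma nonempty_homotopy_of_Q_map_eq {S L : DRing.Cx A} [L.IsKInjective] (f g : S ⟶ L)
    (h : (DerivedCategory.Q.map f : (DerivedCategory.Q.obj S : Dual.D A) ⟶ _) =
      DerivedCategory.Q.map g) : Nonempty (Homotopy f g) := by
  have h1 : DerivedCategory.Qh.map ((HomotopyCategory.quotient _ _).map f) =
      DerivedCategory.Qh.map ((HomotopyCategory.quotient _ _).map g) := by
    rw [← cancel_mono ((DerivedCategory.quotientCompQhIso (ModuleCat.{u} A)).hom.app L),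
      DerivedCategory.quotientCompQhIso_hom_naturality,
      DerivedCategory.quotientCompQhIso_hom_naturality, h]
  have h2 := (CochainComplex.IsKInjective.Qh_map_bijective
    ((HomotopyCategory.quotient _ _).obj S) L).1 h1
  exact ⟨HomotopyCategory.homotopyOfEq _ _ h2⟩

lemma exists_map_of_isKInjective (E L : DRing.Cx A) [L.IsKInjective]
    (α : (DerivedCategory.Q.obj E : Dual.D A) ⟶ DerivedCategory.Q.obj L) :
    ∃ f : E ⟶ L, DerivedCategory.Q.map f = α :=
  Groth.Agent.Lib.Helper36.InjAmp.exists_map_of_isKInjective E L α

/-- every object of `D(A)` is the image of a K-injective complex -/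
lemma exists_kinj_iso (E : Dual.D A) :
    ∃ (J : DRing.Cx A) (_ : J.IsKInjective), Nonempty (DerivedCategory.Q.obj J ≅ E) := by
  obtain ⟨J, j, hJ, hj, -, -⟩ := Groth.Agent.Lib.Helper99.KInj.exists_kInjective_resolution
    (DerivedCategory.Q.objPreimage E : DRing.Cx A)
  have : IsIso (DerivedCategory.Q.map j : (DerivedCategory.Q.obj _ : Dual.D A) ⟶ _) :=
    (DerivedCategory.isIso_Q_map_iff_quasiIso (ModuleCat.{u} A) j).2 hj
  exact ⟨J, hJ, ⟨(asIso (DerivedCategory.Q.map j)).symm ≪≫ DerivedCategory.Q.objObjPreimageIso E⟩⟩

end Groth.Agent.Lib.Helper36.KIB
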