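import Mathlib

/-!
Helper (helper36): right Kan extensions are preserved by precomposition with a functor `T` such that
whiskering by `T` is fully faithful (e.g. a quotient or localization functor).
-/

set_option autoImplicit false
universe v₀ v₁ v₂ v₃ u₀ u₁ u₂ u₃

open CategoryTheory CategoryTheory.Functor

namespace Groth.Agent.Lib.Helper36.KanPre

variable {C₀ : Type u₀} {C : Type u₁} {D : Type u₂} {H : Type u₃} [Category.{v₀} C₀]
  [Category.{v₁} C] [Category.{v₂} D] [Category.{v₃} H]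
  (T : C₀ ⥤ C) {L : C ⥤ D} {F : C ⥤ H} (LF : D ⥤ H) (α : L ⋙ LF ⟶ F)

/-- The whiskered extension. -/
def preα : (T ⋙ L) ⋙ LF ⟶ T ⋙ F where
  app X := α.app (T.obj X)
  naturality X Y f := α.naturality (T.map f)

@[simp] lemma preα_app (X : C₀) : (preα T LF α).app X = α.app (T.obj X) := rfl

theorem isRightKanExtension_precomp [((whiskeringLeft C₀ C H).obj T).Full]
    [((whiskeringLeft C₀ C H).obj T).Faithful] [LF.IsRightKanExtension α] :
    LF.IsRightKanExtension (preα T LF α) := by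
  -- the preimage of an extension
  have hpre : ∀ (G : D ⥤ H) (β₀ : (T ⋙ L) ⋙ G ⟶ T ⋙ F),
      ∃ β : L ⋙ G ⟶ F, ∀ X, β.app (T.obj X) = β₀.app X := by
    intro G β₀
    let β₀' : ((whiskeringLeft C₀ C H).obj T).obj (L ⋙ G) ⟶ ((whiskeringLeft C₀ C H).obj T).obj F :=
      { app := fun X => β₀.app X
        naturality := fun X Y f => β₀.naturality f }
    obtain ⟨β, hβ⟩ := ((whiskeringLeft C₀ C H).obj T).map_surjective β₀'
    exact ⟨β, fun X => congr(($hβ).app X)⟩
  have hinj : ∀ (G : C ⥤ H) (β β' : G ⟶ F), (∀ X, β.app (T.obj X) = β'.app (T.obj X)) → β = β' := by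
    intro G β β' h
    apply ((whiskeringLeft C₀ C H).obj T).map_injective
    ext X
    exact h X
  choose pre hpre using hpre
  refine ⟨⟨Limits.IsTerminal.ofUniqueHom (fun Y => CostructuredArrow.homMk
    (LF.liftOfIsRightKanExtension α Y.left (pre Y.left Y.hom)) ?_) ?_⟩⟩
  · ext X
    show (LF.liftOfIsRightKanExtension α Y.left (pre Y.left Y.hom)).app (L.obj (T.obj X)) ≫
      α.app (T.obj X) = Y.hom.app X
    rw [liftOfIsRightKanExtension_fac_app, hpre]
  · intro Y m
    apply CostructuredArrow.hom_ext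
    obtain ⟨μ, hμ⟩ : ∃ μ : Y.left ⟶ LF, μ = m.left := ⟨m.left, rfl⟩
    have hw := CostructuredArrow.w m
    have hw' : ∀ X, μ.app (L.obj (T.obj X)) ≫ α.app (T.obj X) = Y.hom.app X := fun X => by
      rw [hμ]
      exact congr(($hw).app X)
    rw [← hμ]
    show μ = LF.liftOfIsRightKanExtension α Y.left (pre Y.left Y.hom)
    apply LF.hom_ext_of_isRightKanExtension α
    rw [liftOfIsRightKanExtension_fac]
    apply hinj
    intro X
    rw [hpre]
    exact hw' X

section iso

variable {L₀ : C₀ ⥤ D} {F₀ : C₀ ⥤ H} (e₁ : T ⋙ L ≅ L₀) (e₂ : T ⋙ F ≅ F₀)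

/-- The whiskered extension, transported along isomorphisms. -/
def preαIso : L₀ ⋙ LF ⟶ F₀ where
  app X := LF.map (e₁.inv.app X) ≫ α.app (T.obj X) ≫ e₂.hom.app X
  naturality X Y f := by
    have h1 := e₁.inv.naturality f
    have h2 := α.naturality (T.map f)
    have h3 := e₂.hom.naturality f
    dsimp at h1 h2 h3 ⊢
    rw [← LF.map_comp_assoc, h1, LF.map_comp_assoc, reassoc_of% h2, h3]
    simp only [Category.assoc]

@[simp] lemma preαIso_app (X : C₀) :
    (preαIso T LF α e₁ e₂).app X = LF.map (e₁.inv.app X) ≫ α.app (T.obj X) ≫ e₂.hom.app X := rfl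

/-- Transport of an extension back along the isomorphisms. -/
def transβ (G : D ⥤ H) (β : L₀ ⋙ G ⟶ F₀) : (T ⋙ L) ⋙ G ⟶ T ⋙ F where
  app X := G.map (e₁.hom.app X) ≫ β.app X ≫ e₂.inv.app X
  naturality X X' f := by
    have h1 := e₁.hom.naturality f
    have h2 := β.naturality f
    have h3 := e₂.inv.naturality f
    dsimp at h1 h2 h3 ⊢
    rw [← G.map_comp_assoc, h1, G.map_comp_assoc, reassoc_of% h2, h3]
    simp only [Category.assoc]

theorem isRightKanExtension_precomp_iso [((whiskeringLeft C₀ C H).obj T).Full]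
    [((whiskeringLeft C₀ C H).obj T).Faithful] [LF.IsRightKanExtension α] :
    LF.IsRightKanExtension (preαIso T LF α e₁ e₂) := by
  have h0 := isRightKanExtension_precomp T LF α
  refine ⟨⟨Limits.IsTerminal.ofUniqueHom (fun Y => CostructuredArrow.homMk
    (LF.liftOfIsRightKanExtension (preα T LF α) Y.left (transβ T e₁ e₂ Y.left Y.hom)) ?_) ?_⟩⟩
  · ext X
    show (LF.liftOfIsRightKanExtension (preα T LF α) Y.left (transβ T e₁ e₂ Y.left Y.hom)).app
      (L₀.obj X) ≫ (LF.map (e₁.inv.app X) ≫ α.app (T.obj X) ≫ e₂.hom.app X) = Y.hom.app X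
    have hn := (LF.liftOfIsRightKanExtension (preα T LF α) Y.left
      (transβ T e₁ e₂ Y.left Y.hom)).naturality (e₁.inv.app X)
    have hf : (LF.liftOfIsRightKanExtension (preα T LF α) Y.left
        (transβ T e₁ e₂ Y.left Y.hom)).app (L.obj (T.obj X)) ≫ α.app (T.obj X) =
        Y.left.map (e₁.hom.app X) ≫ Y.hom.app X ≫ e₂.inv.app X :=
      liftOfIsRightKanExtension_fac_app LF (preα T LF α) Y.left
        (transβ T e₁ e₂ Y.left Y.hom) X
    have hn' : (LF.liftOfIsRightKanExtension (preα T LF α) Y.left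
        (transβ T e₁ e₂ Y.left Y.hom)).app (L₀.obj X) ≫ LF.map (e₁.inv.app X) =
        Y.left.map (e₁.inv.app X) ≫ (LF.liftOfIsRightKanExtension (preα T LF α) Y.left
        (transβ T e₁ e₂ Y.left Y.hom)).app (L.obj (T.obj X)) := hn.symm
    rw [reassoc_of% hn', reassoc_of% hf, Iso.inv_hom_id_app, Category.comp_id,
      ← Y.left.map_comp_assoc]
    have : e₁.inv.app X ≫ e₁.hom.app X = 𝟙 _ := Iso.inv_hom_id_app e₁ X
    rw [this]
    exact (congrArg (· ≫ Y.hom.app X) (Y.left.map_id _)).trans (Category.id_comp _)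
  · intro Y m
    apply CostructuredArrow.hom_ext
    obtain ⟨μ, hμ⟩ : ∃ μ : Y.left ⟶ LF, μ = m.left := ⟨m.left, rfl⟩
    have hw := CostructuredArrow.w m
    have hw' : ∀ X, μ.app (L₀.obj X) ≫ LF.map (e₁.inv.app X) ≫ α.app (T.obj X) ≫ e₂.hom.app X =
        Y.hom.app X := fun X => by
      rw [hμ]
      exact congr(($hw).app X)
    rw [← hμ]
    show μ = LF.liftOfIsRightKanExtension (preα T LF α) Y.left (transβ T e₁ e₂ Y.left Y.hom)
    apply LF.hom_ext_of_isRightKanExtension (preα T LF α)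
    rw [liftOfIsRightKanExtension_fac]
    ext X
    show μ.app (L.obj (T.obj X)) ≫ α.app (T.obj X) =
      Y.left.map (e₁.hom.app X) ≫ Y.hom.app X ≫ e₂.inv.app X
    have hn := μ.naturality (e₁.hom.app X)
    have hn' : Y.left.map (e₁.hom.app X) ≫ μ.app (L₀.obj X) =
      μ.app (L.obj (T.obj X)) ≫ LF.map (e₁.hom.app X) := hn
    rw [← hw' X]
    simp only [Category.assoc]
    rw [reassoc_of% hn', ← LF.map_comp_assoc]
    have : e₁.hom.app X ≫ e₁.inv.app X = 𝟙 _ := Iso.hom_inv_id_app e₁ X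
    rw [this, Iso.hom_inv_id_app]
    have h5 : α.app (T.obj X) ≫ 𝟙 ((T ⋙ F).obj X) = α.app (T.obj X) := Category.comp_id _
    rw [h5]
    exact (congrArg (μ.app (L.obj (T.obj X)) ≫ ·)
      ((congrArg (· ≫ α.app (T.obj X)) (LF.map_id _)).trans (Category.id_comp _))).symm

end iso

end Groth.Agent.Lib.Helper36.KanPre
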