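import Mathlib
import Groth.Agent.Lib.Helper36.HasLeftDerived
import Groth.Agent.Lib.Helper36.KanPrecomp

/-!
Helper (helper36): left derived functors, along `Q : Cx(A) ⥤ D(A)`, of functors on cochain complexes
which identify homotopic maps: they exist and are computed on K-projective complexes.
-/

set_option autoImplicit false
universe u

open CategoryTheory CategoryTheory.Limits CochainComplex DerivedCategory

attribute [local instance] HasDerivedCategory.standard

namespace Groth.Agent.Lib.Helper36.LTCx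

open Groth.Agent.Lib.Helper36.KP Groth.Agent.Lib.Helper36.LT

section generic

variable {A : Type u} [Ring A] {H : Type*} [Category H] (F : Cx A ⥤ H)
  (hF : ∀ ⦃K L : Cx A⦄ (f g : K ⟶ L), Homotopy f g → F.map f = F.map g)

/-- The induced functor on the homotopy category. -/
noncomputable def liftK : KA A ⥤ H :=
  CategoryTheory.Quotient.lift _ F (fun _ _ f g h => hF f g h.some)

/-- The factorization. -/
noncomputable def liftKFac : HomotopyCategory.quotient _ _ ⋙ liftK F hF ≅ F :=
  Quotient.lift.isLift _ _ _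

/-- The candidate left derived functor. -/
noncomputable abbrev LF₀ : DA A ⥤ H := resFunctor (A := A) ⋙ liftK F hF

/-- Its counit. -/
noncomputable def α₀ : Q ⋙ LF₀ F hF ⟶ F :=
  KanPre.preαIso (HomotopyCategory.quotient _ _) (LF₀ F hF)
    (KanAdj.β (resAdj (A := A)) (F := liftK F hF)) (quotientCompQhIso (ModuleCat.{u} A))
    (liftKFac F hF)

instance isLeftDerivedFunctor_LF₀ :
    (LF₀ F hF).IsLeftDerivedFunctor (α₀ F hF)
      (HomologicalComplex.quasiIso (ModuleCat.{u} A) (ComplexShape.up ℤ)) := by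
  have h1 := KanAdj.isRightKanExtension_of_adjunction (resAdj (A := A)) (liftK F hF)
  exact ⟨KanPre.isRightKanExtension_precomp_iso (HomotopyCategory.quotient _ _) (LF₀ F hF)
    (KanAdj.β (resAdj (A := A)) (F := liftK F hF)) (quotientCompQhIso (ModuleCat.{u} A))
    (liftKFac F hF)⟩

include hF in
theorem hasLeftDerivedFunctor :
    F.HasLeftDerivedFunctor (HomologicalComplex.quasiIso (ModuleCat.{u} A) (ComplexShape.up ℤ)) :=
  Functor.HasLeftDerivedFunctor.mk' (LF₀ F hF) (α₀ F hF)

lemma isIso_α₀_app (P : Cx A) [P.IsKProjective] : IsIso ((α₀ F hF).app P) := by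
  have h1 := KanAdj.isRightKanExtension_of_adjunction (resAdj (A := A)) (liftK F hF)
  have : (LF₀ F hF).IsLeftDerivedFunctor (KanAdj.β (resAdj (A := A)) (F := liftK F hF))
      (HomotopyCategory.quasiIso (ModuleCat.{u} A) (ComplexShape.up ℤ)) := ⟨h1⟩
  have h2 := isIso_counit_app_of_isKProjective (liftK F hF) (LF₀ F hF)
    (KanAdj.β (resAdj (A := A)) (F := liftK F hF)) P
  show IsIso ((LF₀ F hF).map ((quotientCompQhIso (ModuleCat.{u} A)).inv.app P) ≫
    (KanAdj.β (resAdj (A := A)) (F := liftK F hF)).app (toK P) ≫ (liftKFac F hF).hom.app P)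
  infer_instance

include hF in
/-- **Left derived functors along `Q` are computed on K-projective complexes.** -/
theorem isIso_counit_app (LF : DA A ⥤ H) (α : Q ⋙ LF ⟶ F)
    [LF.IsLeftDerivedFunctor α (HomologicalComplex.quasiIso (ModuleCat.{u} A) (ComplexShape.up ℤ))]
    (P : Cx A) [P.IsKProjective] : IsIso (α.app P) := by
  have h := Functor.leftDerivedNatTrans_app LF (LF₀ F hF) α (α₀ F hF)
    (HomologicalComplex.quasiIso (ModuleCat.{u} A) (ComplexShape.up ℤ)) (𝟙 F) P
  have hiso : IsIso (Functor.leftDerivedNatTrans LF (LF₀ F hF) α (α₀ F hF)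
      (HomologicalComplex.quasiIso (ModuleCat.{u} A) (ComplexShape.up ℤ)) (𝟙 F)) :=
    (Functor.leftDerivedNatIso LF (LF₀ F hF) α (α₀ F hF)
      (HomologicalComplex.quasiIso (ModuleCat.{u} A) (ComplexShape.up ℤ)) (Iso.refl F)).isIso_hom
  have := isIso_α₀_app F hF P
  have h' : α.app P = (Functor.leftDerivedNatTrans LF (LF₀ F hF) α (α₀ F hF)
      (HomologicalComplex.quasiIso (ModuleCat.{u} A) (ComplexShape.up ℤ)) (𝟙 F)).app (Q.obj P) ≫
      (α₀ F hF).app P := by
    rw [h]
    simp
  rw [h']
  infer_instance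

end generic

end Groth.Agent.Lib.Helper36.LTCx
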