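import Mathlib
import Groth.Prelude.Def_DRing4
import Groth.Agent.Lib.Helper36.CxLeftDerived

/-!
Helper (helper36): `DRing.LTensorCx A E` (derived tensor product with a complex) exists and is computed
by the plain tensor product on K-projective complexes.
-/

set_option autoImplicit false
universe u

open CategoryTheory CategoryTheory.Limits CochainComplex DerivedCategory MonoidalCategory

attribute [local instance] HasDerivedCategory.standard

namespace Groth.Agent.Lib.Helper36.LTCx

open Groth.Agent.Lib.Helper36.KP Groth.Agent.Lib.Helper36.LT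

variable {A : Type u} [CommRing A] (E : Cx A)

/-- Tensoring on the right preserves homotopies. -/
noncomputable def whiskerRightHomotopy {K L : Cx A} {f g : K ⟶ L} (h : Homotopy f g) :
    Homotopy (f ▷ E) (g ▷ E) :=
  HomologicalComplex.mapBifunctorMapHomotopy₁ h (𝟙 E) (curriedTensor (ModuleCat.{u} A))
    (ComplexShape.up ℤ)

/-- Tensoring on the left preserves homotopies. -/
noncomputable def whiskerLeftHomotopy {K L : Cx A} {f g : K ⟶ L} (h : Homotopy f g) :
    Homotopy (E ◁ f) (E ◁ g) :=
  HomologicalComplex.mapBifunctorMapHomotopy₂ (𝟙 E) h (curriedTensor (ModuleCat.{u} A))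
    (ComplexShape.up ℤ)

lemma tensorCxQ_map_eq_of_homotopy ⦃K L : Cx A⦄ (f g : K ⟶ L) (h : Homotopy f g) :
    (DRing.tensorCxQ A E).map f = (DRing.tensorCxQ A E).map g :=
  Q_map_eq_of_homotopy _ (whiskerRightHomotopy E h)

/-- The derived tensor product with a complex always exists. -/
theorem hasLTensorCx : DRing.HasLTensorCx A E :=
  hasLeftDerivedFunctor (DRing.tensorCxQ A E) (tensorCxQ_map_eq_of_homotopy E)

/-- `K ⊗^L E` is computed by the plain tensor product when `K` is K-projective. -/
noncomputable def lTensorCxObjIso [DRing.HasLTensorCx A E] (P : Cx A) [P.IsKProjective] :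
    (DRing.LTensorCx A E).obj (Q.obj P) ≅ Q.obj (P ⊗ E) :=
  have := isIso_counit_app (DRing.tensorCxQ A E) (tensorCxQ_map_eq_of_homotopy E)
    (DRing.LTensorCx A E)
    ((DRing.tensorCxQ A E).totalLeftDerivedCounit Q
      (HomologicalComplex.quasiIso (ModuleCat.{u} A) (ComplexShape.up ℤ))) P
  asIso (((DRing.tensorCxQ A E).totalLeftDerivedCounit Q
      (HomologicalComplex.quasiIso (ModuleCat.{u} A) (ComplexShape.up ℤ))).app P)

end Groth.Agent.Lib.Helper36.LTCx
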