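import Mathlib
import Groth.Agent.Lib.Helper36.HomCxAdj3
import Groth.Agent.Lib.Helper99.KInjDerC

/-!
# Computing `DRing.RHomCx` (helper36)

Namespace `Groth.Agent.Lib.Helper36.RHC`.

* `rhomCxObjIso K I : (RHomCx K).obj (Q I) ≅ Q (Hom•(K, I))` for `I` K-injective;
* `nonempty_rhomCx_iso_of_isKProjective` : `(RHomCx P).obj (Q L) ≅ Q (Hom•(P, L))` for `P`
  K-projective.
-/

set_option autoImplicit false
universe u
open CategoryTheory CategoryTheory.Limits MonoidalCategory HomologicalComplex CochainComplex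
attribute [local instance] HasDerivedCategory.standard

namespace Groth.Agent.Lib.Helper36.RHC

open Groth.Agent.Lib.Helper36.HCA DerivedCategory

variable {A : Type u} [CommRing A]

lemma homCxQ_inverts (K : DRing.Cx A) :
    (HomologicalComplex.homotopyEquivalences (ModuleCat.{u} A) (ComplexShape.up ℤ)).IsInvertedBy
      (DRing.homCxQ K) := by
  rintro L L' f ⟨e, rfl⟩
  refine ⟨Q.map (DRing.homCxMap K e.inv), ?_, ?_⟩
  · show Q.map (DRing.homCxMap K e.hom) ≫ Q.map (DRing.homCxMap K e.inv) = 𝟙 _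
    have h : DRing.homCxMap K e.hom ≫ DRing.homCxMap K e.inv =
        DRing.homCxMap K (e.hom ≫ e.inv) := ((DRing.homCxFunctor K).map_comp _ _).symm
    have h' : DRing.homCxMap K (𝟙 L) = 𝟙 _ := (DRing.homCxFunctor K).map_id L
    rw [← Functor.map_comp, h, ← Q.map_id, ← h']
    exact DerivedCategory.Q_map_eq_of_homotopy _ (homotopyHomCxMap K e.homotopyHomInvId)
  · show Q.map (DRing.homCxMap K e.inv) ≫ Q.map (DRing.homCxMap K e.hom) = 𝟙 _
    have h : DRing.homCxMap K e.inv ≫ DRing.homCxMap K e.hom =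
        DRing.homCxMap K (e.inv ≫ e.hom) := ((DRing.homCxFunctor K).map_comp _ _).symm
    have h' : DRing.homCxMap K (𝟙 L') = 𝟙 _ := (DRing.homCxFunctor K).map_id L'
    rw [← Functor.map_comp, h, ← Q.map_id, ← h']
    exact DerivedCategory.Q_map_eq_of_homotopy _ (homotopyHomCxMap K e.homotopyInvHomId)

/-- the unit of the derived functor `RHomCx K` -/
noncomputable abbrev rhomCxUnit (K : DRing.Cx A) [DRing.HasRHomCx K] :
    DRing.homCxQ K ⟶ Q ⋙ DRing.RHomCx K :=
  (DRing.homCxQ K).totalRightDerivedUnit Q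
    (HomologicalComplex.quasiIso (ModuleCat.{u} A) (ComplexShape.up ℤ))

instance isIso_rhomCxUnit_app (K I : DRing.Cx A) [DRing.HasRHomCx K] [I.IsKInjective] :
    IsIso ((rhomCxUnit K).app I) :=
  Groth.Agent.Lib.Helper99.KInj.isIso_app_of_kInjC (DRing.homCxQ K) (homCxQ_inverts K)
    (DRing.RHomCx K) (rhomCxUnit K) I

/-- `RHomCx K` is computed by the Hom complex on K-injective complexes -/
noncomputable def rhomCxObjIso (K I : DRing.Cx A) [DRing.HasRHomCx K] [I.IsKInjective] :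
    (DRing.RHomCx K).obj (Q.obj I) ≅ Q.obj (DRing.homCx K I) :=
  (asIso ((rhomCxUnit K).app I)).symm

/-- `RHomCx P` is computed by the Hom complex for `P` K-projective -/
theorem nonempty_rhomCx_iso_of_isKProjective (P : DRing.Cx A) [P.IsKProjective]
    [DRing.HasRHomCx P] (L : DRing.Cx A) :
    Nonempty ((DRing.RHomCx P).obj (Q.obj L) ≅ Q.obj (DRing.homCx P L)) := by
  obtain ⟨I, j, hI, hj, -, -⟩ := Groth.Agent.Lib.Helper99.KInj.exists_kInjective_resolution L
  have := hI
  have := hj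
  have h1 : IsIso (Q.map j : (Q.obj L : Dual.D A) ⟶ _) :=
    (DerivedCategory.isIso_Q_map_iff_quasiIso (ModuleCat.{u} A) j).2 hj
  have h2 : QuasiIso (DRing.homCxMap P j) := quasiIso_homCxMap P j
  have h3 : IsIso (Q.map (DRing.homCxMap P j) : (Q.obj (DRing.homCx P L) : Dual.D A) ⟶ _) :=
    (DerivedCategory.isIso_Q_map_iff_quasiIso (ModuleCat.{u} A) _).2 h2
  exact ⟨(DRing.RHomCx P).mapIso (asIso (Q.map j)) ≪≫ rhomCxObjIso P I ≪≫
    (asIso (Q.map (DRing.homCxMap P j))).symm⟩

end Groth.Agent.Lib.Helper36.RHC
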