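import Mathlib
import Groth.Prelude.Def_DRing4

/-!
# `Hom•(K, -)` as a dg-functor, and mapping cones (helper36)

Namespace `Groth.Agent.Lib.Helper36.RDG`.

* `post K γ : Cochain (Hom•(K,L)) (Hom•(K,L')) d` for `γ : Cochain L L' d` (postcomposition), with
  `δ_post` (no sign), `post_comp`, `post_ofHom`;
* `coneIso K φ : mappingCone (homCxMap K φ) ≅ Hom•(K, mappingCone φ)`.
-/

set_option autoImplicit false
universe u
open CategoryTheory CategoryTheory.Limits HomologicalComplex CochainComplex
open HomComplex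

namespace Groth.Agent.Lib.Helper36.RDG

variable {A : Type u} [CommRing A] (K : DRing.Cx A) {L L' L'' : DRing.Cx A}

/-- postcomposition with a cochain, as a linear map -/
noncomputable def postLin {d : ℤ} (γ : Cochain L L' d) (p q : ℤ) (h : p + d = q) :
    Cochain K L p →ₗ[A] Cochain K L' q where
  toFun z := z.comp γ h
  map_add' z z' := Cochain.add_comp _ _ _ _
  map_smul' a z := Cochain.smul_comp _ _ _ _

/-- postcomposition with a cochain, as a cochain between Hom complexes -/
noncomputable def post {d : ℤ} (γ : Cochain L L' d) :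
    Cochain (DRing.homCx K L) (DRing.homCx K L') d :=
  Cochain.mk (fun p q h => ModuleCat.ofHom (postLin K γ p q h))

lemma post_v {d : ℤ} (γ : Cochain L L' d) (p q : ℤ) (h : p + d = q) :
    (post K γ).v p q h = ModuleCat.ofHom (postLin K γ p q h) := rfl

lemma post_ext {d : ℤ} {c c' : Cochain (DRing.homCx K L) (DRing.homCx K L') d}
    (h : ∀ (p q : ℤ) (hpq : p + d = q) (z : Cochain K L p),
      ((c.v p q hpq).hom z : Cochain K L' q) = (c'.v p q hpq).hom z) : c = c' := by
  refine Cochain.ext _ _ (fun p q hpq => ?_)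
  exact ModuleCat.hom_ext (LinearMap.ext fun (z : Cochain K L p) => h p q hpq z)

lemma post_ofHom (f : L ⟶ L') : post K (Cochain.ofHom f) = Cochain.ofHom (DRing.homCxMap K f) := by
  refine post_ext K (fun p q hpq z => ?_)
  obtain rfl : p = q := by omega
  rw [Cochain.ofHom_v]
  rfl

lemma post_zero (d : ℤ) : post K (0 : Cochain L L' d) = 0 := by
  refine post_ext K (fun p q hpq z => ?_)
  show z.comp (0 : Cochain L L' d) hpq = 0
  exact Cochain.comp_zero _ _

lemma post_add {d : ℤ} (γ γ' : Cochain L L' d) : post K (γ + γ') = post K γ + post K γ' := by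
  refine post_ext K (fun p q hpq z => ?_)
  show z.comp (γ + γ') hpq = _
  rw [Cochain.comp_add, Cochain.add_v]
  rfl

lemma post_neg {d : ℤ} (γ : Cochain L L' d) : post K (-γ) = -post K γ := by
  refine post_ext K (fun p q hpq z => ?_)
  show z.comp (-γ) hpq = _
  rw [Cochain.comp_neg, Cochain.neg_v]
  rfl

lemma post_comp {d d' e : ℤ} (γ : Cochain L L' d) (γ' : Cochain L' L'' d') (h : d + d' = e) :
    post K (γ.comp γ' h) = (post K γ).comp (post K γ') h := by
  refine post_ext K (fun p q hpq z => ?_)
  rw [Cochain.comp_v _ _ h p (p + d) q rfl (by omega)]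
  show z.comp (γ.comp γ' h) hpq = (z.comp γ rfl).comp γ' (by omega)
  rw [Cochain.comp_assoc _ _ _ rfl h (by omega)]

lemma δ_post {d e : ℤ} (γ : Cochain L L' d) (h : d + 1 = e) :
    δ d e (post K γ) = post K (δ d e γ) := by
  subst h
  refine post_ext K (fun p q hpq z => ?_)
  rw [δ_v d (d + 1) rfl _ p q hpq (q - 1) (p + 1) rfl rfl]
  show δ (q - 1) q (z.comp γ (by omega)) + (d + 1).negOnePow • (δ p (p + 1) z).comp γ (by omega) =
    z.comp (δ d (d + 1) γ) hpq
  rw [δ_comp z γ (show p + d = q - 1 by omega) (p + 1) (d + 1) q (by omega) rfl rfl,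
    Int.negOnePow_succ, Units.neg_smul, add_assoc, add_neg_cancel, add_zero]

variable {M N : DRing.Cx A} (φ : M ⟶ N)

/-- the comparison map `Cone(Hom•(K, φ)) ⟶ Hom•(K, Cone φ)` -/
noncomputable def coneHom :
    mappingCone (DRing.homCxMap K φ) ⟶ DRing.homCx K (mappingCone φ) :=
  mappingCone.desc (DRing.homCxMap K φ) (post K (mappingCone.inl φ))
    (DRing.homCxMap K (mappingCone.inr φ)) (by
      rw [δ_post K _ (neg_add_cancel 1), mappingCone.δ_inl, post_ofHom]
      exact congrArg Cochain.ofHom ((DRing.homCxFunctor K).map_comp φ (mappingCone.inr φ)))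

lemma post_fst_mem : δ 1 2 (post K (mappingCone.fst φ).1) = 0 := by
  rw [δ_post K _ (by norm_num), Cocycle.δ_eq_zero, post_zero]

/-- the comparison map `Hom•(K, Cone φ) ⟶ Cone(Hom•(K, φ))` -/
noncomputable def coneInv :
    DRing.homCx K (mappingCone φ) ⟶ mappingCone (DRing.homCxMap K φ) :=
  mappingCone.lift (DRing.homCxMap K φ)
    (Cocycle.mk (post K (mappingCone.fst φ).1) 2 (by norm_num) (post_fst_mem K φ))
    (post K (mappingCone.snd φ)) (by
      rw [δ_post K _ (zero_add 1), mappingCone.δ_snd, post_neg, post_comp, post_ofHom]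
      exact neg_add_cancel _)

lemma coneInv_coneHom : coneInv K φ ≫ coneHom K φ = 𝟙 _ := by
  apply Cochain.ofHom_injective
  rw [Cochain.ofHom_comp]
  dsimp only [coneInv, coneHom]
  rw [mappingCone.ofHom_lift, mappingCone.ofHom_desc,
    mappingCone.liftCochain_descCochain _ _ _ _ _ (zero_add 1) (neg_add_cancel 1) 0 (add_zero 0)]
  rw [Cocycle.mk_coe, ← post_ofHom, ← post_comp, ← post_comp, ← post_add, mappingCone.id, post_ofHom]
  exact congrArg Cochain.ofHom ((DRing.homCxFunctor K).map_id _)

lemma coneHom_coneInv : coneHom K φ ≫ coneInv K φ = 𝟙 _ := by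
  apply Cochain.ofHom_injective
  rw [Cochain.ofHom_comp]
  rw [mappingCone.ext_cochain_from_iff _ (-1) 0 (neg_add_cancel 1)]
  have hinl : (mappingCone.inl (DRing.homCxMap K φ)).comp (Cochain.ofHom (coneHom K φ))
      (add_zero _) = post K (mappingCone.inl φ) := mappingCone.inl_desc _ _ _ _
  have hinr : (Cochain.ofHom (mappingCone.inr (DRing.homCxMap K φ))).comp
      (Cochain.ofHom (coneHom K φ)) (add_zero _) =
      Cochain.ofHom (DRing.homCxMap K (mappingCone.inr φ)) := by
    rw [← Cochain.ofHom_comp]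
    exact congrArg Cochain.ofHom (mappingCone.inr_desc _ _ _ _)
  have hfst : (Cochain.ofHom (coneInv K φ)).comp (mappingCone.fst (DRing.homCxMap K φ)).1
      (zero_add 1) = post K (mappingCone.fst φ).1 := mappingCone.lift_fst _ _ _ _
  have hsnd : (Cochain.ofHom (coneInv K φ)).comp (mappingCone.snd (DRing.homCxMap K φ))
      (zero_add 0) = post K (mappingCone.snd φ) := mappingCone.lift_snd _ _ _ _
  constructor
  · rw [← Cochain.comp_assoc_of_second_is_zero_cochain, hinl, Cochain.comp_id,
      mappingCone.ext_cochain_to_iff _ (-1) 0 (neg_add_cancel 1)]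
    constructor
    · rw [Cochain.comp_assoc_of_second_is_zero_cochain, hfst, ← post_comp, mappingCone.inl_fst,
        mappingCone.inl_fst, post_ofHom]
      exact congrArg Cochain.ofHom ((DRing.homCxFunctor K).map_id _)
    · rw [Cochain.comp_assoc_of_second_is_zero_cochain, hsnd, ← post_comp, mappingCone.inl_snd,
        mappingCone.inl_snd, post_zero]
  · rw [← Cochain.comp_assoc_of_second_is_zero_cochain, hinr, Cochain.comp_id,
      mappingCone.ext_cochain_to_iff _ 0 1 (zero_add 1)]
    constructor
    · rw [Cochain.comp_assoc_of_second_is_zero_cochain, hfst, ← post_ofHom, ← post_comp,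
        mappingCone.inr_fst, mappingCone.inr_fst, post_zero]
    · rw [Cochain.comp_assoc_of_second_is_zero_cochain, hsnd, ← post_ofHom, ← post_comp,
        mappingCone.inr_snd, mappingCone.inr_snd, post_ofHom]
      exact congrArg Cochain.ofHom ((DRing.homCxFunctor K).map_id _)

/-- `Cone(Hom•(K, φ)) ≅ Hom•(K, Cone φ)` -/
noncomputable def coneIso :
    mappingCone (DRing.homCxMap K φ) ≅ DRing.homCx K (mappingCone φ) where
  hom := coneHom K φ
  inv := coneInv K φ
  hom_inv_id := coneHom_coneInv K φ
  inv_hom_id := coneInv_coneHom K φ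

lemma inr_coneIso_hom :
    mappingCone.inr (DRing.homCxMap K φ) ≫ (coneIso K φ).hom =
      DRing.homCxMap K (mappingCone.inr φ) := by
  dsimp only [coneIso, coneHom]
  exact mappingCone.inr_desc _ _ _ _

end Groth.Agent.Lib.Helper36.RDG
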