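import Mathlib
import Groth.Agent.Lib.Helper36.RHomCxCompute
import Groth.Agent.Lib.Helper36.RHomCxDG
import Groth.Agent.Lib.Helper36.KInjBasics
import Groth.Agent.Lib.Helper36.LTensorCxCompute
import Groth.Agent.Lib.Helper36.FLocal
import Groth.Agent.Lib.Helper36.DerivedCompletionFormal

/-!
# `RHomCx K` : linearity, weak exactness, `f`-local test objects (helper36)

Namespace `Groth.Agent.Lib.Helper36.RHT`.
-/

set_option autoImplicit false
universe u
open CategoryTheory CategoryTheory.Limits MonoidalCategory HomologicalComplex CochainComplex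
open CategoryTheory.Pretriangulated
attribute [local instance] HasDerivedCategory.standard

namespace Groth.Agent.Lib.Helper36.RHT

open Groth.Agent.Lib.Helper36.HCA Groth.Agent.Lib.Helper36.RHC Groth.Agent.Lib.Helper36.KIB
open Groth.Agent.Lib.Helper36.RDG DerivedCategory

variable {A : Type u} [CommRing A] (K : DRing.Cx A)

lemma homCxMap_smul_id (f : A) (J : DRing.Cx A) :
    DRing.homCxMap K (f • 𝟙 J) = f • 𝟙 (DRing.homCx K J) := by
  refine HomologicalComplex.hom_ext _ _ fun i =>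
    ModuleCat.hom_ext (LinearMap.ext fun (z : HomComplex.Cochain K J i) => ?_)
  show z.comp (HomComplex.Cochain.ofHom (f • 𝟙 J)) (add_zero i) = f • z
  ext p q hpq
  rw [HomComplex.Cochain.comp_zero_cochain_v, HomComplex.Cochain.ofHom_v,
    HomComplex.Cochain.smul_v]
  simp

lemma whiskerRight_smul_id (f : A) (P : DRing.Cx A) :
    (f • 𝟙 P) ▷ K = f • 𝟙 (P ⊗ K) := by
  refine HomologicalComplex.hom_ext _ _ fun n => ?_
  apply mapBifunctor.hom_ext
  intro p q hpq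
  have hpq' : p + q = n := hpq
  have h1 := Groth.Agent.Lib.Helper36.CxPairing.ι_whiskerRight_f (f • 𝟙 P) K p q n hpq'
  refine h1.trans ?_
  simp
  exact congrArg (f • ·) (Category.comp_id _).symm

open Groth.Agent.Lib.Helper46.DTenKProj in
/-- if `f` is invertible on `Q P` (`P` K-projective) then it is invertible on `Q (P ⊗ K)` -/
lemma isIso_smul_tensor (f : A) (P : DRing.Cx A) [P.IsKProjective]
    (h : IsIso (f • 𝟙 (Q.obj P : Dual.D A))) : IsIso (f • 𝟙 (Q.obj (P ⊗ K) : Dual.D A)) := by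
  obtain ⟨v, hv⟩ := exists_Q_map_eq (S := P) (L := P) (inv (f • 𝟙 (Q.obj P : Dual.D A)))
  have hfQ : (Q.map (f • 𝟙 P) : (Q.obj P : Dual.D A) ⟶ _) = f • 𝟙 _ := by
    rw [Functor.map_smul, CategoryTheory.Functor.map_id]
  have h1 : (Q.map (v ≫ (f • 𝟙 P)) : (Q.obj P : Dual.D A) ⟶ _) = Q.map (𝟙 P) := by
    rw [Functor.map_comp, hv, hfQ, IsIso.inv_hom_id, CategoryTheory.Functor.map_id]
  have h2 : (Q.map ((f • 𝟙 P) ≫ v) : (Q.obj P : Dual.D A) ⟶ _) = Q.map (𝟙 P) := by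
    rw [Functor.map_comp, hv, hfQ, IsIso.hom_inv_id, CategoryTheory.Functor.map_id]
  obtain ⟨H1⟩ := nonempty_homotopy_of_Q_map_eq _ _ h1
  obtain ⟨H2⟩ := nonempty_homotopy_of_Q_map_eq _ _ h2
  have e1 := DerivedCategory.Q_map_eq_of_homotopy (ModuleCat.{u} A)
    (Groth.Agent.Lib.Helper36.LTCx.whiskerRightHomotopy K H1)
  have e2 := DerivedCategory.Q_map_eq_of_homotopy (ModuleCat.{u} A)
    (Groth.Agent.Lib.Helper36.LTCx.whiskerRightHomotopy K H2)
  rw [MonoidalCategory.comp_whiskerRight, whiskerRight_smul_id, MonoidalCategory.id_whiskerRight,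
    Functor.map_comp, Functor.map_smul, CategoryTheory.Functor.map_id] at e1
  rw [MonoidalCategory.comp_whiskerRight, whiskerRight_smul_id, MonoidalCategory.id_whiskerRight,
    Functor.map_comp, Functor.map_smul, CategoryTheory.Functor.map_id] at e2
  exact ⟨Q.map (v ▷ K), e2, e1⟩

lemma isIso_smul_away (f : A) : IsIso (f • 𝟙 (ModuleCat.of A (Localization.Away f))) := by
  refine ⟨ModuleCat.ofHom (LinearMap.mulLeft A
    (IsLocalization.Away.invSelf (S := Localization.Away f) f)), ?_, ?_⟩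
  · ext x
    simp only [ModuleCat.hom_comp, ModuleCat.hom_ofHom, LinearMap.comp_apply, ModuleCat.hom_smul,
      ModuleCat.hom_id, LinearMap.smul_apply, LinearMap.id_apply, LinearMap.mulLeft_apply]
    rw [Algebra.smul_def, ← mul_assoc, mul_comm _ (algebraMap A _ f),
      IsLocalization.Away.mul_invSelf, one_mul]
  · ext x
    simp only [ModuleCat.hom_comp, ModuleCat.hom_ofHom, LinearMap.comp_apply, ModuleCat.hom_smul,
      ModuleCat.hom_id, LinearMap.smul_apply, LinearMap.id_apply, LinearMap.mulLeft_apply]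
    rw [Algebra.smul_def, ← mul_assoc, IsLocalization.Away.mul_invSelf, one_mul]

lemma isIso_smul_inD_away (f : A) : IsIso (f • 𝟙 (Dual.inD A (Localization.Away f))) := by
  have h := isIso_smul_away f
  have h2 : f • 𝟙 (Dual.inD A (Localization.Away f)) =
      (DerivedCategory.singleFunctor (ModuleCat.{u} A) 0).map
        (f • 𝟙 (ModuleCat.of A (Localization.Away f))) := by
    rw [Functor.map_smul, CategoryTheory.Functor.map_id]
  rw [h2]
  infer_instance

open Groth.Agent.Lib.Helper36.DC in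
/-- an object is `f`-complete as soon as it receives no nonzero map from an `f`-local object -/
lemma seqComplete_of_flocal_hom_eq_zero (f : A) (Y : Dual.D A)
    (h : ∀ (X : Dual.D A), IsIso (f • 𝟙 X) → ∀ ψ : X ⟶ Y, ψ = 0) :
    ∀ i : ℤ, SeqComplete f (Dual.HD A Y i) := by
  rw [← forall_subsingleton_hom_iff]
  intro n
  suffices h0 : ∀ a : Dual.inD A (Localization.Away f) ⟶ Y⟦n⟧, a = 0 from
    ⟨fun a b => (h0 a).trans (h0 b).symm⟩
  intro a
  have hW : IsIso (f • 𝟙 ((Dual.inD A (Localization.Away f))⟦-n⟧)) := by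
    have h1 := isIso_smul_inD_away f
    have h2 : f • 𝟙 ((Dual.inD A (Localization.Away f))⟦-n⟧) =
        (CategoryTheory.shiftFunctor (Dual.D A) (-n)).map
          (f • 𝟙 (Dual.inD A (Localization.Away f))) := by
      rw [Functor.map_smul, CategoryTheory.Functor.map_id]
    rw [h2]
    infer_instance
  have h3 := h _ hW ((CategoryTheory.shiftFunctor (Dual.D A) (-n)).map a ≫
    (shiftFunctorCompIsoId (Dual.D A) n (-n) (add_neg_cancel n)).hom.app Y)
  have h4 : (CategoryTheory.shiftFunctor (Dual.D A) (-n)).map a = 0 := by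
    rw [← cancel_mono ((shiftFunctorCompIsoId (Dual.D A) n (-n) (add_neg_cancel n)).hom.app Y),
      h3, zero_comp]
  apply (CategoryTheory.shiftFunctor (Dual.D A) (-n)).map_injective
  rw [h4, Functor.map_zero]

variable [DRing.HasRHomCx K]

/-- the unit of `RHomCx K` at a complex -/
noncomputable def uApp (J : DRing.Cx A) :
    (Q.obj (DRing.homCx K J) : Dual.D A) ⟶ (DRing.RHomCx K).obj (Q.obj J) :=
  (rhomCxUnit K).app J

instance isIso_uApp (J : DRing.Cx A) [J.IsKInjective] : IsIso (uApp K J) :=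
  isIso_rhomCxUnit_app K J

lemma uApp_naturality {J J' : DRing.Cx A} (φ : J ⟶ J') :
    Q.map (DRing.homCxMap K φ) ≫ uApp K J' = uApp K J ≫ (DRing.RHomCx K).map (Q.map φ) :=
  (rhomCxUnit K).naturality φ

lemma map_Q_map {J J' : DRing.Cx A} [J.IsKInjective] (φ : J ⟶ J') :
    (DRing.RHomCx K).map (Q.map φ) =
      inv (uApp K J) ≫ Q.map (DRing.homCxMap K φ) ≫ uApp K J' := by
  rw [uApp_naturality, IsIso.inv_hom_id_assoc]

/-- `RHomCx K` is compatible with multiplication by scalars on identities -/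
theorem map_smul_id (f : A) (X : Dual.D A) :
    (DRing.RHomCx K).map (f • 𝟙 X) = f • 𝟙 ((DRing.RHomCx K).obj X) := by
  obtain ⟨J, hJ, ⟨e⟩⟩ := exists_kinj_iso X
  have := hJ
  have h1 : f • 𝟙 X = e.inv ≫ Q.map (f • 𝟙 J) ≫ e.hom := by
    rw [Functor.map_smul, CategoryTheory.Functor.map_id, Linear.smul_comp, Linear.comp_smul,
      Category.id_comp, e.inv_hom_id]
  rw [h1, Functor.map_comp, Functor.map_comp, map_Q_map, homCxMap_smul_id, Functor.map_smul,
    CategoryTheory.Functor.map_id, Linear.smul_comp, Linear.comp_smul, Category.id_comp,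
    IsIso.inv_hom_id, Linear.smul_comp, Linear.comp_smul, Category.id_comp,
    ← Functor.map_comp, e.inv_hom_id, CategoryTheory.Functor.map_id]

open Groth.Agent.Lib.Helper46.DTenKProj Groth.Agent.Lib.Helper36.DC in
/-- maps from an `f`-local object to `Hom•(K, J)`, `J` K-injective and `f`-complete, vanish -/
theorem hom_eq_zero_of_flocal (f : A) (J : DRing.Cx A) [J.IsKInjective]
    (hJ : ∀ i : ℤ, SeqComplete f (Dual.HD A (Q.obj J) i))
    (X : Dual.D A) (hX : IsIso (f • 𝟙 X)) (ψ : X ⟶ Q.obj (DRing.homCx K J)) : ψ = 0 := by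
  obtain ⟨P, hP, ⟨eP⟩⟩ := exists_kproj_iso X
  have := hP
  have hfP : IsIso (f • 𝟙 (Q.obj P : Dual.D A)) := by
    have h1 : f • 𝟙 (Q.obj P : Dual.D A) = eP.hom ≫ (f • 𝟙 X) ≫ eP.inv := by
      rw [Linear.smul_comp, Linear.comp_smul, Category.id_comp, eP.hom_inv_id]
    rw [h1]
    infer_instance
  have hPK := isIso_smul_tensor K f P hfP
  obtain ⟨χ, hχ⟩ := exists_Q_map_eq (S := P) (eP.hom ≫ ψ)
  have h0 : (Q.map (uncurry χ) : (Q.obj (P ⊗ K) : Dual.D A) ⟶ Q.obj J) = 0 :=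
    hom_eq_zero_of_isIso_smul _ _ hPK hJ _
  obtain ⟨H⟩ := Groth.Agent.Lib.Helper36.KIB.nonempty_homotopy_of_Q_map_eq (uncurry χ) 0
    (by rw [h0, Functor.map_zero])
  have H' : Homotopy χ 0 := (Homotopy.ofEq (curry_uncurry χ).symm).trans
    ((homotopyCurry H).trans (Homotopy.ofEq curry_zero))
  have h2 : (Q.map χ : (Q.obj P : Dual.D A) ⟶ _) = 0 := by
    rw [DerivedCategory.Q_map_eq_of_homotopy _ H', Functor.map_zero]
  rw [← cancel_epi eP.hom, ← hχ, h2, comp_zero]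

open Groth.Agent.Lib.Helper36.DC in
/-- `RHomCx K` preserves `f`-complete objects -/
theorem seqComplete_rhomCx (f : A) (E : Dual.D A)
    (hE : ∀ i : ℤ, SeqComplete f (Dual.HD A E i)) :
    ∀ i : ℤ, SeqComplete f (Dual.HD A ((DRing.RHomCx K).obj E) i) := by
  obtain ⟨J, hJ, ⟨e⟩⟩ := exists_kinj_iso E
  have := hJ
  have hJc : ∀ i : ℤ, SeqComplete f (Dual.HD A (Q.obj J) i) := fun i =>
    (hE i).of_linearEquiv
      ((DerivedCategory.homologyFunctor (ModuleCat.{u} A) i).mapIso e.symm).toLinearEquiv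
  let w : (DRing.RHomCx K).obj E ≅ Q.obj (DRing.homCx K J) :=
    (DRing.RHomCx K).mapIso e.symm ≪≫ (asIso (uApp K J)).symm
  apply seqComplete_of_flocal_hom_eq_zero
  intro X hX ψ
  have h1 := hom_eq_zero_of_flocal K f J hJc X hX (ψ ≫ w.hom)
  rw [← cancel_mono w.hom, h1, zero_comp]

/-- `RHomCx K` preserves derived complete objects -/
theorem isDerivedComplete_rhomCx (I : Ideal A) (E : Dual.D A)
    (hE : DRing.IsDerivedComplete I E) :
    DRing.IsDerivedComplete I ((DRing.RHomCx K).obj E) := by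
  rw [Groth.Agent.Lib.Helper36.DCF.isDerivedComplete_iff_HD] at hE ⊢
  intro f hf
  exact seqComplete_rhomCx K f E (hE f hf)

/-- weak exactness of `RHomCx K`: every morphism `η` of `D(A)` sits in a distinguished triangle
whose image has first map `RHomCx K η`, third object `RHomCx K Z`, and is distinguished -/
theorem exists_distTriang {X Y : Dual.D A} (η : X ⟶ Y) :
    ∃ (Z : Dual.D A) (β : Y ⟶ Z) (γ : Z ⟶ X⟦(1 : ℤ)⟧)
      (β' : (DRing.RHomCx K).obj Y ⟶ (DRing.RHomCx K).obj Z)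
      (γ' : (DRing.RHomCx K).obj Z ⟶ ((DRing.RHomCx K).obj X)⟦(1 : ℤ)⟧),
      Triangle.mk η β γ ∈ distTriang (Dual.D A) ∧
        Triangle.mk ((DRing.RHomCx K).map η) β' γ' ∈ distTriang (Dual.D A) := by
  obtain ⟨J₁, hJ₁, ⟨e₁⟩⟩ := exists_kinj_iso X
  obtain ⟨J₂, hJ₂, ⟨e₂⟩⟩ := exists_kinj_iso Y
  have := hJ₁
  have := hJ₂
  obtain ⟨φ, hφ⟩ := exists_map_of_isKInjective J₁ J₂ (e₁.hom ≫ η ≫ e₂.inv)
  let ψ := DRing.homCxMap K φ
  obtain ⟨b₀, c₀, hT₀⟩ : ∃ (b₀ : (Q.obj J₂ : Dual.D A) ⟶ Q.obj (mappingCone φ))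
      (c₀ : (Q.obj (mappingCone φ) : Dual.D A) ⟶ (Q.obj J₁)⟦(1 : ℤ)⟧),
      Triangle.mk (Q.map φ) b₀ c₀ ∈ distTriang (Dual.D A) :=
    ⟨_, _, DerivedCategory.mappingCone_triangle_distinguished φ⟩
  obtain ⟨b₁, c₁, hT₁⟩ : ∃ (b₁ : (Q.obj (DRing.homCx K J₂) : Dual.D A) ⟶ Q.obj (mappingCone ψ))
      (c₁ : (Q.obj (mappingCone ψ) : Dual.D A) ⟶ (Q.obj (DRing.homCx K J₁))⟦(1 : ℤ)⟧),
      Triangle.mk (Q.map ψ) b₁ c₁ ∈ distTriang (Dual.D A) :=
    ⟨_, _, DerivedCategory.mappingCone_triangle_distinguished ψ⟩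
  let a₁ : Q.obj (DRing.homCx K J₁) ≅ (DRing.RHomCx K).obj X :=
    asIso (uApp K J₁) ≪≫ (DRing.RHomCx K).mapIso e₁
  let a₂ : Q.obj (DRing.homCx K J₂) ≅ (DRing.RHomCx K).obj Y :=
    asIso (uApp K J₂) ≪≫ (DRing.RHomCx K).mapIso e₂
  let a₃ : Q.obj (mappingCone ψ) ≅ (DRing.RHomCx K).obj (Q.obj (mappingCone φ)) :=
    (Q : _ ⥤ Dual.D A).mapIso (coneIso K φ) ≪≫ asIso (uApp K (mappingCone φ))
  refine ⟨Q.obj (mappingCone φ), e₂.inv ≫ b₀, c₀ ≫ e₁.hom⟦(1 : ℤ)⟧',
    a₂.inv ≫ b₁ ≫ a₃.hom, a₃.inv ≫ c₁ ≫ a₁.hom⟦(1 : ℤ)⟧', ?_, ?_⟩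
  · refine isomorphic_distinguished _ hT₀ _ (Triangle.isoMk _ _ e₁.symm e₂.symm (Iso.refl _)
      ?_ ?_ ?_)
    · show η ≫ e₂.inv = e₁.inv ≫ Q.map φ
      rw [hφ, Iso.inv_hom_id_assoc]
    · show (e₂.inv ≫ b₀) ≫ 𝟙 _ = e₂.inv ≫ b₀
      rw [Category.comp_id]
    · show (c₀ ≫ e₁.hom⟦(1 : ℤ)⟧') ≫ e₁.inv⟦(1 : ℤ)⟧' = 𝟙 _ ≫ c₀
      rw [Category.assoc, ← Functor.map_comp, e₁.hom_inv_id, CategoryTheory.Functor.map_id,
        Category.comp_id, Category.id_comp]
  · refine isomorphic_distinguished _ hT₁ _ (Triangle.isoMk _ _ a₁.symm a₂.symm a₃.symm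
      ?_ ?_ ?_)
    · show (DRing.RHomCx K).map η ≫ a₂.inv = a₁.inv ≫ Q.map ψ
      rw [Iso.comp_inv_eq, Category.assoc, Iso.eq_inv_comp]
      show (uApp K J₁ ≫ (DRing.RHomCx K).map e₁.hom) ≫ (DRing.RHomCx K).map η =
        Q.map ψ ≫ (uApp K J₂ ≫ (DRing.RHomCx K).map e₂.hom)
      rw [← Category.assoc (Q.map ψ), uApp_naturality, Category.assoc, Category.assoc,
        ← Functor.map_comp, ← Functor.map_comp, hφ, Category.assoc, Category.assoc,
        e₂.inv_hom_id, Category.comp_id]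
    · show (a₂.inv ≫ b₁ ≫ a₃.hom) ≫ a₃.inv = a₂.inv ≫ b₁
      rw [Category.assoc, Category.assoc, a₃.hom_inv_id, Category.comp_id]
    · show (a₃.inv ≫ c₁ ≫ a₁.hom⟦(1 : ℤ)⟧') ≫ a₁.inv⟦(1 : ℤ)⟧' = a₃.inv ≫ c₁
      rw [Category.assoc, Category.assoc, ← Functor.map_comp, a₁.hom_inv_id,
        CategoryTheory.Functor.map_id, Category.comp_id]

end Groth.Agent.Lib.Helper36.RHT
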