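import Mathlib
import Groth.Prelude.Def_DerCA
import Groth.Agent.Lib.Helper36.FLocal
import Groth.Agent.Lib.Helper36.TensorSingle
import Groth.Agent.Lib.Helper36.CxPairing
import Groth.Agent.Lib.Helper36.RHomCxTri

/-!
# Termwise localization as a tensor product, and `f`-local K-projective complexes (helper36)

Namespace `Groth.Agent.Lib.Helper36.LTn`.

Main result `isIso_Q_whiskerLeft_locCxUnit`: for `P` K-projective with `f` invertible on `Q P`,
`Q (P ◁ (M ⟶ M_f))` is an isomorphism.
-/

set_option autoImplicit false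
universe u
open CategoryTheory CategoryTheory.Limits MonoidalCategory HomologicalComplex CochainComplex
attribute [local instance] HasDerivedCategory.standard

namespace Groth.Agent.Lib.Helper36.LTn

open Groth.Agent.Lib.Helper36.TS Groth.Agent.Lib.Helper36.CxPairing DerivedCategory
open TensorProduct

variable {A : Type u} [CommRing A] (f : A)

/-- `A_f` in degree `0` -/
noncomputable abbrev Sf : DRing.Cx A := sM (ModuleCat.of A (Localization.Away f))

/-- `x ↦ x ⊗ 1` -/
noncomputable def gX (X : Type u) [AddCommGroup X] [Module A X] :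
    X →ₗ[A] X ⊗[A] Localization.Away f :=
  (TensorProduct.comm A (Localization.Away f) X).toLinearMap ∘ₗ
    TensorProduct.mk A (Localization.Away f) X 1

lemma gX_apply (X : Type u) [AddCommGroup X] [Module A X] (x : X) :
    gX f X x = x ⊗ₜ[A] (1 : Localization.Away f) := rfl

instance isLocalizedModule_gX (X : Type u) [AddCommGroup X] [Module A X] :
    IsLocalizedModule (Submonoid.powers f) (gX f X) := by
  unfold gX
  exact IsLocalizedModule.of_linearEquiv (Submonoid.powers f)
    (TensorProduct.mk A (Localization.Away f) X 1) (TensorProduct.comm A (Localization.Away f) X)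

/-- `X_f ≃ X ⊗ A_f` -/
noncomputable def τ (X : Type u) [AddCommGroup X] [Module A X] :
    LocalizedModule (Submonoid.powers f) X ≃ₗ[A] X ⊗[A] Localization.Away f :=
  IsLocalizedModule.linearEquiv (Submonoid.powers f)
    (LocalizedModule.mkLinearMap (Submonoid.powers f) X) (gX f X)

lemma τ_mk (X : Type u) [AddCommGroup X] [Module A X] (x : X) :
    τ f X (LocalizedModule.mkLinearMap (Submonoid.powers f) X x) = x ⊗ₜ[A] 1 :=
  IsLocalizedModule.linearEquiv_apply _ _ _ x

/-- `X ↦ X_f` is `X ↦ X ⊗ A_f` -/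
noncomputable def τNat : DerCA.locFunctor (Submonoid.powers f) ≅
    tensorRight (ModuleCat.of A (Localization.Away f)) :=
  NatIso.ofComponents (fun X => (τ f X).toModuleIso) (by
    intro X Y h
    refine ModuleCat.hom_ext ?_
    apply IsLocalizedModule.linearMap_ext (Submonoid.powers f)
      (LocalizedModule.mkLinearMap (Submonoid.powers f) X) (gX f Y)
    refine LinearMap.ext fun x => ?_
    show τ f Y ((IsLocalizedModule.map (Submonoid.powers f)
        (LocalizedModule.mkLinearMap (Submonoid.powers f) X)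
        (LocalizedModule.mkLinearMap (Submonoid.powers f) Y) h.hom)
        (LocalizedModule.mkLinearMap (Submonoid.powers f) X x)) =
      (h ▷ ModuleCat.of A (Localization.Away f)).hom
        (τ f X (LocalizedModule.mkLinearMap (Submonoid.powers f) X x))
    rw [IsLocalizedModule.map_apply, τ_mk, τ_mk]
    rfl)

/-- `M_f ≅ M ⊗ A_f[0]` -/
noncomputable def ν (M : DRing.Cx A) :
    (DerCA.locCx (Submonoid.powers f)).obj M ≅ M ⊗ Sf f :=
  (NatIso.mapHomologicalComplex (τNat f) (ComplexShape.up ℤ)).app M ≪≫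
    (tensorSingleIso M (ModuleCat.of A (Localization.Away f))).symm

/-- `A[0] ⟶ A_f[0]` -/
noncomputable def ι₀ : 𝟙_ (DRing.Cx A) ⟶ Sf f :=
  (HomologicalComplex.single (ModuleCat.{u} A) (ComplexShape.up ℤ) 0).map
    (ModuleCat.ofHom (Algebra.linearMap A (Localization.Away f)) :
      𝟙_ (ModuleCat.{u} A) ⟶ ModuleCat.of A (Localization.Away f))

/-- the localization map in tensor form -/
noncomputable def lam' (M : DRing.Cx A) : M ⟶ M ⊗ Sf f := (ρ_ M).inv ≫ M ◁ ι₀ f

lemma whiskerLeft_lam' (P M : DRing.Cx A) :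
    (P ◁ lam' f M) ≫ (α_ P M (Sf f)).inv = lam' f (P ⊗ M) := by
  unfold lam'
  rw [MonoidalCategory.whiskerLeft_comp, Category.assoc,
    MonoidalCategory.associator_inv_naturality_right, ← Category.assoc,
    ← MonoidalCategory.rightUnitor_tensor_inv]

lemma locUnit_τ (X : ModuleCat.{u} A) :
    (DerCA.locUnit (Submonoid.powers f)).app X ≫ (τNat f).hom.app X =
      (ρ_ X).inv ≫ (X ◁ (ModuleCat.ofHom (Algebra.linearMap A (Localization.Away f)) :
        𝟙_ (ModuleCat.{u} A) ⟶ ModuleCat.of A (Localization.Away f))) := by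
  refine ModuleCat.hom_ext (LinearMap.ext fun x => ?_)
  show τ f X (LocalizedModule.mkLinearMap (Submonoid.powers f) X x) = _
  rw [τ_mk]
  show x ⊗ₜ[A] (1 : Localization.Away f) =
    (X ◁ (ModuleCat.ofHom (Algebra.linearMap A (Localization.Away f)) :
        𝟙_ (ModuleCat.{u} A) ⟶ ModuleCat.of A (Localization.Away f))).hom (x ⊗ₜ[A] (1 : A))
  rw [ModuleCat.hom_whiskerLeft]
  simp only [ModuleCat.hom_ofHom]
  erw [LinearMap.lTensor_tmul]
  rw [Algebra.linearMap_apply, map_one]

lemma ι₀_f_zero : (unitIso0 A).inv ≫ (ι₀ f).f 0 =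
    (ModuleCat.ofHom (Algebra.linearMap A (Localization.Away f)) :
        𝟙_ (ModuleCat.{u} A) ⟶ ModuleCat.of A (Localization.Away f)) ≫
      (sM0 (ModuleCat.of A (Localization.Away f))).inv := by
  unfold ι₀ unitIso0 sM0
  rw [HomologicalComplex.single_map_f_self, Iso.inv_hom_id_assoc]

lemma locCxUnit_ν (M : DRing.Cx A) :
    DerCA.locCxUnit (Submonoid.powers f) M ≫ (ν f M).hom = lam' f M := by
  refine HomologicalComplex.hom_ext _ _ fun n => ?_
  have h1 : (DerCA.locCxUnit (Submonoid.powers f) M ≫ (ν f M).hom).f n =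
      ((DerCA.locUnit (Submonoid.powers f)).app (M.X n) ≫ (τNat f).hom.app (M.X n)) ≫
        inc M (ModuleCat.of A (Localization.Away f)) n := by
    rw [Category.assoc]
    rfl
  have h2 : (lam' f M).f n = (ρ_ (M.X n)).inv ≫ (M.X n ◁ (unitIso0 A).inv) ≫
      (M.X n ◁ (ι₀ f).f 0) ≫ ιTensorObj M (Sf f) n 0 n (add_zero n) := by
    unfold lam'
    rw [HomologicalComplex.comp_f, rightUnitor_inv_f, Category.assoc, Category.assoc,
      ι_whiskerLeft_f]
  rw [h1, h2, locUnit_τ, ← MonoidalCategory.whiskerLeft_comp_assoc, ι₀_f_zero,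
    MonoidalCategory.whiskerLeft_comp, Category.assoc, Category.assoc]
  rfl

lemma bijective_smul_homology_of_isIso (N : DRing.Cx A)
    (h : IsIso (f • 𝟙 (Q.obj N : Dual.D A))) :
    ∀ i : ℤ, Function.Bijective (fun x : N.homology i => f • x) := by
  intro i
  have h2 : IsIso ((DerivedCategory.homologyFunctor (ModuleCat.{u} A) i).map
      (f • 𝟙 (Q.obj N : Dual.D A))) := inferInstance
  rw [Functor.map_smul, CategoryTheory.Functor.map_id] at h2
  have h3 := (ConcreteCategory.isIso_iff_bijective _).mp h2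
  let l := ((DerivedCategory.homologyFunctorFactors (ModuleCat.{u} A) i).app N).toLinearEquiv
  constructor
  · intro x y hxy
    apply l.symm.injective
    apply h3.1
    show f • l.symm x = f • l.symm y
    rw [← map_smul, ← map_smul]
    exact congrArg l.symm hxy
  · intro y
    obtain ⟨x, hx⟩ := h3.2 (l.symm y)
    refine ⟨l x, ?_⟩
    show f • l x = y
    rw [← map_smul]
    apply l.symm.injective
    rw [LinearEquiv.symm_apply_apply]
    exact hx

theorem isIso_Q_locCxUnit (N : DRing.Cx A) (h : IsIso (f • 𝟙 (Q.obj N : Dual.D A))) :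
    IsIso (Q.map (DerCA.locCxUnit (Submonoid.powers f) N) : (Q.obj N : Dual.D A) ⟶ _) := by
  rw [DerivedCategory.isIso_Q_map_iff_quasiIso]
  exact Groth.Agent.Lib.Helper36.DC.quasiIso_locCxη f N (bijective_smul_homology_of_isIso f N h)

/-- for `P` K-projective and `f`-local, `P ⊗ M ⟶ P ⊗ M_f` is an isomorphism in `D(A)` -/
theorem isIso_Q_whiskerLeft_locCxUnit (P M : DRing.Cx A) [P.IsKProjective]
    (h : IsIso (f • 𝟙 (Q.obj P : Dual.D A))) :
    IsIso (Q.map (P ◁ DerCA.locCxUnit (Submonoid.powers f) M) :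
      (Q.obj (P ⊗ M) : Dual.D A) ⟶ _) := by
  have e0 : DerCA.locCxUnit (Submonoid.powers f) M = lam' f M ≫ (ν f M).inv := by
    rw [← locCxUnit_ν, Category.assoc, Iso.hom_inv_id, Category.comp_id]
  have e1 : P ◁ lam' f M = lam' f (P ⊗ M) ≫ (α_ P M (Sf f)).hom := by
    rw [← whiskerLeft_lam', Category.assoc, Iso.inv_hom_id, Category.comp_id]
  have e2 : P ◁ DerCA.locCxUnit (Submonoid.powers f) M =
      DerCA.locCxUnit (Submonoid.powers f) (P ⊗ M) ≫ (ν f (P ⊗ M)).hom ≫
        (α_ P M (Sf f)).hom ≫ (P ◁ (ν f M).inv) := by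
    rw [e0, MonoidalCategory.whiskerLeft_comp, e1, ← locCxUnit_ν, Category.assoc, Category.assoc]
  have h1 := isIso_Q_locCxUnit f (P ⊗ M) (Groth.Agent.Lib.Helper36.RHT.isIso_smul_tensor M f P h)
  rw [e2, Functor.map_comp, Functor.map_comp, Functor.map_comp]
  infer_instance

end Groth.Agent.Lib.Helper36.LTn
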