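import Mathlib
import Groth.Agent.Lib.Helper36.LocTensor
import Groth.Agent.Lib.Helper36.HomCxCocone
import Groth.Agent.Lib.Helper36.FunctorCompletion
import Groth.Agent.Lib.Helper36.DerivedCompletionUnique

/-!
# The extended Čech complex computes the derived completion (helper36)

Namespace `Groth.Agent.Lib.Helper36.CeC`.
-/

set_option autoImplicit false
universe u
open CategoryTheory CategoryTheory.Limits MonoidalCategory HomologicalComplex CochainComplex
open CategoryTheory.Pretriangulated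
attribute [local instance] HasDerivedCategory.standard

namespace Groth.Agent.Lib.Helper36.CeC

open Groth.Agent.Lib.Helper36.HCA Groth.Agent.Lib.Helper36.HKI Groth.Agent.Lib.Helper36.KIB
open Groth.Agent.Lib.Helper36.FCo Groth.Agent.Lib.Helper36.DC DerivedCategory
open Groth.Agent.Lib.Helper36.LTn Groth.Agent.Lib.Helper36.HCC

variable {A : Type u} [CommRing A] (f : A) (M J : DRing.Cx A)

/-- the localization map `M ⟶ M_f` -/
noncomputable abbrev lam : M ⟶ (DerCA.locCx (Submonoid.powers f)).obj M :=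
  DerCA.locCxUnit (Submonoid.powers f) M

open Groth.Agent.Lib.Helper46.DTenKProj in
/-- (B) for K-projective test objects -/
lemma bijective_postcomp_of_kproj [J.IsKInjective] (P : DRing.Cx A) [P.IsKProjective]
    (hP : IsIso (f • 𝟙 (Q.obj P : Dual.D A))) :
    Function.Bijective (fun a : (Q.obj P : Dual.D A) ⟶
        Q.obj (DRing.homCx ((DerCA.locCx (Submonoid.powers f)).obj M) J) =>
      a ≫ Q.map (homCxPre (lam f M) J)) := by
  have hiso := isIso_Q_whiskerLeft_locCxUnit f P M hP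
  constructor
  · intro a a' haa
    obtain ⟨χ, rfl⟩ := exists_Q_map_eq a
    obtain ⟨χ', rfl⟩ := exists_Q_map_eq a'
    dsimp only at haa
    rw [← Functor.map_comp, ← Functor.map_comp] at haa
    obtain ⟨H⟩ := nonempty_homotopy_of_Q_map_eq _ _ haa
    have H1 := homotopyUncurry H
    rw [uncurry_comp_homCxPre, uncurry_comp_homCxPre] at H1
    have h2 := DerivedCategory.Q_map_eq_of_homotopy (ModuleCat.{u} A) H1
    rw [Functor.map_comp, Functor.map_comp] at h2
    have h3 := (cancel_epi _).1 h2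
    obtain ⟨H2⟩ := Groth.Agent.Lib.Helper36.KIB.nonempty_homotopy_of_Q_map_eq _ _ h3
    have H3 : Homotopy χ χ' := (Homotopy.ofEq (curry_uncurry χ).symm).trans
      ((homotopyCurry H2).trans (Homotopy.ofEq (curry_uncurry χ')))
    exact DerivedCategory.Q_map_eq_of_homotopy _ H3
  · intro b
    obtain ⟨ξ, rfl⟩ := exists_Q_map_eq b
    obtain ⟨τ', hτ'⟩ := exists_map_of_isKInjective _ J
      (inv (Q.map (P ◁ lam f M) : (Q.obj (P ⊗ M) : Dual.D A) ⟶ _) ≫ Q.map (uncurry ξ))
    refine ⟨Q.map (curry τ'), ?_⟩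
    dsimp only
    rw [← Functor.map_comp]
    have h1 : (Q.map (uncurry (curry τ' ≫ homCxPre (lam f M) J)) :
        (Q.obj (P ⊗ M) : Dual.D A) ⟶ _) = Q.map (uncurry ξ) := by
      rw [uncurry_comp_homCxPre, uncurry_curry, Functor.map_comp, hτ', IsIso.hom_inv_id_assoc]
    obtain ⟨H⟩ := Groth.Agent.Lib.Helper36.KIB.nonempty_homotopy_of_Q_map_eq _ _ h1
    have H3 : Homotopy (curry τ' ≫ homCxPre (lam f M) J) ξ :=
      (Homotopy.ofEq (curry_uncurry _).symm).trans
        ((homotopyCurry H).trans (Homotopy.ofEq (curry_uncurry ξ)))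
    exact DerivedCategory.Q_map_eq_of_homotopy _ H3

open Groth.Agent.Lib.Helper46.DTenKProj in
/-- (B): `Hom•(M_f, J) ⟶ Hom•(M, J)` induces bijections on maps from `f`-local objects -/
lemma bijective_postcomp [J.IsKInjective] (X : Dual.D A) (hX : IsIso (f • 𝟙 X)) :
    Function.Bijective (fun a : X ⟶
        Q.obj (DRing.homCx ((DerCA.locCx (Submonoid.powers f)).obj M) J) =>
      a ≫ Q.map (homCxPre (lam f M) J)) := by
  obtain ⟨P, hP, ⟨eP⟩⟩ := exists_kproj_iso X
  have := hP
  have hfP : IsIso (f • 𝟙 (Q.obj P : Dual.D A)) := by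
    have h1 : f • 𝟙 (Q.obj P : Dual.D A) = eP.hom ≫ (f • 𝟙 X) ≫ eP.inv := by
      rw [Linear.smul_comp, Linear.comp_smul, Category.id_comp, eP.hom_inv_id]
    rw [h1]
    infer_instance
  have hb := bijective_postcomp_of_kproj f M J P hfP
  constructor
  · intro a a' haa
    have h1 : (eP.hom ≫ a) ≫ Q.map (homCxPre (lam f M) J) =
        (eP.hom ≫ a') ≫ Q.map (homCxPre (lam f M) J) := by
      rw [Category.assoc, Category.assoc]
      exact congrArg (eP.hom ≫ ·) haa
    exact (cancel_epi eP.hom).1 (hb.1 h1)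
  · intro b
    obtain ⟨c, hc⟩ := hb.2 (eP.hom ≫ b)
    refine ⟨eP.inv ≫ c, ?_⟩
    dsimp only at hc ⊢
    rw [Category.assoc, hc, Iso.inv_hom_id_assoc]

open HomComplex in
lemma homCxPre_smul_id (a : A) (N : DRing.Cx A) :
    homCxPre (a • 𝟙 N) J = a • 𝟙 (DRing.homCx N J) := by
  refine HomologicalComplex.hom_ext _ _ fun i =>
    ModuleCat.hom_ext (LinearMap.ext fun (z : Cochain N J i) => ?_)
  show (Cochain.ofHom (a • 𝟙 N)).comp z (zero_add i) = a • z
  ext p q hpq
  rw [Cochain.zero_cochain_comp_v, Cochain.ofHom_v, Cochain.smul_v]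
  simp

lemma isIso_smul_locCx : IsIso (f • 𝟙 ((DerCA.locCx (Submonoid.powers f)).obj M)) := by
  have : ∀ n : ℤ, IsIso ((f • 𝟙 ((DerCA.locCx (Submonoid.powers f)).obj M)).f n) := by
    intro n
    rw [ConcreteCategory.isIso_iff_bijective]
    exact bijective_smul_localizedModule f (M.X n)
  exact HomologicalComplex.Hom.isIso_of_components _

/-- (W): `Hom•(M_f, J)` is `f`-local -/
lemma isIso_smul_W :
    IsIso (f • 𝟙 (Q.obj (DRing.homCx ((DerCA.locCx (Submonoid.powers f)).obj M) J) : Dual.D A)) := by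
  have h1 := isIso_smul_locCx f M
  have h2 : IsIso (homCxPre (f • 𝟙 ((DerCA.locCx (Submonoid.powers f)).obj M)) J) :=
    (homCxPreIso (asIso (f • 𝟙 ((DerCA.locCx (Submonoid.powers f)).obj M))) J).isIso_hom
  rw [homCxPre_smul_id] at h2
  have h3 : f • 𝟙 (Q.obj (DRing.homCx ((DerCA.locCx (Submonoid.powers f)).obj M) J) : Dual.D A) =
      Q.map (f • 𝟙 (DRing.homCx ((DerCA.locCx (Submonoid.powers f)).obj M) J)) := by
    rw [Functor.map_smul, CategoryTheory.Functor.map_id]
  rw [h3]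
  infer_instance

/-- (T): the distinguished triangle `Hom•(M_f, J) ⟶ Hom•(M, J) ⟶ Hom•(M', J)` -/
lemma exists_distTriang :
    ∃ w : (Q.obj (DRing.homCx (mappingCocone (lam f M)) J) : Dual.D A) ⟶
        (Q.obj (DRing.homCx ((DerCA.locCx (Submonoid.powers f)).obj M) J))⟦(1 : ℤ)⟧,
      Triangle.mk (Q.map (homCxPre (lam f M) J))
        (Q.map (homCxPre (mappingCocone.fst (lam f M)) J)) w ∈ distTriang (Dual.D A) := by
  obtain ⟨b₁, c₁, hT₁⟩ : ∃ (b₁ : (Q.obj (DRing.homCx M J) : Dual.D A) ⟶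
        Q.obj (mappingCone (homCxPre (lam f M) J)))
      (c₁ : (Q.obj (mappingCone (homCxPre (lam f M) J)) : Dual.D A) ⟶
        (Q.obj (DRing.homCx ((DerCA.locCx (Submonoid.powers f)).obj M) J))⟦(1 : ℤ)⟧),
      b₁ = Q.map (mappingCone.inr (homCxPre (lam f M) J)) ∧
      Triangle.mk (Q.map (homCxPre (lam f M) J)) b₁ c₁ ∈ distTriang (Dual.D A) :=
    ⟨_, _, rfl, DerivedCategory.mappingCone_triangle_distinguished (homCxPre (lam f M) J)⟩
  obtain ⟨hb₁, hT₁⟩ := hT₁
  let e₃ : (Q.obj (mappingCone (homCxPre (lam f M) J)) : Dual.D A) ≅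
      Q.obj (DRing.homCx (mappingCocone (lam f M)) J) :=
    (Q : _ ⥤ Dual.D A).mapIso (coconeIso (lam f M) J)
  refine ⟨e₃.inv ≫ c₁, ?_⟩
  refine isomorphic_distinguished _ hT₁ _ (Triangle.isoMk _ _ (Iso.refl _) (Iso.refl _) e₃.symm
    ?_ ?_ ?_)
  · show Q.map (homCxPre (lam f M) J) ≫ 𝟙 _ = 𝟙 _ ≫ Q.map (homCxPre (lam f M) J)
    rw [Category.comp_id, Category.id_comp]
  · show Q.map (homCxPre (mappingCocone.fst (lam f M)) J) ≫ e₃.inv = 𝟙 _ ≫ b₁
    rw [Category.id_comp, hb₁, Iso.comp_inv_eq]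
    show _ = Q.map _ ≫ Q.map (coconeIso (lam f M) J).hom
    rw [← Functor.map_comp, inr_coconeIso_hom]
  · show (e₃.inv ≫ c₁) ≫ (𝟙 _)⟦(1 : ℤ)⟧' = e₃.inv ≫ c₁
    rw [CategoryTheory.Functor.map_id, Category.comp_id]

/-- (S1): `Hom•(Cocone(M ⟶ M_f), J)` is `f`-complete -/
theorem fc_homCx_cocone [J.IsKInjective] :
    FC f (Q.obj (DRing.homCx (mappingCocone (lam f M)) J) : Dual.D A) := by
  obtain ⟨w, hT⟩ := exists_distTriang f M J
  apply Groth.Agent.Lib.Helper36.RHT.seqComplete_of_flocal_hom_eq_zero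
  intro X hX a
  -- `a ≫ w = 0`
  have hX' : IsIso (f • 𝟙 (X⟦(-1 : ℤ)⟧)) := by
    have h2 : f • 𝟙 (X⟦(-1 : ℤ)⟧) =
        (CategoryTheory.shiftFunctor (Dual.D A) (-1 : ℤ)).map (f • 𝟙 X) := by
      rw [Functor.map_smul, CategoryTheory.Functor.map_id]
    rw [h2]
    infer_instance
  have haw : a ≫ w = 0 := by
    have h0 : (a ≫ w) ≫ (Q.map (homCxPre (lam f M) J))⟦(1 : ℤ)⟧' = 0 := by
      rw [Category.assoc]
      have h31 : w ≫ (Q.map (homCxPre (lam f M) J))⟦(1 : ℤ)⟧' = 0 :=
        comp_distTriang_mor_zero₃₁ _ hT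
      rw [h31, comp_zero]
    let iW := (shiftFunctorCompIsoId (Dual.D A) (1 : ℤ) (-1) (add_neg_cancel 1))
    have h1 : ((CategoryTheory.shiftFunctor (Dual.D A) (-1 : ℤ)).map (a ≫ w) ≫ iW.hom.app _) ≫
        Q.map (homCxPre (lam f M) J) = 0 := by
      rw [Category.assoc]
      have hn := iW.hom.naturality (Q.map (homCxPre (lam f M) J))
      dsimp only [Functor.comp_map, Functor.id_map] at hn
      rw [← hn, ← Category.assoc, ← Functor.map_comp, h0, Functor.map_zero, zero_comp]
    have h2 := (bijective_postcomp f M J _ hX').1 (h1.trans zero_comp.symm)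
    have h3 : (CategoryTheory.shiftFunctor (Dual.D A) (-1 : ℤ)).map (a ≫ w) = 0 := by
      rw [← cancel_mono (iW.hom.app _), h2, zero_comp]
    apply (CategoryTheory.shiftFunctor (Dual.D A) (-1 : ℤ)).map_injective
    rw [h3, Functor.map_zero]
  obtain ⟨b, hb⟩ := Triangle.coyoneda_exact₃ _ hT a haw
  dsimp only [Triangle.mk] at hb
  obtain ⟨c, hc⟩ := (bijective_postcomp f M J X hX).2 b
  dsimp only at hc
  have h12 : Q.map (homCxPre (lam f M) J) ≫
      (Q.map (homCxPre (mappingCocone.fst (lam f M)) J) :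
        (Q.obj (DRing.homCx M J) : Dual.D A) ⟶ _) = 0 :=
    comp_distTriang_mor_zero₁₂ _ hT
  rw [hb, ← hc, Category.assoc, h12, comp_zero]

/-- (S2): `Hom•(M, J) ⟶ Hom•(Cocone(M ⟶ M_f), J)` is universal for `f`-complete objects -/
theorem universal_homCx_cocone :
    ∀ E : Dual.D A, FC f E → Function.Bijective
      (fun v : (Q.obj (DRing.homCx (mappingCocone (lam f M)) J) : Dual.D A) ⟶ E =>
        Q.map (homCxPre (mappingCocone.fst (lam f M)) J) ≫ v) := by
  obtain ⟨w, hT⟩ := exists_distTriang f M J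
  have hT' := rot_of_distTriang _ hT
  have hW : IsIso (f • 𝟙 ((Q.obj (DRing.homCx ((DerCA.locCx (Submonoid.powers f)).obj M) J) :
      Dual.D A)⟦(1 : ℤ)⟧)) := by
    have h1 := isIso_smul_W f M J
    have h2 : f • 𝟙 ((Q.obj (DRing.homCx ((DerCA.locCx (Submonoid.powers f)).obj M) J) :
        Dual.D A)⟦(1 : ℤ)⟧) = (CategoryTheory.shiftFunctor (Dual.D A) (1 : ℤ)).map
          (f • 𝟙 (Q.obj (DRing.homCx ((DerCA.locCx (Submonoid.powers f)).obj M) J) : Dual.D A)) := by
      rw [Functor.map_smul, CategoryTheory.Functor.map_id]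
    rw [h2]
    infer_instance
  have hLO := lo_of_isIso_smul f _ hW
  exact (lo_iff_universal (fun E n (hE : FC f E) => FC.shift hE n) _ hT').mp hLO

/-- (S3): completeness with respect to other elements is inherited -/
theorem fc_homCx_cocone_of_fc [J.IsKInjective] (g : A)
    (hg : FC g (Q.obj (DRing.homCx M J) : Dual.D A)) :
    FC g (Q.obj (DRing.homCx (mappingCocone (lam f M)) J) : Dual.D A) := by
  obtain ⟨C₂, η₂, k1, k2, k3, -⟩ := exists_completion_step f (Q.obj (DRing.homCx M J) : Dual.D A)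
  obtain ⟨e, -⟩ := exists_iso_of_universal (P := FC f)
    (Q.map (homCxPre (mappingCocone.fst (lam f M)) J)) η₂ (fc_homCx_cocone f M J) k1
    (universal_homCx_cocone f M J) k2
  intro i
  exact (k3 g hg i).of_linearEquiv
    ((DerivedCategory.homologyFunctor (ModuleCat.{u} A) i).mapIso e.symm).toLinearEquiv

section base

variable {J}

lemma uncurry_injective {X P L : DRing.Cx A} {ψ ψ' : X ⟶ DRing.homCx P L}
    (h : uncurry ψ = uncurry ψ') : ψ = ψ' := by
  rw [← curry_uncurry ψ, ← curry_uncurry ψ', h]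

/-- `J ≅ Hom•(A[0], J)` -/
noncomputable def unitHomIso (J : DRing.Cx A) : J ≅ DRing.homCx (𝟙_ (DRing.Cx A)) J where
  hom := curry (ρ_ J).hom
  inv := (ρ_ (DRing.homCx (𝟙_ (DRing.Cx A)) J)).inv ≫ evCx (𝟙_ (DRing.Cx A)) J
  hom_inv_id := by
    rw [← Category.assoc, MonoidalCategory.rightUnitor_inv_naturality, Category.assoc,
      ← uncurry_eq, uncurry_curry, Iso.inv_hom_id]
  inv_hom_id := by
    apply uncurry_injective
    rw [uncurry_comp, uncurry_curry, MonoidalCategory.comp_whiskerRight, Category.assoc,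
      MonoidalCategory.rightUnitor_naturality, ← Category.assoc,
      MonoidalCategory.rightUnitor_naturality, Iso.hom_inv_id, Category.id_comp]
    rfl

end base

/-- the extended Čech complex of `A` -/
noncomputable abbrev cech (fs : List A) : DRing.Cx A := DerCA.extCech (ModuleCat.of A A) fs

/-- `Hom•(Č(fs), J)` is the completion of `J` with respect to the elements of `fs` -/
theorem cech_completion : ∀ (fs : List A) (J : DRing.Cx A) [J.IsKInjective],
    ∃ η : (Q.obj J : Dual.D A) ⟶ Q.obj (DRing.homCx (cech fs) J),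
      (∀ g ∈ fs, FC g (Q.obj (DRing.homCx (cech fs) J) : Dual.D A)) ∧
      ∀ E : Dual.D A, (∀ g ∈ fs, FC g E) →
        Function.Bijective (fun v : (Q.obj (DRing.homCx (cech fs) J) : Dual.D A) ⟶ E => η ≫ v)
  | [], J, _ => by
    refine ⟨Q.map (unitHomIso J).hom, fun g hg => absurd hg List.not_mem_nil, fun E _ => ?_⟩
    have : IsIso (Q.map (unitHomIso J).hom : (Q.obj J : Dual.D A) ⟶ _) := inferInstance
    exact bijective_precomp_of_isIso (Q.map (unitHomIso J).hom : (Q.obj J : Dual.D A) ⟶ _) E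
  | f :: fs, J, hJ => by
    obtain ⟨η, h1, h2⟩ := cech_completion fs J
    refine ⟨η ≫ Q.map (homCxPre (mappingCocone.fst (lam f (cech fs))) J), ?_, ?_⟩
    · intro g hg
      rcases List.mem_cons.mp hg with rfl | hg'
      · exact fc_homCx_cocone g (cech fs) J
      · exact fc_homCx_cocone_of_fc f (cech fs) J g (h1 g hg')
    · intro E hE
      have hb1 := h2 E (fun g hg => hE g (List.mem_cons_of_mem f hg))
      have hb2 := universal_homCx_cocone f (cech fs) J E (hE f List.mem_cons_self)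
      constructor
      · intro a b hab
        have hab' : η ≫ (Q.map (homCxPre (mappingCocone.fst (lam f (cech fs))) J) ≫ a) =
            η ≫ (Q.map (homCxPre (mappingCocone.fst (lam f (cech fs))) J) ≫ b) := by
          rw [← Category.assoc, ← Category.assoc]
          exact hab
        exact hb2.1 (hb1.1 hab')
      · intro c
        obtain ⟨w, hw⟩ := hb1.2 c
        obtain ⟨v, hv⟩ := hb2.2 w
        refine ⟨v, ?_⟩
        show (η ≫ Q.map (homCxPre (mappingCocone.fst (lam f (cech fs))) J)) ≫ v = c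
        rw [Category.assoc]
        exact (congrArg (η ≫ ·) hv).trans hw

end Groth.Agent.Lib.Helper36.CeC
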