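import Mathlib
import Groth.Agent.Lib.Helper36.DerivedComplete6

/-!
Helper (helper36): a five-lemma for the functors `Hom(-, E)` applied to a morphism of distinguished
triangles.
-/

set_option autoImplicit false
set_option linter.unusedSectionVars false
universe u

open CategoryTheory CategoryTheory.Limits CategoryTheory.Pretriangulated

namespace Groth.Agent.Lib.Helper36.CC

open Groth.Agent.Lib.Helper36.DC

variable {D : Type*} [Category D] [Preadditive D] [HasZeroObject D]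
  [HasShift D ℤ] [∀ n : ℤ, (shiftFunctor D n).Additive] [Pretriangulated D]

/-- Transfer bijectivity of precomposition along an isomorphism of the target. -/
lemma bijective_precomp_of_iso' {X X' Y Y' : D} (φ : X ⟶ X') (e : Y ≅ Y')
    (h : Function.Bijective (fun a : X' ⟶ Y => φ ≫ a)) :
    Function.Bijective (fun a : X' ⟶ Y' => φ ≫ a) := by
  constructor
  · intro a b hab
    have h1 : φ ≫ (a ≫ e.inv) = φ ≫ (b ≫ e.inv) := by
      rw [← Category.assoc, ← Category.assoc]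
      exact congrArg (· ≫ e.inv) hab
    have h2 := h.1 h1
    have h3 := congrArg (· ≫ e.hom) h2
    simpa using h3
  · intro c
    obtain ⟨a, ha⟩ := h.2 (c ≫ e.inv)
    refine ⟨a ≫ e.hom, ?_⟩
    show φ ≫ a ≫ e.hom = c
    have h3 := congrArg (· ≫ e.hom) ha
    simpa using h3

/-- Bijectivity of precomposition is preserved by the shift. -/
lemma bijective_precomp_shift' {X X' Y : D} (φ : X ⟶ X') (n : ℤ)
    (h : Function.Bijective (fun a : X' ⟶ Y => φ ≫ a)) :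
    Function.Bijective (fun a : X'⟦n⟧ ⟶ Y⟦n⟧ => φ⟦n⟧' ≫ a) := by
  constructor
  · intro a b hab
    obtain ⟨a', rfl⟩ := (shiftFunctor D n).map_surjective a
    obtain ⟨b', rfl⟩ := (shiftFunctor D n).map_surjective b
    have h1 : (φ ≫ a')⟦n⟧' = (φ ≫ b')⟦n⟧' := by
      rw [Functor.map_comp, Functor.map_comp]
      exact hab
    rw [h.1 ((shiftFunctor D n).map_injective h1)]
  · intro c
    obtain ⟨c', rfl⟩ := (shiftFunctor D n).map_surjective c
    obtain ⟨a, ha⟩ := h.2 c'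
    refine ⟨a⟦n⟧', ?_⟩
    show φ⟦n⟧' ≫ a⟦n⟧' = c'⟦n⟧'
    rw [← Functor.map_comp]
    exact congrArg _ ha

/-- Five lemma for `Hom(-, E)` and a morphism of distinguished triangles. -/
theorem bijective_precomp_hom₃ {T T' : Triangle D} (hT : T ∈ distTriang D)
    (hT' : T' ∈ distTriang D) (m : T ⟶ T') (E : D)
    (h1 : Function.Bijective (fun a : T'.obj₁ ⟶ E => m.hom₁ ≫ a))
    (h2 : Function.Bijective (fun a : T'.obj₂ ⟶ E => m.hom₂ ≫ a))
    (h1s : Function.Bijective (fun a : T'.obj₁⟦(1 : ℤ)⟧ ⟶ E => m.hom₁⟦(1 : ℤ)⟧' ≫ a))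
    (h2s : Function.Bijective (fun a : T'.obj₂⟦(1 : ℤ)⟧ ⟶ E => m.hom₂⟦(1 : ℤ)⟧' ≫ a)) :
    Function.Bijective (fun a : T'.obj₃ ⟶ E => m.hom₃ ≫ a) := by
  have c1 := m.comm₁
  have c2 := m.comm₂
  have c3 := m.comm₃
  have hinj : ∀ v : T'.obj₃ ⟶ E, m.hom₃ ≫ v = 0 → v = 0 := by
    intro v hv
    have hβv : T'.mor₂ ≫ v = 0 := by
      apply h2.1
      show m.hom₂ ≫ (T'.mor₂ ≫ v) = m.hom₂ ≫ 0
      rw [← Category.assoc, ← c2, Category.assoc, hv, comp_zero, comp_zero]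
    obtain ⟨w, hw⟩ := Triangle.yoneda_exact₃ T' hT' v hβv
    have hγ : T.mor₃ ≫ (m.hom₁⟦(1 : ℤ)⟧' ≫ w) = 0 := by
      rw [← Category.assoc, c3, Category.assoc, ← hw, hv]
    obtain ⟨t, ht⟩ := yoneda_exact_rot T hT (m.hom₁⟦(1 : ℤ)⟧' ≫ w) hγ
    obtain ⟨t', ht'⟩ := h2s.2 t
    have ht'' : m.hom₂⟦(1 : ℤ)⟧' ≫ t' = t := ht'
    have hw2 : w = T'.mor₁⟦(1 : ℤ)⟧' ≫ t' := by
      apply h1s.1
      show m.hom₁⟦(1 : ℤ)⟧' ≫ w = m.hom₁⟦(1 : ℤ)⟧' ≫ T'.mor₁⟦(1 : ℤ)⟧' ≫ t'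
      rw [ht, ← ht'', ← Category.assoc, ← Functor.map_comp, c1, Functor.map_comp, Category.assoc]
    rw [hw, hw2, ← Category.assoc, comp_distTriang_mor_zero₃₁ _ hT', zero_comp]
  constructor
  · intro v v' hvv
    have h0 : m.hom₃ ≫ (v - v') = 0 := by
      rw [Preadditive.comp_sub]
      exact sub_eq_zero.mpr hvv
    exact sub_eq_zero.mp (hinj _ h0)
  · intro z
    obtain ⟨l, hl⟩ := h2.2 (T.mor₂ ≫ z)
    have hl' : m.hom₂ ≫ l = T.mor₂ ≫ z := hl
    have hφl : T'.mor₁ ≫ l = 0 := by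
      apply h1.1
      show m.hom₁ ≫ (T'.mor₁ ≫ l) = m.hom₁ ≫ 0
      rw [← Category.assoc, ← c1, Category.assoc, hl', ← Category.assoc,
        comp_distTriang_mor_zero₁₂ _ hT, zero_comp, comp_zero]
    obtain ⟨v₀, hv₀⟩ := Triangle.yoneda_exact₂ T' hT' l hφl
    have h0 : T.mor₂ ≫ (z - m.hom₃ ≫ v₀) = 0 := by
      rw [Preadditive.comp_sub, ← Category.assoc, c2, Category.assoc, ← hv₀, hl', sub_self]
    obtain ⟨w, hw⟩ := Triangle.yoneda_exact₃ T hT _ h0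
    obtain ⟨w', hw'⟩ := h1s.2 w
    have hw'' : m.hom₁⟦(1 : ℤ)⟧' ≫ w' = w := hw'
    refine ⟨v₀ + T'.mor₃ ≫ w', ?_⟩
    show m.hom₃ ≫ (v₀ + T'.mor₃ ≫ w') = z
    rw [Preadditive.comp_add, ← Category.assoc, ← c3, Category.assoc, hw'', ← hw]
    abel

end Groth.Agent.Lib.Helper36.CC
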