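import Mathlib
import Groth.Agent.Lib.Helper36.DerivedCompletionUnique
import Groth.Agent.Lib.Helper36.TriangleFive

/-!
Helper (helper36): the cone of the derived completion of a morphism is the derived completion of
the cone; consequences for cohomology in low degrees.
-/

set_option autoImplicit false
universe u

open CategoryTheory CategoryTheory.Limits CategoryTheory.Pretriangulated DerivedCategory
attribute [local instance] HasDerivedCategory.standard

namespace Groth.Agent.Lib.Helper36.DC

open Groth.Agent.Lib.Helper36.DCF Groth.Agent.Lib.Helper36.CC Groth.Agent.Lib.Helper12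

variable {A : Type u} [CommRing A] (I : Ideal A) [DRing.HasDerivedCompletion I]

lemma bijective_unit_precomp (K E : Dual.D A) (hE : DRing.IsDerivedComplete I E) :
    Function.Bijective (fun a : ((DRing.derivedCompletion I).obj K).obj ⟶ E =>
      DRing.toDerivedCompletion I K ≫ a) :=
  ⟨fun _ _ h => hom_ext_completion I hE h, fun g => exists_lift_completion I hE g⟩

lemma bijective_unit_shift_precomp (K E : Dual.D A) (hE : DRing.IsDerivedComplete I E) :
    Function.Bijective (fun a : (((DRing.derivedCompletion I).obj K).obj)⟦(1 : ℤ)⟧ ⟶ E =>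
      (DRing.toDerivedCompletion I K)⟦(1 : ℤ)⟧' ≫ a) :=
  bijective_precomp_of_iso' _ ((shiftEquiv (Dual.D A) (1 : ℤ)).counitIso.app E)
    (bijective_precomp_shift' _ 1
      (bijective_unit_precomp I K (E⟦(-1 : ℤ)⟧) (isDerivedComplete_shift I E hE (-1))))

/-- Amplitude of the cone of the completion of a morphism. -/
theorem cone_completion_amplitude (s : Finset A) (hs : Ideal.span (s : Set A) = I)
    {K L Z Z' : Dual.D A} (φ : K ⟶ L) (β : L ⟶ Z) (γ : Z ⟶ K⟦(1 : ℤ)⟧)
    (hT : Triangle.mk φ β γ ∈ distTriang (Dual.D A))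
    (β' : ((DRing.derivedCompletion I).obj L).obj ⟶ Z')
    (γ' : Z' ⟶ (((DRing.derivedCompletion I).obj K).obj)⟦(1 : ℤ)⟧)
    (hT' : Triangle.mk ((DRing.derivedCompletion I).map φ).hom β' γ' ∈ distTriang (Dual.D A))
    (a : ℤ) (hZ : ∀ i : ℤ, i < a → Subsingleton (Dual.HD A Z i)) (i : ℤ)
    (hi : i + (s.card : ℤ) < a) : Subsingleton (Dual.HD A Z' i) := by
  obtain ⟨ζ, hζ1, hζ2⟩ := complete_distinguished_triangle_morphism _ _ hT hT'
    (DRing.toDerivedCompletion I K) (DRing.toDerivedCompletion I L) (unit_naturality I φ).symm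
  let m : Triangle.mk φ β γ ⟶ Triangle.mk ((DRing.derivedCompletion I).map φ).hom β' γ' :=
    { hom₁ := DRing.toDerivedCompletion I K
      hom₂ := DRing.toDerivedCompletion I L
      hom₃ := ζ
      comm₁ := (unit_naturality I φ).symm
      comm₂ := hζ1
      comm₃ := hζ2 }
  have hZ'c : DRing.IsDerivedComplete I Z' :=
    isDerivedComplete_of_distTriang₃ I _ hT' ((DRing.derivedCompletion I).obj K).property
      ((DRing.derivedCompletion I).obj L).property
  have hU : ∀ E : Dual.D A, DRing.IsDerivedComplete I E →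
      Function.Bijective (fun v : Z' ⟶ E => ζ ≫ v) := fun E hE =>
    bijective_precomp_hom₃ hT hT' m E (bijective_unit_precomp I K E hE)
      (bijective_unit_precomp I L E hE) (bijective_unit_shift_precomp I K E hE)
      (bijective_unit_shift_precomp I L E hE)
  obtain ⟨e, -⟩ := exists_iso_completion I Z Z' ζ hZ'c hU
  have h := (subsingleton_HD_completion I s hs Z).1 a hZ i hi
  let l := ((homologyFunctor (ModuleCat.{u} A) i).mapIso e).toLinearEquiv
  exact @Equiv.subsingleton _ _ l.toEquiv h

/-- If the cone has no cohomology in degrees `≤ c`, then the morphism induces isomorphisms on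
cohomology in degrees `≤ c` and a monomorphism in degree `c + 1`. -/
lemma isIso_and_mono_of_subsingleton_cone (c : ℤ) (T : Triangle (Dual.D A))
    (hT : T ∈ distTriang _) (hZ : ∀ i : ℤ, i ≤ c → Subsingleton (Dual.HD A T.obj₃ i)) :
    (∀ i : ℤ, i ≤ c → IsIso ((HF A i).map T.mor₁)) ∧ Mono ((HF A (c + 1)).map T.mor₁) := by
  have hzero : ∀ i : ℤ, i ≤ c → IsZero ((HF A i).obj T.obj₃) := fun i hi =>
    @ModuleCat.isZero_of_subsingleton _ _ _ (hZ i hi)
  have hmono : ∀ i : ℤ, i ≤ c + 1 → Mono ((HF A i).map T.mor₁) := by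
    intro i hi
    rw [HomologySequence.mono_homologyMap_mor₁_iff _ hT (i - 1) i (by omega)]
    exact (hzero (i - 1) (by omega)).eq_of_src _ _
  refine ⟨fun i hi => ?_, hmono (c + 1) le_rfl⟩
  have h1 := hmono i (by omega)
  have h2 : Epi ((HF A i).map T.mor₁) := by
    rw [HomologySequence.epi_homologyMap_mor₁_iff _ hT i]
    exact (hzero i hi).eq_of_tgt _ _
  exact isIso_of_mono_of_epi _

/-- If a morphism induces isomorphisms on cohomology in degrees `≤ c` and a monomorphism in degree
`c + 1`, its cone has no cohomology in degrees `≤ c`. -/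
lemma subsingleton_cone_of_isIso_and_mono (c : ℤ) (T : Triangle (Dual.D A))
    (hT : T ∈ distTriang _) (hiso : ∀ i : ℤ, i ≤ c → IsIso ((HF A i).map T.mor₁))
    (hmono : Mono ((HF A (c + 1)).map T.mor₁)) (i : ℤ) (hi : i ≤ c) :
    Subsingleton (Dual.HD A T.obj₃ i) := by
  have ex := HomologySequence.exact₃ T hT i (i + 1) rfl
  have hz : IsZero ((HF A i).obj T.obj₃) := by
    apply ex.isZero_of_both_zeros
    · have : Epi ((HF A i).map T.mor₁) := by
        have := hiso i hi
        infer_instance
      exact (HomologySequence.epi_homologyMap_mor₁_iff _ hT i).mp this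
    · have : Mono ((HF A (i + 1)).map T.mor₁) := by
        rcases eq_or_lt_of_le hi with rfl | h
        · exact hmono
        · have := hiso (i + 1) (by omega)
          infer_instance
      exact (HomologySequence.mono_homologyMap_mor₁_iff _ hT i (i + 1) rfl).mp this
  exact ModuleCat.subsingleton_of_isZero hz

end Groth.Agent.Lib.Helper36.DC
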