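import Mathlib
import Groth.Agent.Lib.Helper36.SingleCompletion
import Groth.Agent.Lib.Helper36.DerivedCompletionCone
import Groth.Agent.Lib.Helper36.DerivedCompletionUnique

/-!
Helper (helper36): cohomology of the derived completion of an object with finite cohomology
modules over a Noetherian ring: `H^n(K^) ≃ AdicCompletion I (H^n K)`.
-/

set_option autoImplicit false
universe u

open CategoryTheory CategoryTheory.Limits CategoryTheory.Pretriangulated DerivedCategory
attribute [local instance] HasDerivedCategory.standard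

namespace Groth.Agent.Lib.Helper36.DC

open Groth.Agent.Lib.Helper36.DCF Groth.Agent.Lib.Helper36.CC Groth.Agent.Lib.Helper12

variable {A : Type u} [CommRing A] (I : Ideal A) [DRing.HasDerivedCompletion I]

/-- The completion of a distinguished triangle is distinguished (for some third morphism). -/
theorem exists_completion_triangle {K L Z : Dual.D A} (φ : K ⟶ L) (β : L ⟶ Z)
    (γ : Z ⟶ K⟦(1 : ℤ)⟧) (hT : Triangle.mk φ β γ ∈ distTriang (Dual.D A)) :
    ∃ γ' : ((DRing.derivedCompletion I).obj Z).obj ⟶
        (((DRing.derivedCompletion I).obj K).obj)⟦(1 : ℤ)⟧,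
      Triangle.mk ((DRing.derivedCompletion I).map φ).hom
        ((DRing.derivedCompletion I).map β).hom γ' ∈ distTriang (Dual.D A) := by
  obtain ⟨Z', β', γ', hT'⟩ :=
    distinguished_cocone_triangle ((DRing.derivedCompletion I).map φ).hom
  obtain ⟨ζ, hζ1, hζ2⟩ : ∃ ζ : Z ⟶ Z', β ≫ ζ = DRing.toDerivedCompletion I L ≫ β' ∧
      γ ≫ (DRing.toDerivedCompletion I K)⟦(1 : ℤ)⟧' = ζ ≫ γ' :=
    complete_distinguished_triangle_morphism _ _ hT hT'
      (DRing.toDerivedCompletion I K) (DRing.toDerivedCompletion I L) (unit_naturality I φ).symm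
  let m : Triangle.mk φ β γ ⟶ Triangle.mk ((DRing.derivedCompletion I).map φ).hom β' γ' :=
    { hom₁ := DRing.toDerivedCompletion I K
      hom₂ := DRing.toDerivedCompletion I L
      hom₃ := ζ
      comm₁ := (unit_naturality I φ).symm
      comm₂ := hζ1
      comm₃ := hζ2 }
  have hZ'c : DRing.IsDerivedComplete I Z' :=
    isDerivedComplete_of_distTriang₃ I _ hT' ((DRing.derivedCompletion I).obj K).property
      ((DRing.derivedCompletion I).obj L).property
  have hU : ∀ E : Dual.D A, DRing.IsDerivedComplete I E →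
      Function.Bijective (fun v : Z' ⟶ E => ζ ≫ v) := fun E hE =>
    bijective_precomp_hom₃ hT hT' m E (bijective_unit_precomp I K E hE)
      (bijective_unit_precomp I L E hE) (bijective_unit_shift_precomp I K E hE)
      (bijective_unit_shift_precomp I L E hE)
  obtain ⟨e, he⟩ := exists_iso_completion I Z Z' ζ hZ'c hU
  have hβ : β' ≫ e.hom = ((DRing.derivedCompletion I).map β).hom := by
    apply hom_ext_completion I ((DRing.derivedCompletion I).obj Z).property
    rw [← Category.assoc, ← hζ1, Category.assoc, he, unit_naturality]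
  refine ⟨e.inv ≫ γ', ?_⟩
  refine isomorphic_distinguished _ hT' _ ?_
  refine Triangle.isoMk _ _ (Iso.refl _) (Iso.refl _) e.symm ?_ ?_ ?_
  · exact (Category.comp_id _).trans (Category.id_comp _).symm
  · show ((DRing.derivedCompletion I).map β).hom ≫ e.inv = 𝟙 _ ≫ β'
    rw [Category.id_comp, ← hβ, Category.assoc, Iso.hom_inv_id, Category.comp_id]
  · show (e.inv ≫ γ') ≫ (𝟙 (((DRing.derivedCompletion I).obj K).obj))⟦(1 : ℤ)⟧' = e.inv ≫ γ'
    rw [CategoryTheory.Functor.map_id, Category.comp_id]

omit [DRing.HasDerivedCompletion I] in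
/-- If `H^{n-1}` and `H^n` of the third vertex vanish, the first morphism is an isomorphism on
`H^n`. -/
lemma isIso_HF_mor₁ (T : Triangle (Dual.D A)) (hT : T ∈ distTriang _) (n : ℤ)
    (h0 : Subsingleton (Dual.HD A T.obj₃ (n - 1))) (h1 : Subsingleton (Dual.HD A T.obj₃ n)) :
    IsIso ((HF A n).map T.mor₁) := by
  have hm : Mono ((HF A n).map T.mor₁) := by
    rw [HomologySequence.mono_homologyMap_mor₁_iff _ hT (n - 1) n (by omega)]
    exact (@ModuleCat.isZero_of_subsingleton _ _ _ h0).eq_of_src _ _
  have he : Epi ((HF A n).map T.mor₁) := by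
    rw [HomologySequence.epi_homologyMap_mor₁_iff _ hT n]
    exact (@ModuleCat.isZero_of_subsingleton _ _ _ h1).eq_of_tgt _ _
  exact isIso_of_mono_of_epi _

omit [DRing.HasDerivedCompletion I] in
/-- If `H^n` and `H^{n+1}` of the first vertex vanish, the second morphism is an isomorphism on
`H^n`. -/
lemma isIso_HF_mor₂ (T : Triangle (Dual.D A)) (hT : T ∈ distTriang _) (n : ℤ)
    (h0 : Subsingleton (Dual.HD A T.obj₁ n)) (h1 : Subsingleton (Dual.HD A T.obj₁ (n + 1))) :
    IsIso ((HF A n).map T.mor₂) := by
  have hm : Mono ((HF A n).map T.mor₂) := by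
    rw [HomologySequence.mono_homologyMap_mor₂_iff _ hT n]
    exact (@ModuleCat.isZero_of_subsingleton _ _ _ h0).eq_of_src _ _
  have he : Epi ((HF A n).map T.mor₂) := by
    rw [HomologySequence.epi_homologyMap_mor₂_iff _ hT n (n + 1) rfl]
    exact (@ModuleCat.isZero_of_subsingleton _ _ _ h1).eq_of_tgt _ _
  exact isIso_of_mono_of_epi _

omit [DRing.HasDerivedCompletion I] in
/-- Vanishing of `H^j` of the middle vertex from the outer ones. -/
lemma subsingleton_HD_obj₂ (T : Triangle (Dual.D A)) (hT : T ∈ distTriang _) (j : ℤ)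
    (h1 : Subsingleton (Dual.HD A T.obj₁ j)) (h3 : Subsingleton (Dual.HD A T.obj₃ j)) :
    Subsingleton (Dual.HD A T.obj₂ j) := by
  have ex2 := HomologySequence.exact₂ _ hT j
  rw [ShortComplex.ShortExact.moduleCat_exact_iff_function_exact] at ex2
  refine ⟨fun a b => ?_⟩
  have key : ∀ y : Dual.HD A T.obj₂ j, y = 0 := by
    intro y
    obtain ⟨x, hx⟩ := (ex2 y).mp (@Subsingleton.elim _ h3 _ _)
    have hx0 : x = 0 := @Subsingleton.elim _ h1 x 0
    rw [← hx, hx0]
    exact map_zero _
  rw [key a, key b]

/-- The property that `H^n` of the derived completion is the adic completion of `H^n`,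
compatibly with the canonical maps. -/
def CompHom (K : Dual.D A) (n : ℤ) : Prop :=
  ∃ e : Dual.HD A ((DRing.derivedCompletion I).obj K).obj n ≃ₗ[A]
      AdicCompletion I (Dual.HD A K n),
    ∀ x : Dual.HD A K n,
      e (((HF A n).map (DRing.toDerivedCompletion I K)).hom x) =
        AdicCompletion.of I (Dual.HD A K n) x

/-- Transfer of `CompHom` along a morphism inducing isomorphisms on `H^n` and on `H^n` of the
completions. -/
theorem CompHom.of_isIso {K L : Dual.D A} (φ : K ⟶ L) (n : ℤ)
    (h1 : IsIso ((HF A n).map φ))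
    (h2 : IsIso ((HF A n).map ((DRing.derivedCompletion I).map φ).hom))
    (hK : CompHom I K n) : CompHom I L n := by
  obtain ⟨e, he⟩ := hK
  let a : Dual.HD A K n ≃ₗ[A] Dual.HD A L n := (asIso ((HF A n).map φ)).toLinearEquiv
  let b : Dual.HD A ((DRing.derivedCompletion I).obj K).obj n ≃ₗ[A]
      Dual.HD A ((DRing.derivedCompletion I).obj L).obj n :=
    (asIso ((HF A n).map ((DRing.derivedCompletion I).map φ).hom)).toLinearEquiv
  let c : AdicCompletion I (Dual.HD A K n) ≃ₗ[A] AdicCompletion I (Dual.HD A L n) :=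
    (AdicCompletion.congr I a).restrictScalars A
  refine ⟨b.symm.trans (e.trans c), fun y => ?_⟩
  obtain ⟨x, rfl⟩ := a.surjective y
  have hnat : ((HF A n).map (DRing.toDerivedCompletion I L)).hom (a x) =
      b (((HF A n).map (DRing.toDerivedCompletion I K)).hom x) := by
    have h3 := congrArg (fun g => (HF A n).map g) (unit_naturality I φ)
    simp only [Functor.map_comp] at h3
    exact (congr($h3 x)).symm
  rw [hnat]
  show c (e (b.symm (b _))) = _
  rw [LinearEquiv.symm_apply_apply, he]
  show AdicCompletion.congr I a (AdicCompletion.of I _ x) = _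
  rw [AdicCompletion.congr_apply, AdicCompletion.map_of]
  rfl

/-- Naturality of `HDSingleEquiv`. -/
lemma HDSingleEquiv_naturality (n : ℤ) {P P' : ModuleCat.{u} A} (η : P ⟶ P')
    (x : Dual.HD A ((singleFunctor (ModuleCat.{u} A) n).obj P) n) :
    HDSingleEquiv n P' (((HF A n).map ((singleFunctor (ModuleCat.{u} A) n).map η)).hom x) =
      η.hom (HDSingleEquiv n P x) := by
  have h := (singleFunctorCompHomologyFunctorIso (ModuleCat.{u} A) n).hom.naturality η
  exact congr($h x)

/-- The single-degree case: an object concentrated in degree `n` with finite `H^n`. -/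
theorem compHom_of_concentrated [IsNoetherianRing A] (X : Dual.D A) (n : ℤ)
    (hX : ∀ j : ℤ, j ≠ n → Subsingleton (Dual.HD A X j))
    (hfin : Module.Finite A (Dual.HD A X n)) :
    (∀ j : ℤ, j ≠ n → Subsingleton (Dual.HD A ((DRing.derivedCompletion I).obj X).obj j)) ∧
      CompHom I X n := by
  obtain ⟨Y, ⟨eX⟩⟩ := exists_iso_single_of_subsingleton n X hX
  -- `Y ≃ H^n(X)`
  let lam : Y ≃ₗ[A] Dual.HD A X n :=
    (HDSingleEquiv n Y).symm.trans ((HF A n).mapIso eX.symm).toLinearEquiv
  have hYfin : Module.Finite A Y := Module.Finite.equiv lam.symm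
  obtain ⟨P, η, hPc, hU, e, he⟩ := exists_single_completion_ideal I n Y
  let C := (singleFunctor (ModuleCat.{u} A) n).obj P
  let ηX : X ⟶ C := eX.hom ≫ (singleFunctor (ModuleCat.{u} A) n).map η
  have hU' : ∀ E : Dual.D A, DRing.IsDerivedComplete I E →
      Function.Bijective (fun v : C ⟶ E => ηX ≫ v) := by
    intro E hE
    have hb3 : Function.Bijective
        (fun v : (singleFunctor (ModuleCat.{u} A) n).obj Y ⟶ E => eX.hom ≫ v) :=
      ⟨fun v v' hvv => (cancel_epi eX.hom).mp hvv, fun w => ⟨eX.inv ≫ w, by simp⟩⟩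
    have : (fun v : C ⟶ E => ηX ≫ v) = (fun v => eX.hom ≫ v) ∘
        (fun v : C ⟶ E => (singleFunctor (ModuleCat.{u} A) n).map η ≫ v) := by
      funext v
      simp only [Function.comp_apply, ηX, Category.assoc]
    rw [this]
    exact hb3.comp (hU E hE)
  obtain ⟨ec, hec⟩ := exists_iso_completion I X C ηX hPc hU'
  refine ⟨fun j hj => ?_, ?_⟩
  · have h1 : Subsingleton (Dual.HD A C j) := subsingleton_HD_single n P j hj
    let l := ((HF A j).mapIso ec).toLinearEquiv
    exact @Equiv.subsingleton _ _ l.symm.toEquiv h1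
  · let l : Dual.HD A ((DRing.derivedCompletion I).obj X).obj n ≃ₗ[A] Dual.HD A C n :=
      ((HF A n).mapIso ec.symm).toLinearEquiv
    let c : AdicCompletion I Y ≃ₗ[A] AdicCompletion I (Dual.HD A X n) :=
      (AdicCompletion.congr I lam).restrictScalars A
    refine ⟨l.trans ((HDSingleEquiv n P).trans (e.trans c)), fun x => ?_⟩
    -- compute
    have h1 : l (((HF A n).map (DRing.toDerivedCompletion I X)).hom x) =
        ((HF A n).map ((singleFunctor (ModuleCat.{u} A) n).map η)).hom
          (((HF A n).map eX.hom).hom x) := by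
      rw [← hec]
      simp only [ηX, Functor.map_comp]
      show ((HF A n).map ec.inv).hom (((HF A n).map ec.hom).hom _) = _
      have h2 : (HF A n).map ec.hom ≫ (HF A n).map ec.inv = 𝟙 _ := by
        rw [← Functor.map_comp, Iso.hom_inv_id, CategoryTheory.Functor.map_id]
      have h3 := congr($h2 (((HF A n).map ((singleFunctor (ModuleCat.{u} A) n).map η)).hom
          (((HF A n).map eX.hom).hom x)))
      exact h3
    show c (e (HDSingleEquiv n P (l _))) = _
    rw [h1, HDSingleEquiv_naturality, he]
    show AdicCompletion.congr I lam (AdicCompletion.of I _ _) = _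
    rw [AdicCompletion.congr_apply, AdicCompletion.map_of]
    congr 1
    show ((HF A n).map eX.inv).hom ((HDSingleEquiv n Y).symm
      (HDSingleEquiv n Y (((HF A n).map eX.hom).hom x))) = x
    rw [LinearEquiv.symm_apply_apply]
    have h2 : (HF A n).map eX.hom ≫ (HF A n).map eX.inv = 𝟙 _ := by
      rw [← Functor.map_comp, Iso.hom_inv_id, CategoryTheory.Functor.map_id]
    exact congr($h2 x)

/-- The reverse transfer of `CompHom`. -/
theorem CompHom.of_isIso' {K L : Dual.D A} (φ : K ⟶ L) (n : ℤ)
    (h1 : IsIso ((HF A n).map φ))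
    (h2 : IsIso ((HF A n).map ((DRing.derivedCompletion I).map φ).hom))
    (hL : CompHom I L n) : CompHom I K n := by
  obtain ⟨e, he⟩ := hL
  let a : Dual.HD A K n ≃ₗ[A] Dual.HD A L n := (asIso ((HF A n).map φ)).toLinearEquiv
  let b : Dual.HD A ((DRing.derivedCompletion I).obj K).obj n ≃ₗ[A]
      Dual.HD A ((DRing.derivedCompletion I).obj L).obj n :=
    (asIso ((HF A n).map ((DRing.derivedCompletion I).map φ).hom)).toLinearEquiv
  let c : AdicCompletion I (Dual.HD A L n) ≃ₗ[A] AdicCompletion I (Dual.HD A K n) :=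
    (AdicCompletion.congr I a.symm).restrictScalars A
  refine ⟨b.trans (e.trans c), fun x => ?_⟩
  have hnat : b (((HF A n).map (DRing.toDerivedCompletion I K)).hom x) =
      ((HF A n).map (DRing.toDerivedCompletion I L)).hom (a x) := by
    have h3 := congrArg (fun g => (HF A n).map g) (unit_naturality I φ)
    simp only [Functor.map_comp] at h3
    exact congr($h3 x)
  show c (e (b _)) = _
  rw [hnat, he]
  show AdicCompletion.congr I a.symm (AdicCompletion.of I _ (a x)) = _
  rw [AdicCompletion.congr_apply, AdicCompletion.map_of]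
  congr 1
  exact a.symm_apply_apply x

omit [DRing.HasDerivedCompletion I] in
lemma subsingleton_HD_truncLT (K : Dual.D A) (b i : ℤ) (hi : b ≤ i) :
    Subsingleton (Dual.HD A (truncTriangle K b).obj₁ i) :=
  ModuleCat.subsingleton_of_isZero (isZero_HF_truncLT K b i hi)

omit [DRing.HasDerivedCompletion I] in
lemma subsingleton_HD_truncGE (K : Dual.D A) (b i : ℤ) (hi : i < b) :
    Subsingleton (Dual.HD A (truncTriangle K b).obj₃ i) :=
  ModuleCat.subsingleton_of_isZero (isZero_HF_truncGE K b i hi)

omit [DRing.HasDerivedCompletion I] in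
lemma subsingleton_HD_truncLT_of (K : Dual.D A) (b i : ℤ) (h : Subsingleton (Dual.HD A K i)) :
    Subsingleton (Dual.HD A (truncTriangle K b).obj₁ i) := by
  by_cases hi : b ≤ i
  · exact subsingleton_HD_truncLT K b i hi
  · exact @Equiv.subsingleton _ _
      (HFTruncLTIso K b i (by omega)).toLinearEquiv.toEquiv h

omit [DRing.HasDerivedCompletion I] in
lemma subsingleton_HD_truncGE_of (K : Dual.D A) (b i : ℤ) (h : Subsingleton (Dual.HD A K i)) :
    Subsingleton (Dual.HD A (truncTriangle K b).obj₃ i) := by
  by_cases hi : i < b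
  · exact subsingleton_HD_truncGE K b i hi
  · exact @Equiv.subsingleton _ _
      (HFTruncGEIso K b i (by omega)).toLinearEquiv.symm.toEquiv h

omit [DRing.HasDerivedCompletion I] in
lemma finite_HD_truncLT (K : Dual.D A) (b : ℤ) (hK : ∀ j : ℤ, Module.Finite A (Dual.HD A K j))
    (i : ℤ) : Module.Finite A (Dual.HD A (truncTriangle K b).obj₁ i) := by
  by_cases hi : b ≤ i
  · have := subsingleton_HD_truncLT K b i hi
    infer_instance
  · have : Module.Finite A ((HF A i).obj (truncTriangle K b).obj₂) := hK i
    exact Module.Finite.equiv (HFTruncLTIso K b i (by omega)).toLinearEquiv.symm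

omit [DRing.HasDerivedCompletion I] in
lemma finite_HD_truncGE (K : Dual.D A) (b : ℤ) (hK : ∀ j : ℤ, Module.Finite A (Dual.HD A K j))
    (i : ℤ) : Module.Finite A (Dual.HD A (truncTriangle K b).obj₃ i) := by
  by_cases hi : i < b
  · have := subsingleton_HD_truncGE K b i hi
    infer_instance
  · have : Module.Finite A ((HF A i).obj (truncTriangle K b).obj₂) := hK i
    exact Module.Finite.equiv (HFTruncGEIso K b i (by omega)).toLinearEquiv

/-- For a bounded object with finite cohomology, the completion has no cohomology below the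
lower bound. -/
theorem subsingleton_HD_completion_of_bounded [IsNoetherianRing A] : ∀ (d : ℕ) (a : ℤ)
    (Y : Dual.D A), (∀ j : ℤ, j < a ∨ a + d < j → Subsingleton (Dual.HD A Y j)) →
    (∀ j : ℤ, Module.Finite A (Dual.HD A Y j)) →
    ∀ j : ℤ, j < a → Subsingleton (Dual.HD A ((DRing.derivedCompletion I).obj Y).obj j) := by
  intro d
  induction d with
  | zero =>
    intro a Y hY hfin j hj
    refine (compHom_of_concentrated I Y a (fun j hj => hY j ?_) (hfin a)).1 j (ne_of_lt hj)
    rcases lt_or_gt_of_ne hj with h | h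
    · exact Or.inl h
    · exact Or.inr (by simpa using h)
  | succ d ih =>
    intro a Y hY hfin j hj
    have hT := truncTriangle_distinguished Y (a + 1)
    obtain ⟨γ', hT'⟩ := exists_completion_triangle I (truncTriangle Y (a + 1)).mor₁
      (truncTriangle Y (a + 1)).mor₂ (truncTriangle Y (a + 1)).mor₃ hT
    have h1 : Subsingleton (Dual.HD A
        ((DRing.derivedCompletion I).obj (truncTriangle Y (a + 1)).obj₁).obj j) := by
      refine (compHom_of_concentrated I (truncTriangle Y (a + 1)).obj₁ a (fun i hi => ?_)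
        (finite_HD_truncLT Y (a + 1) hfin a)).1 j (ne_of_lt hj)
      rcases lt_or_gt_of_ne hi with h | h
      · exact subsingleton_HD_truncLT_of Y (a + 1) i (hY i (Or.inl h))
      · exact subsingleton_HD_truncLT Y (a + 1) i (by omega)
    have h3 : Subsingleton (Dual.HD A
        ((DRing.derivedCompletion I).obj (truncTriangle Y (a + 1)).obj₃).obj j) := by
      refine ih (a + 1) (truncTriangle Y (a + 1)).obj₃ (fun i hi => ?_)
        (finite_HD_truncGE Y (a + 1) hfin) j (by omega)
      rcases hi with h | h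
      · exact subsingleton_HD_truncGE Y (a + 1) i h
      · refine subsingleton_HD_truncGE_of Y (a + 1) i (hY i (Or.inr ?_))
        push_cast
        omega
    exact subsingleton_HD_obj₂ _ hT' j h1 h3

/-- Main theorem: over a Noetherian ring, `H^n` of the derived completion of an object with
finite cohomology modules is the adic completion of `H^n`. -/
theorem compHom_of_finite [IsNoetherianRing A] (K : Dual.D A)
    (hK : ∀ j : ℤ, Module.Finite A (Dual.HD A K j)) (n : ℤ) : CompHom I K n := by
  obtain ⟨s, hs⟩ := IsNoetherian.noetherian I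
  -- Step A: truncate above
  let b₁ : ℤ := n + s.card + 2
  let K₁ := (truncTriangle K b₁).obj₁
  have hK₁fin : ∀ j : ℤ, Module.Finite A (Dual.HD A K₁ j) := finite_HD_truncLT K b₁ hK
  suffices hA : CompHom I K₁ n by
    have hT := truncTriangle_distinguished K b₁
    obtain ⟨γ', hT'⟩ := exists_completion_triangle I (truncTriangle K b₁).mor₁
      (truncTriangle K b₁).mor₂ (truncTriangle K b₁).mor₃ hT
    have hlow := (subsingleton_HD_completion I s hs (truncTriangle K b₁).obj₃).1 b₁
      (fun i hi => subsingleton_HD_truncGE K b₁ i hi)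
    have h2 := isIso_HF_mor₁ _ hT' n (hlow (n - 1) (by omega)) (hlow n (by omega))
    exact CompHom.of_isIso I (truncTriangle K b₁).mor₁ n
      (isIso_HF_truncLTι K b₁ n (by omega)) h2 hA
  -- Step B: truncate below
  let K₂ := (truncTriangle K₁ n).obj₃
  have hK₂fin : ∀ j : ℤ, Module.Finite A (Dual.HD A K₂ j) := finite_HD_truncGE K₁ n hK₁fin
  suffices hB : CompHom I K₂ n by
    have hT := truncTriangle_distinguished K₁ n
    obtain ⟨γ', hT'⟩ := exists_completion_triangle I (truncTriangle K₁ n).mor₁
      (truncTriangle K₁ n).mor₂ (truncTriangle K₁ n).mor₃ hT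
    have hhigh := (subsingleton_HD_completion I s hs (truncTriangle K₁ n).obj₁).2 (n - 1)
      (fun i hi => subsingleton_HD_truncLT K₁ n i (by omega))
    have h2 := isIso_HF_mor₂ _ hT' n (hhigh n (by omega)) (hhigh (n + 1) (by omega))
    exact CompHom.of_isIso' I (truncTriangle K₁ n).mor₂ n
      (isIso_HF_truncGEπ K₁ n n le_rfl) h2 hB
  -- Step C: split off the bottom cohomology
  have hK₂low : ∀ j : ℤ, j < n → Subsingleton (Dual.HD A K₂ j) := fun j hj =>
    subsingleton_HD_truncGE K₁ n j hj
  have hK₂high : ∀ j : ℤ, b₁ ≤ j → Subsingleton (Dual.HD A K₂ j) := fun j hj =>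
    subsingleton_HD_truncGE_of K₁ n j (subsingleton_HD_truncLT K b₁ j hj)
  let K₃ := (truncTriangle K₂ (n + 1)).obj₁
  suffices hC : CompHom I K₃ n by
    have hT := truncTriangle_distinguished K₂ (n + 1)
    obtain ⟨γ', hT'⟩ := exists_completion_triangle I (truncTriangle K₂ (n + 1)).mor₁
      (truncTriangle K₂ (n + 1)).mor₂ (truncTriangle K₂ (n + 1)).mor₃ hT
    have hlow := subsingleton_HD_completion_of_bounded I s.card (n + 1)
      (truncTriangle K₂ (n + 1)).obj₃ (fun j hj => by
        rcases hj with h | h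
        · exact subsingleton_HD_truncGE K₂ (n + 1) j h
        · exact subsingleton_HD_truncGE_of K₂ (n + 1) j (hK₂high j (by omega)))
      (finite_HD_truncGE K₂ (n + 1) hK₂fin)
    have h2 := isIso_HF_mor₁ _ hT' n (hlow (n - 1) (by omega)) (hlow n (by omega))
    exact CompHom.of_isIso I (truncTriangle K₂ (n + 1)).mor₁ n
      (isIso_HF_truncLTι K₂ (n + 1) n (by omega)) h2 hC
  -- Step D: the single-degree case
  refine (compHom_of_concentrated I K₃ n (fun j hj => ?_)
    (finite_HD_truncLT K₂ (n + 1) hK₂fin n)).2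
  rcases lt_or_gt_of_ne hj with h | h
  · exact subsingleton_HD_truncLT_of K₂ (n + 1) j (hK₂low j h)
  · exact subsingleton_HD_truncLT K₂ (n + 1) j (by omega)

end Groth.Agent.Lib.Helper36.DC
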