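import Mathlib
import Groth.Agent.Lib.Helper36.DerivedComplete8
import Groth.Prelude.Def_DDual2

/-!
Helper (helper36): cohomology of restriction of scalars `D(B) ⥤ D(A)`, and derived completeness
under restriction of scalars.
-/

set_option autoImplicit false
universe u
open CategoryTheory CategoryTheory.Limits

namespace Groth.Agent.Lib.Helper36.DC

attribute [local instance] HasDerivedCategory.standard

section restrict
variable {A B : Type u} [CommRing A] [CommRing B] (φ : A →+* B)

lemma nonempty_iso_HD_restrictD (L : Dual.D B) (i : ℤ) :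
    Nonempty ((DerivedCategory.homologyFunctor (ModuleCat.{u} A) i).obj ((DRing.restrictD φ).obj L) ≅
      (ModuleCat.restrictScalars.{u} φ).obj
        ((DerivedCategory.homologyFunctor (ModuleCat.{u} B) i).obj L)) := by
  let F := ModuleCat.restrictScalars.{u} φ
  let E := DerivedCategory.Q.objPreimage L
  let e : DerivedCategory.Q.obj E ≅ L := DerivedCategory.Q.objObjPreimageIso L
  let iso1 := (DerivedCategory.homologyFunctor (ModuleCat.{u} A) i).mapIso
    ((DRing.restrictD φ).mapIso e.symm)
  let iso2 := (DerivedCategory.homologyFunctor (ModuleCat.{u} A) i).mapIso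
    (F.mapDerivedCategoryFactors.app E)
  let iso3 := (DerivedCategory.homologyFunctorFactors (ModuleCat.{u} A) i).app
    ((F.mapHomologicalComplex (ComplexShape.up ℤ)).obj E)
  let iso4 : (((F.mapHomologicalComplex (ComplexShape.up ℤ)).obj E).homology i) ≅
      F.obj (E.homology i) := (E.sc i).mapHomologyIso F
  let iso5 := F.mapIso ((DerivedCategory.homologyFunctorFactors (ModuleCat.{u} B) i).app E).symm
  let iso6 := F.mapIso ((DerivedCategory.homologyFunctor (ModuleCat.{u} B) i).mapIso e)
  exact ⟨iso1 ≪≫ iso2 ≪≫ iso3 ≪≫ iso4 ≪≫ iso5 ≪≫ iso6⟩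

lemma seqComplete_restrictScalars_iff (N : ModuleCat.{u} B) (f : A) :
    SeqComplete f ((ModuleCat.restrictScalars.{u} φ).obj N) ↔ SeqComplete (φ f) N := by
  constructor
  · intro h
    exact ⟨fun m hm i => h.1 m (fun i => hm i) i, fun c => h.2 c⟩
  · intro h
    exact ⟨fun m hm i => h.1 m (fun i => hm i) i, fun c => h.2 c⟩

lemma seqComplete_HD_restrictD_iff (L : Dual.D B) (i : ℤ) (f : A) :
    SeqComplete f (Dual.HD A ((DRing.restrictD φ).obj L) i) ↔
      SeqComplete (φ f) (Dual.HD B L i) := by
  obtain ⟨e⟩ := nonempty_iso_HD_restrictD φ L i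
  rw [← seqComplete_restrictScalars_iff φ]
  exact ⟨fun h => h.of_linearEquiv e.toLinearEquiv, fun h => h.of_linearEquiv e.symm.toLinearEquiv⟩

/-- Derived completeness and restriction of scalars. -/
theorem isDerivedComplete_restrictD_iff (I : Ideal A) (L : Dual.D B) :
    DRing.IsDerivedComplete (I.map φ) L ↔ DRing.IsDerivedComplete I ((DRing.restrictD φ).obj L) := by
  classical
  constructor
  · intro h f hf
    refine (forall_subsingleton_hom_iff f _).mpr (fun i => ?_)
    rw [seqComplete_HD_restrictD_iff]
    exact (forall_subsingleton_hom_iff (φ f) L).mp (h (φ f) (Ideal.mem_map_of_mem φ hf)) i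
  · intro h g hg
    refine (forall_subsingleton_hom_iff g L).mpr (fun i => ?_)
    have hg' : g ∈ Ideal.span (φ '' (I : Set A)) := hg
    obtain ⟨t, ht, hgt⟩ := Submodule.mem_span_finite_of_mem_span hg'
    refine seqComplete_of_mem_span t (fun x hx => ?_) hgt
    obtain ⟨f, hf, rfl⟩ := ht hx
    rw [← seqComplete_HD_restrictD_iff]
    exact (forall_subsingleton_hom_iff f _).mp (h f hf) i

end restrict

end Groth.Agent.Lib.Helper36.DC
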