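import Mathlib
import Groth.Agent.Lib.Helper36.DerivedCompletionFormal2

/-!
Helper (helper36): derived completion (assumed to exist) preserves the class of morphisms which
induce isomorphisms on cohomology in degrees `> b` and an epimorphism in degree `b`.
-/

set_option autoImplicit false
universe u

open CategoryTheory CategoryTheory.Limits CategoryTheory.Pretriangulated
attribute [local instance] HasDerivedCategory.standard

namespace Groth.Agent.Lib.Helper36.DCF

open Groth.Agent.Lib.Helper36.DC Groth.Agent.Lib.Helper12 DerivedCategory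

variable {A : Type u} [CommRing A] (I : Ideal A)

/-- The cone of a morphism inducing isomorphisms on `H^i` for `i > b` and an epimorphism on `H^b`
has no cohomology in degrees `≥ b`. -/
lemma isZero_HF_cone (b : ℤ) (T : Triangle (Dual.D A)) (hT : T ∈ distTriang _)
    (hiso : ∀ i : ℤ, b < i → IsIso ((HF A i).map T.mor₁)) (hepi : Epi ((HF A b).map T.mor₁))
    (i : ℤ) (hi : b ≤ i) : IsZero ((HF A i).obj T.obj₃) := by
  have ex := HomologySequence.exact₃ T hT i (i + 1) rfl
  apply ex.isZero_of_both_zeros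
  · have : Epi ((HF A i).map T.mor₁) := by
      rcases eq_or_lt_of_le hi with rfl | h
      · exact hepi
      · have := hiso i h
        infer_instance
    exact (HomologySequence.epi_homologyMap_mor₁_iff _ hT i).mp this
  · have : Mono ((HF A (i + 1)).map T.mor₁) := by
      have := hiso (i + 1) (by omega)
      infer_instance
    exact (HomologySequence.mono_homologyMap_mor₁_iff _ hT i (i + 1) rfl).mp this

/-- Converse of `isZero_HF_cone`. -/
lemma isIso_and_epi_of_isZero_HF_cone (b : ℤ) (T : Triangle (Dual.D A)) (hT : T ∈ distTriang _)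
    (hZ : ∀ i : ℤ, b ≤ i → IsZero ((HF A i).obj T.obj₃)) :
    (∀ i : ℤ, b < i → IsIso ((HF A i).map T.mor₁)) ∧ Epi ((HF A b).map T.mor₁) := by
  have hepi : ∀ i : ℤ, b ≤ i → Epi ((HF A i).map T.mor₁) := by
    intro i hi
    rw [HomologySequence.epi_homologyMap_mor₁_iff _ hT i]
    exact (hZ i hi).eq_of_tgt _ _
  refine ⟨fun i hi => ?_, hepi b le_rfl⟩
  have h1 : Mono ((HF A i).map T.mor₁) := by
    rw [HomologySequence.mono_homologyMap_mor₁_iff _ hT (i - 1) i (by omega)]
    exact (hZ (i - 1) (by omega)).eq_of_src _ _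
  have h2 := hepi i hi.le
  exact isIso_of_mono_of_epi _

variable [DRing.HasDerivedCompletion I]

theorem completion_preserves (b : ℤ) {K L : Dual.D A} (φ : K ⟶ L)
    (hiso : ∀ i : ℤ, b < i → IsIso ((HF A i).map φ)) (hepi : Epi ((HF A b).map φ)) :
    (∀ i : ℤ, b < i → IsIso ((HF A i).map ((DRing.derivedCompletion I).map φ).hom)) ∧
      Epi ((HF A b).map ((DRing.derivedCompletion I).map φ).hom) := by
  obtain ⟨Z, β, γ, hT⟩ := distinguished_cocone_triangle φ
  have hZ : ∀ i : ℤ, b ≤ i → IsZero ((HF A i).obj Z) :=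
    isZero_HF_cone b (Triangle.mk φ β γ) hT hiso hepi
  have hZle : TStructure.t.IsLE Z (b - 1) := by
    show Z.IsLE (b - 1)
    rw [isLE_iff]
    intro i hi
    exact hZ i (by omega)
  set φ' := ((DRing.derivedCompletion I).map φ).hom with hφ'
  obtain ⟨Z', β', γ', hT'⟩ := distinguished_cocone_triangle φ'
  have hZ'c : DRing.IsDerivedComplete I Z' :=
    isDerivedComplete_of_distTriang₃ I (Triangle.mk φ' β' γ') hT'
      ((DRing.derivedCompletion I).obj K).property ((DRing.derivedCompletion I).obj L).property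
  have claimA : ∀ E : Dual.D A, DRing.IsDerivedComplete I E → TStructure.t.IsGE E b →
      ∀ z : Z' ⟶ E, z = 0 := by
    intro E hE hEge z
    have h1 : β' ≫ z = 0 := by
      apply completion_precomp_injective I φ hE _ (β' ≫ z)
      · rw [← hφ', ← Category.assoc]
        have h12 : φ' ≫ β' = 0 := comp_distTriang_mor_zero₁₂ _ hT'
        rw [h12]
        exact zero_comp
      · intro v hv
        obtain ⟨w, hw⟩ : ∃ w : Z ⟶ E, v = β ≫ w :=
          Triangle.yoneda_exact₂ (Triangle.mk φ β γ) hT v hv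
        have hw0 : w = 0 := TStructure.t.zero w (b - 1) b
        rw [hw, hw0]
        exact comp_zero
    obtain ⟨w, hw⟩ : ∃ w : (((DRing.derivedCompletion I).obj K).obj)⟦(1 : ℤ)⟧ ⟶ E, z = γ' ≫ w :=
      Triangle.yoneda_exact₃ (Triangle.mk φ' β' γ') hT' z h1
    -- shift
    let e : (E⟦(-1 : ℤ)⟧)⟦(1 : ℤ)⟧ ≅ E :=
      (shiftFunctorCompIsoId (Dual.D A) (-1 : ℤ) 1 (by omega)).app E
    obtain ⟨u, hu⟩ : ∃ u : ((DRing.derivedCompletion I).obj K).obj ⟶ E⟦(-1 : ℤ)⟧,
        u⟦(1 : ℤ)⟧' = w ≫ e.inv := (shiftFunctor (Dual.D A) (1 : ℤ)).map_surjective (w ≫ e.inv)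
    have hE' : DRing.IsDerivedComplete I (E⟦(-1 : ℤ)⟧) := isDerivedComplete_shift I E hE (-1)
    have hE'ge : TStructure.t.IsGE (E⟦(-1 : ℤ)⟧) (b + 1) :=
      TStructure.t.isGE_shift E b (-1) (b + 1) (by omega)
    have hsurj : ∀ u : K ⟶ E⟦(-1 : ℤ)⟧, ∃ g : L ⟶ E⟦(-1 : ℤ)⟧, φ ≫ g = u := by
      intro u
      have hTi := inv_rot_of_distTriang _ hT
      have hZs : TStructure.t.IsLE (Z⟦(-1 : ℤ)⟧) b :=
        TStructure.t.isLE_shift Z (b - 1) (-1) b (by omega)
      obtain ⟨g, hg⟩ : ∃ g : L ⟶ E⟦(-1 : ℤ)⟧, u = φ ≫ g :=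
        Triangle.yoneda_exact₂ _ hTi u
          (TStructure.t.zero_of_isLE_of_isGE _ b (b + 1) (by omega) hZs hE'ge)
      exact ⟨g, hg.symm⟩
    obtain ⟨g', hg'⟩ := completion_precomp_surjective I φ hE' hsurj u
    have hw2 : w = φ'⟦(1 : ℤ)⟧' ≫ g'⟦(1 : ℤ)⟧' ≫ e.hom := by
      have h5 : (w ≫ e.inv) ≫ e.hom = w := by
        rw [Category.assoc, Iso.inv_hom_id]
        exact Category.comp_id _
      rw [← h5, ← hu, ← hg', ← hφ', Functor.map_comp, Category.assoc]
    rw [hw, hw2, ← Category.assoc]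
    have h31 : γ' ≫ φ'⟦(1 : ℤ)⟧' = 0 := comp_distTriang_mor_zero₃₁ _ hT'
    rw [h31]
    exact zero_comp
  -- apply to the truncation
  have hp : (truncTriangle Z' b).mor₂ = 0 :=
    claimA _ (isDerivedComplete_truncGE I Z' hZ'c b) inferInstance _
  have hZ' : ∀ i : ℤ, b ≤ i → IsZero ((HF A i).obj Z') := by
    intro i hi
    have h1 := isIso_HF_truncGEπ Z' b i hi
    rw [hp, Functor.map_zero] at h1
    rw [IsZero.iff_id_eq_zero]
    have h2 := IsIso.hom_inv_id (0 : (HF A i).obj (truncTriangle Z' b).obj₂ ⟶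
      (HF A i).obj (truncTriangle Z' b).obj₃)
    rw [zero_comp] at h2
    exact h2.symm
  exact isIso_and_epi_of_isZero_HF_cone b (Triangle.mk φ' β' γ') hT' hZ'

end Groth.Agent.Lib.Helper36.DCF
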