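import Mathlib
import Groth.Prelude.Def_DTen3
import Groth.Agent.Lib.Helper36.HomCxKProj
import Groth.Agent.Lib.Helper46.DTenMid

/-!
# A chain-level model of the internal hom of `D(A)` (helper36)

Namespace `Groth.Agent.Lib.Helper36.RHM`.

For a K-projective complex `P` and any complex `L₀`, the comparison map
`cmp P L₀ : Q (Hom•(P, L₀)) ⟶ RHom(Q P, Q L₀)` (adjunct of `ε ≫ Q(evaluation)`) is an isomorphism
(`isIso_cmp`), and it is natural in `P` (`cmp_naturality`).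
-/

set_option autoImplicit false
universe u
open CategoryTheory CategoryTheory.Limits MonoidalCategory HomologicalComplex CochainComplex
attribute [local instance] HasDerivedCategory.standard

namespace Groth.Agent.Lib.Helper36.RHM

open Groth.Agent.Lib.Helper36.HCA Groth.Agent.Lib.Helper46.DTenKProj
  Groth.Agent.Lib.Helper46.DTenAssoc Groth.Agent.Lib.Helper46.DTenUnitShift DerivedCategory

variable (A : Type u) [CommRing A] [DTen.HasLTen A] [DTen.HasRHom A]

/-- the comparison map from the Hom complex to the internal hom of `D(A)` -/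
noncomputable def cmp (P L₀ : DRing.Cx A) :
    (Q.obj (DRing.homCx P L₀) : Dual.D A) ⟶ (DTen.RHomR A (Q.obj P)).obj (Q.obj L₀) :=
  DTen.rhomHomEquiv _ _ _ ((DTen.ε A).app (DRing.homCx P L₀, P) ≫ Q.map (evCx P L₀))

lemma comp_cmp (P L₀ : DRing.Cx A) {W : Dual.D A} (x : W ⟶ Q.obj (DRing.homCx P L₀)) :
    x ≫ cmp A P L₀ = DTen.rhomHomEquiv _ _ _
      ((DTen.LTen₂ A).map (Prod.mkHom x (𝟙 (Q.obj P))) ≫
        (DTen.ε A).app (DRing.homCx P L₀, P) ≫ Q.map (evCx P L₀)) :=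
  ((DTen.rhomAdj A (Q.obj P)).homEquiv_naturality_left x _).symm

lemma Qmap_comp_cmp (P L₀ : DRing.Cx A) {X : DRing.Cx A} (ψ : X ⟶ DRing.homCx P L₀) :
    Q.map ψ ≫ cmp A P L₀ = DTen.rhomHomEquiv _ _ _
      ((DTen.ε A).app (X, P) ≫ Q.map (uncurry ψ)) := by
  rw [comp_cmp, ← Category.assoc, ε_nat_left, Category.assoc, ← Functor.map_comp, ← uncurry_eq]

theorem isIso_cmp (P L₀ : DRing.Cx A) [P.IsKProjective] : IsIso (cmp A P L₀) := by
  apply isIso_of_yoneda_map_bijective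
  intro W
  obtain ⟨X, hX, ⟨e⟩⟩ := exists_kproj_iso W
  have := hX
  have hε : IsIso ((DTen.ε A).app (X, P)) := isIso_ε_left A X P
  suffices h : Function.Bijective
      (fun x : (Q.obj X : Dual.D A) ⟶ Q.obj (DRing.homCx P L₀) => x ≫ cmp A P L₀) by
    constructor
    · intro x x' hxx
      have : (e.hom ≫ x) ≫ cmp A P L₀ = (e.hom ≫ x') ≫ cmp A P L₀ := by
        simp only [Category.assoc]
        exact congrArg (e.hom ≫ ·) hxx
      exact (cancel_epi e.hom).1 (h.1 this)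
    · intro z
      obtain ⟨y, hy⟩ := h.2 (e.hom ≫ z)
      refine ⟨e.inv ≫ y, ?_⟩
      dsimp only at hy ⊢
      rw [Category.assoc, hy, Iso.inv_hom_id_assoc]
  constructor
  · intro x x' hxx
    obtain ⟨ψ, rfl⟩ := exists_Q_map_eq x
    obtain ⟨ψ', rfl⟩ := exists_Q_map_eq x'
    dsimp only at hxx
    rw [Qmap_comp_cmp, Qmap_comp_cmp] at hxx
    have h1 : (Q.map (uncurry ψ) : (Q.obj (X ⊗ P) : Dual.D A) ⟶ _) = Q.map (uncurry ψ') :=
      (cancel_epi _).1 ((DTen.rhomHomEquiv _ _ _).injective hxx)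
    obtain ⟨H⟩ := nonempty_homotopy_of_Q_map_eq (S := X ⊗ P) _ _ h1
    have H' : Homotopy ψ ψ' :=
      (Homotopy.ofEq (curry_uncurry ψ).symm).trans
        ((homotopyCurry H).trans (Homotopy.ofEq (curry_uncurry ψ')))
    exact DerivedCategory.Q_map_eq_of_homotopy _ H'
  · intro z
    obtain ⟨f, hf⟩ := exists_Q_map_eq (S := X ⊗ P) (L := L₀)
      (inv ((DTen.ε A).app (X, P)) ≫ (DTen.rhomHomEquiv _ _ _).symm z)
    refine ⟨Q.map (curry f), ?_⟩
    dsimp only
    rw [Qmap_comp_cmp, uncurry_curry, hf, IsIso.hom_inv_id_assoc, Equiv.apply_symm_apply]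

lemma cmp_fac (P L₀ : DRing.Cx A) :
    (DTen.LTen₂ A).map (Prod.mkHom (cmp A P L₀) (𝟙 (Q.obj P))) ≫ DTen.ev (Q.obj P) (Q.obj L₀) =
      (DTen.ε A).app (DRing.homCx P L₀, P) ≫ Q.map (evCx P L₀) :=
  ((DTen.rhomAdj A (Q.obj P)).homEquiv _ _).left_inv _

/-- naturality of the comparison map in the first variable -/
theorem cmp_naturality {P P' : DRing.Cx A} (g : P' ⟶ P) (L₀ : DRing.Cx A) :
    cmp A P L₀ ≫ DTen.RHomMap (Q.map g) (Q.obj L₀) = Q.map (homCxPre g L₀) ≫ cmp A P' L₀ := by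
  apply (DTen.rhomHomEquiv _ _ _).symm.injective
  rw [Qmap_comp_cmp, Equiv.symm_apply_apply]
  have h0 : uncurry (homCxPre g L₀) = (DRing.homCx P L₀ ◁ g) ≫ evCx P L₀ := by
    have := uncurry_comp_homCxPre g (𝟙 (DRing.homCx P L₀))
    rw [Category.id_comp] at this
    exact this
  rw [h0, Functor.map_comp, ← Category.assoc, ← ε_nat_right, Category.assoc, ← cmp_fac]
  have h1 : (DTen.rhomHomEquiv _ _ _).symm (cmp A P L₀ ≫ DTen.RHomMap (Q.map g) (Q.obj L₀)) =
      (DTen.LTen₂ A).map (Prod.mkHom (cmp A P L₀) (𝟙 (Q.obj P'))) ≫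
        (DTen.LTen₂ A).map (Prod.mkHom (DTen.RHomMap (Q.map g) (Q.obj L₀)) (𝟙 (Q.obj P'))) ≫
          DTen.ev (Q.obj P') (Q.obj L₀) := by
    rw [← Category.assoc, ← Functor.map_comp]
    have e : (Prod.mkHom (cmp A P L₀) (𝟙 (Q.obj P')) ≫
        Prod.mkHom (DTen.RHomMap (Q.map g) (Q.obj L₀)) (𝟙 (Q.obj P')) :
        ((Q.obj (DRing.homCx P L₀), Q.obj P') : Dual.D A × Dual.D A) ⟶ _) =
        Prod.mkHom (cmp A P L₀ ≫ DTen.RHomMap (Q.map g) (Q.obj L₀)) (𝟙 (Q.obj P')) :=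
      CategoryTheory.Prod.hom_ext (by simp) (by simp)
    rw [e]
    exact (DTen.rhomAdj A (Q.obj P')).homEquiv_counit _ _ _
  rw [h1, DTen.RHom_map_ev, ← Category.assoc, ← Category.assoc, ← Functor.map_comp,
    ← Functor.map_comp]
  congr 2
  exact CategoryTheory.Prod.hom_ext (by simp) (by simp)

end Groth.Agent.Lib.Helper36.RHM
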