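import Mathlib
import Groth.Prelude.Def_DTen3
import Groth.Agent.Lib.Helper36.RHomModel

/-!
# `evalHom K L M` as a natural transformation in `K`; middle exactness of both sides (helper36)

Namespace `Groth.Agent.Lib.Helper36.EHN`.
-/

set_option autoImplicit false
universe u
open CategoryTheory CategoryTheory.Limits MonoidalCategory HomologicalComplex CochainComplex
  CategoryTheory.Pretriangulated Opposite
attribute [local instance] HasDerivedCategory.standard

namespace Groth.Agent.Lib.Helper36.EHN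

open Groth.Agent.Lib.Helper36.HCA Groth.Agent.Lib.Helper36.RHM Groth.Agent.Lib.Helper46.DTenKProj
  Groth.Agent.Lib.Helper46.DTenAssoc Groth.Agent.Lib.Helper46.DTenUnitShift
  Groth.Agent.Lib.Helper46.DTenMid Groth.Agent.Lib.Helper46.TriFive DerivedCategory

variable (A : Type u) [CommRing A] [DTen.HasLTen A]

section Basic

variable [DTen.HasRHom A]

/-- the adjunct of `x ≫ RHom(h, M)` -/
lemma homEquiv_symm_comp_RHomMap {N N' M W : Dual.D A} (h : N' ⟶ N)
    (x : W ⟶ (DTen.RHomR A N).obj M) :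
    (DTen.rhomHomEquiv W N' M).symm (x ≫ DTen.RHomMap h M) =
      ((DTen.LTen A).obj W).map h ≫ (DTen.rhomHomEquiv W N M).symm x := by
  have e1 : (DTen.rhomHomEquiv W N' M).symm (x ≫ DTen.RHomMap h M) =
      (DTen.LTen₂ A).map (Prod.mkHom (x ≫ DTen.RHomMap h M) (𝟙 N')) ≫ DTen.ev N' M :=
    (DTen.rhomAdj A N').homEquiv_counit _ _ _
  have e2 : (DTen.rhomHomEquiv W N M).symm x =
      (DTen.LTen₂ A).map (Prod.mkHom x (𝟙 N)) ≫ DTen.ev N M :=
    (DTen.rhomAdj A N).homEquiv_counit _ _ _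
  have e3 : (Prod.mkHom (x ≫ DTen.RHomMap h M) (𝟙 N') : ((W, N') : Dual.D A × Dual.D A) ⟶ _) =
      Prod.mkHom x (𝟙 N') ≫ Prod.mkHom (DTen.RHomMap h M) (𝟙 N') :=
    CategoryTheory.Prod.hom_ext (by simp) (by simp)
  rw [e1, e2, e3, Functor.map_comp, Category.assoc, DTen.RHom_map_ev]
  show _ = (DTen.LTen₂ A).map (Prod.mkHom (𝟙 W) h) ≫ _
  rw [← Category.assoc, ← Category.assoc, ← Functor.map_comp, ← Functor.map_comp]
  congr 2
  exact CategoryTheory.Prod.hom_ext (by simp) (by simp)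

end Basic

variable [DTen.HasLTen₃ A] [DTen.IsSymMonoidal A] [DTen.HasRHom A] (L M : Dual.D A)

/-- `K ↦ RHom(RHom(K, L), M)` -/
noncomputable def G : Dual.D A ⥤ Dual.D A :=
  ((DTen.RHom A).flip.obj L).rightOp ⋙ (DTen.RHom A).flip.obj M

lemma G_obj (K : Dual.D A) :
    (G A L M).obj K = (DTen.RHomR A ((DTen.RHomR A K).obj L)).obj M := rfl

lemma G_map {K K' : Dual.D A} (f : K ⟶ K') :
    (G A L M).map f = DTen.RHomMap (DTen.RHomMap f L) M := rfl

/-- `K ↦ RHom(L, M) ⊗^L K` -/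
noncomputable abbrev F : Dual.D A ⥤ Dual.D A := (DTen.LTen A).obj ((DTen.RHomR A L).obj M)

lemma symm_naturality {X X' Y Y' : Dual.D A} (a : X ⟶ X') (b : Y ⟶ Y') :
    (DTen.LTen₂ A).map (Prod.mkHom b a) ≫ (DTen.symm A).app (X', Y') =
      (DTen.symm A).app (X, Y) ≫ (DTen.LTen₂ A).map (Prod.mkHom a b) :=
  (DTen.symm A).naturality (Prod.mkHom a b : ((X, Y) : Dual.D A × Dual.D A) ⟶ (X', Y'))

lemma inner_naturality {K K' : Dual.D A} (f : K ⟶ K') :
    (DTen.LTen₂ A).map (Prod.mkHom f (𝟙 ((DTen.RHomR A K').obj L))) ≫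
        (DTen.symm A).app ((DTen.RHomR A K').obj L, K') ≫ DTen.ev K' L =
      (DTen.LTen₂ A).map (Prod.mkHom (𝟙 K) (DTen.RHomMap f L)) ≫
        (DTen.symm A).app ((DTen.RHomR A K).obj L, K) ≫ DTen.ev K L := by
  rw [← Category.assoc, symm_naturality, Category.assoc, ← DTen.RHom_map_ev, ← Category.assoc,
    ← Category.assoc, symm_naturality]

lemma evalHomAux_naturality {K K' : Dual.D A} (f : K ⟶ K') :
    (DTen.LTen₂ A).map (Prod.mkHom ((DTen.LTen₂ A).map
        (Prod.mkHom (𝟙 ((DTen.RHomR A L).obj M)) f)) (𝟙 ((DTen.RHomR A K').obj L))) ≫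
        DTen.evalHomAux K' L M =
      (DTen.LTen₂ A).map (Prod.mkHom (𝟙 ((DTen.LTen₂ A).obj ((DTen.RHomR A L).obj M, K)))
        (DTen.RHomMap f L)) ≫ DTen.evalHomAux K L M := by
  have h1 := associator_naturality A (𝟙 ((DTen.RHomR A L).obj M)) f (𝟙 ((DTen.RHomR A K').obj L))
  have h2 := associator_naturality A (𝟙 ((DTen.RHomR A L).obj M)) (𝟙 K) (DTen.RHomMap f L)
  have h3 : (DTen.LTen₂ A).map (Prod.mkHom (𝟙 ((DTen.RHomR A L).obj M)) (𝟙 K)) =
      𝟙 ((DTen.LTen₂ A).obj ((DTen.RHomR A L).obj M, K)) := by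
    rw [← prod_id, CategoryTheory.Functor.map_id]
  rw [h3] at h2
  dsimp only [DTen.evalHomAux]
  rw [reassoc_of% h1, reassoc_of% h2, ← Functor.map_comp_assoc, ← Functor.map_comp_assoc]
  congr 2
  refine congrArg (DTen.LTen₂ A).map ?_
  apply CategoryTheory.Prod.hom_ext
  · simp
  · exact inner_naturality A L f

lemma evalHom_naturality {K K' : Dual.D A} (f : K ⟶ K') :
    (DTen.LTen₂ A).map (Prod.mkHom (𝟙 ((DTen.RHomR A L).obj M)) f) ≫ DTen.evalHom K' L M =
      DTen.evalHom K L M ≫ DTen.RHomMap (DTen.RHomMap f L) M := by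
  apply (DTen.rhomHomEquiv _ _ _).symm.injective
  rw [homEquiv_symm_comp_RHomMap]
  have e1 : (DTen.rhomHomEquiv _ _ _).symm
      ((DTen.LTen₂ A).map (Prod.mkHom (𝟙 ((DTen.RHomR A L).obj M)) f) ≫ DTen.evalHom K' L M) =
      (DTen.LTen₂ A).map (Prod.mkHom ((DTen.LTen₂ A).map
        (Prod.mkHom (𝟙 ((DTen.RHomR A L).obj M)) f) ≫ DTen.evalHom K' L M)
          (𝟙 ((DTen.RHomR A K').obj L))) ≫ DTen.ev ((DTen.RHomR A K').obj L) M :=
    (DTen.rhomAdj A ((DTen.RHomR A K').obj L)).homEquiv_counit _ _ _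
  have e2 : (DTen.rhomHomEquiv _ _ _).symm (DTen.evalHom K L M) = DTen.evalHomAux K L M :=
    (Equiv.symm_apply_apply _ _)
  have e3 : (Prod.mkHom ((DTen.LTen₂ A).map
        (Prod.mkHom (𝟙 ((DTen.RHomR A L).obj M)) f) ≫ DTen.evalHom K' L M)
          (𝟙 ((DTen.RHomR A K').obj L)) :
      (((DTen.LTen₂ A).obj ((DTen.RHomR A L).obj M, K), (DTen.RHomR A K').obj L) :
        Dual.D A × Dual.D A) ⟶ _) =
      Prod.mkHom ((DTen.LTen₂ A).map (Prod.mkHom (𝟙 ((DTen.RHomR A L).obj M)) f))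
          (𝟙 ((DTen.RHomR A K').obj L)) ≫
        Prod.mkHom (DTen.evalHom K' L M) (𝟙 ((DTen.RHomR A K').obj L)) :=
    CategoryTheory.Prod.hom_ext (by simp) (by simp)
  rw [e1, e2, e3, Functor.map_comp, Category.assoc, DTen.evalHom_fac, evalHomAux_naturality]
  rfl

/-- `evalHom K L M` as a natural transformation in `K` -/
noncomputable def evalHomNat : F A L M ⟶ G A L M where
  app K := DTen.evalHom K L M
  naturality _ _ f := evalHom_naturality A L M f

@[simp] lemma evalHomNat_app (K : Dual.D A) : (evalHomNat A L M).app K = DTen.evalHom K L M := rfl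

end Groth.Agent.Lib.Helper36.EHN
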