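import Mathlib
import Groth.Prelude.Def_DTen3
import Groth.Agent.Lib.Helper36.EvalHomNat
import Groth.Agent.Lib.Helper46.DTenPerfect

/-!
# Middle exactness of `K ↦ RHom(L, M) ⊗^L K` and of `K ↦ RHom(RHom(K, L), M)` (helper36)

Namespace `Groth.Agent.Lib.Helper36.EHN`.
-/

set_option autoImplicit false
universe u
open CategoryTheory CategoryTheory.Limits MonoidalCategory HomologicalComplex CochainComplex
  CategoryTheory.Pretriangulated Opposite
attribute [local instance] HasDerivedCategory.standard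

namespace Groth.Agent.Lib.Helper36.EHN

open Groth.Agent.Lib.Helper36.HCA Groth.Agent.Lib.Helper36.RHM Groth.Agent.Lib.Helper46.DTenKProj
  Groth.Agent.Lib.Helper46.DTenAssoc Groth.Agent.Lib.Helper46.DTenUnitShift
  Groth.Agent.Lib.Helper46.DTenMid Groth.Agent.Lib.Helper46.TriFive DerivedCategory

section General

variable {C : Type*} [Category C] [HasZeroObject C] [HasShift C ℤ] [Preadditive C]
  [∀ n : ℤ, (CategoryTheory.shiftFunctor C n).Additive] [Pretriangulated C]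
  {D : Type*} [Category D] [Preadditive D]

/-- exactness in the middle of `Hom(F -, M)` applied to the triangle `T` -/
def CoMidAt (F : C ⥤ D) (T : Triangle C) : Prop :=
  ∀ (M : D) (x : F.obj T.obj₂ ⟶ M), F.map T.mor₁ ≫ x = 0 →
    ∃ y : F.obj T.obj₃ ⟶ M, F.map T.mor₂ ≫ y = x

lemma MidAt.of_natIso {F F' : C ⥤ D} (e : F ≅ F') {T : Triangle C} (h : MidAt F T) :
    MidAt F' T := by
  intro W x hx
  have h1 : (x ≫ e.inv.app T.obj₂) ≫ F.map T.mor₂ = 0 := by
    rw [Category.assoc, ← e.inv.naturality, ← Category.assoc, hx, zero_comp]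
  obtain ⟨y, hy⟩ := h W _ h1
  refine ⟨y ≫ e.hom.app T.obj₁, ?_⟩
  rw [Category.assoc, ← e.hom.naturality, ← Category.assoc, hy, Category.assoc, Iso.inv_hom_id_app,
    Category.comp_id]

lemma CoMidAt.of_natIso {F F' : C ⥤ D} (e : F ≅ F') {T : Triangle C} (h : CoMidAt F T) :
    CoMidAt F' T := by
  intro M x hx
  have h1 : F.map T.mor₁ ≫ (e.hom.app T.obj₂ ≫ x) = 0 := by
    rw [← Category.assoc, e.hom.naturality, Category.assoc, hx, comp_zero]
  obtain ⟨y, hy⟩ := h M _ h1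
  refine ⟨e.inv.app T.obj₃ ≫ y, ?_⟩
  rw [← Category.assoc, e.inv.naturality, Category.assoc, hy, Iso.inv_hom_id_app_assoc]

end General

variable (A : Type u) [CommRing A] [DTen.HasLTen A]

section Tensor

variable [DTen.HasRHom A]

theorem coMidAt_tensorRightD (W : Dual.D A) (T : Triangle (Dual.D A))
    (hT : T ∈ distTriang (Dual.D A)) : CoMidAt (DTen.tensorRightD A W) T := by
  intro M x hx
  have h1 : T.mor₁ ≫ (DTen.rhomAdj A W).homEquiv _ _ x = 0 := by
    rw [← Adjunction.homEquiv_naturality_left, hx, Adjunction.homEquiv_unit, Functor.map_zero,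
      comp_zero]
  obtain ⟨g, hg⟩ := Triangle.yoneda_exact₂ T hT _ h1
  refine ⟨((DTen.rhomAdj A W).homEquiv _ _).symm g, ?_⟩
  rw [← Adjunction.homEquiv_naturality_left_symm, ← hg, Equiv.symm_apply_apply]

variable [DTen.HasLTen₃ A] [DTen.IsSymMonoidal A]

/-- the symmetry as a natural isomorphism `- ⊗^L R ≅ R ⊗^L -` -/
noncomputable def symmIso (R : Dual.D A) : DTen.tensorRightD A R ≅ (DTen.LTen A).obj R :=
  NatIso.ofComponents (fun Y => (asIso (DTen.symm A)).app (R, Y))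
    (fun y => symm_naturality A (𝟙 R) y)

theorem midAt_LTen_obj (R : Dual.D A) (T : Triangle (Dual.D A))
    (hT : T ∈ distTriang (Dual.D A)) : MidAt ((DTen.LTen A).obj R) T :=
  MidAt.of_natIso (symmIso A R) (midAt_tensorRightD A R T hT)

theorem coMidAt_LTen_obj (W : Dual.D A) (T : Triangle (Dual.D A))
    (hT : T ∈ distTriang (Dual.D A)) : CoMidAt ((DTen.LTen A).obj W) T :=
  CoMidAt.of_natIso (symmIso A W) (coMidAt_tensorRightD A W T hT)

end Tensor

section Reduce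

/-- a functor on `D(A)` which is middle exact at the rotated standard triangles of morphisms of
K-projective complexes is middle exact at all distinguished triangles -/
theorem midAt_of_exact_cone {D' : Type*} [Category D'] [Preadditive D'] (Φ : Dual.D A ⥤ D')
    (h : ∀ {P₁ P₂ : DRing.Cx A} [P₁.IsKProjective] [P₂.IsKProjective] (g : P₁ ⟶ P₂) (W : D')
      (x : W ⟶ Φ.obj (Q.obj (CochainComplex.mappingCone.triangle g).obj₃)),
      x ≫ Φ.map (Q.map (CochainComplex.mappingCone.triangle g).mor₃) = 0 →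
      ∃ y : W ⟶ Φ.obj (Q.obj (CochainComplex.mappingCone.triangle g).obj₂),
        y ≫ Φ.map (Q.map (CochainComplex.mappingCone.triangle g).mor₂) = x)
    (T : Triangle (Dual.D A)) (hT : T ∈ distTriang (Dual.D A)) : MidAt Φ T := by
  have hI := inv_rot_of_distTriang T hT
  obtain ⟨X, X', f, ⟨e⟩⟩ := (DerivedCategory.mem_distTriang_iff _).1 hI
  obtain ⟨P₁, p₁, hp₁, hP₁, -⟩ := Groth.Agent.Lib.Helper36.KP.exists_resolution X
  obtain ⟨P₂, p₂, hp₂, hP₂, -⟩ := Groth.Agent.Lib.Helper36.KP.exists_resolution X'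
  have := hP₁
  have := hP₂
  have : IsIso (Q.map p₁ : (Q.obj P₁ : Dual.D A) ⟶ _) :=
    (DerivedCategory.isIso_Q_map_iff_quasiIso (ModuleCat.{u} A) p₁).2 hp₁
  have : IsIso (Q.map p₂ : (Q.obj P₂ : Dual.D A) ⟶ _) :=
    (DerivedCategory.isIso_Q_map_iff_quasiIso (ModuleCat.{u} A) p₂).2 hp₂
  obtain ⟨g, hg⟩ := exists_Q_map_eq (S := P₁) (L := P₂) (Q.map p₁ ≫ Q.map f ≫ inv (Q.map p₂))
  have hTg : Q.mapTriangle.obj (CochainComplex.mappingCone.triangle g) ∈ distTriang (Dual.D A) :=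
    (DerivedCategory.mem_distTriang_iff _).2 ⟨_, _, g, ⟨Iso.refl _⟩⟩
  have hTf : Q.mapTriangle.obj (CochainComplex.mappingCone.triangle f) ∈ distTriang (Dual.D A) :=
    (DerivedCategory.mem_distTriang_iff _).2 ⟨_, _, f, ⟨Iso.refl _⟩⟩
  let i₁ : (Q.obj P₁ : Dual.D A) ≅ Q.obj X := asIso (Q.map p₁)
  let i₂ : (Q.obj P₂ : Dual.D A) ≅ Q.obj X' := asIso (Q.map p₂)
  let e' : Q.mapTriangle.obj (CochainComplex.mappingCone.triangle g) ≅
      Q.mapTriangle.obj (CochainComplex.mappingCone.triangle f) :=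
    isoTriangleOfIso₁₂ _ _ hTg hTf i₁ i₂ (by
      show Q.map g ≫ Q.map p₂ = Q.map p₁ ≫ Q.map f
      rw [hg]
      simp)
  let e₀ : T ≅ (Q.mapTriangle.obj (CochainComplex.mappingCone.triangle g)).rotate :=
    ((triangleRotation (Dual.D A)).counitIso.app T).symm ≪≫
      (rotate (Dual.D A)).mapIso (e ≪≫ e'.symm)
  refine MidAt.of_iso e₀ ?_
  intro W x hx
  have hx2 : x ≫ Φ.map (Q.map (CochainComplex.mappingCone.triangle g).mor₃) ≫
      Φ.map ((Q.commShiftIso (1 : ℤ)).hom.app P₁) = 0 := by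
    rw [← Functor.map_comp]
    exact hx
  have hx3 : x ≫ Φ.map (Q.map (CochainComplex.mappingCone.triangle g).mor₃) = 0 := by
    have h' := hx2
    rw [← Category.assoc] at h'
    exact (cancel_mono (Φ.map ((Q.commShiftIso (1 : ℤ)).hom.app P₁))).1 (h'.trans zero_comp.symm)
  exact h g W x hx3

end Reduce

section GSide

variable [DTen.HasLTen₃ A] [DTen.IsSymMonoidal A] [DTen.HasRHom A]

/-- the comparison map with a general target -/
noncomputable def cmpL (P L₀ : DRing.Cx A) {L : Dual.D A} (eL : Q.obj L₀ ≅ L) :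
    (Q.obj (DRing.homCx P L₀) : Dual.D A) ⟶ (DTen.RHomR A (Q.obj P)).obj L :=
  cmp A P L₀ ≫ (DTen.RHomR A (Q.obj P)).map eL.hom

instance isIso_cmpL (P L₀ : DRing.Cx A) [P.IsKProjective] {L : Dual.D A} (eL : Q.obj L₀ ≅ L) :
    IsIso (cmpL A P L₀ eL) := by
  have := isIso_cmp A P L₀
  dsimp only [cmpL]
  infer_instance

lemma cmpL_naturality {P P' : DRing.Cx A} (g : P' ⟶ P) (L₀ : DRing.Cx A) {L : Dual.D A}
    (eL : Q.obj L₀ ≅ L) :
    cmpL A P L₀ eL ≫ DTen.RHomMap (Q.map g) L = Q.map (homCxPre g L₀) ≫ cmpL A P' L₀ eL := by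
  have h : (DTen.RHomR A (Q.obj P)).map eL.hom ≫ DTen.RHomMap (Q.map g) L =
      DTen.RHomMap (Q.map g) (Q.obj L₀) ≫ (DTen.RHomR A (Q.obj P')).map eL.hom :=
    ((DTen.RHom A).map (Q.map g).op).naturality eL.hom
  dsimp only [cmpL]
  rw [Category.assoc, h, ← Category.assoc, cmp_naturality, Category.assoc]

theorem exact_cone_G {P₁ P₂ : DRing.Cx A} [P₁.IsKProjective] [P₂.IsKProjective] (g : P₁ ⟶ P₂)
    (L M W : Dual.D A)
    (x : W ⟶ (G A L M).obj (Q.obj (CochainComplex.mappingCone.triangle g).obj₃))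
    (hx : x ≫ (G A L M).map (Q.map (CochainComplex.mappingCone.triangle g).mor₃) = 0) :
    ∃ y : W ⟶ (G A L M).obj (Q.obj (CochainComplex.mappingCone.triangle g).obj₂),
      y ≫ (G A L M).map (Q.map (CochainComplex.mappingCone.triangle g).mor₂) = x := by
  let L₀ : DRing.Cx A := Q.objPreimage L
  let eL : Q.obj L₀ ≅ L := Q.objObjPreimageIso L
  let S := CochainComplex.mappingCone.triangleRotateShortComplex g
  have hS := shortExact_homCxPre S
    (fun n => CochainComplex.mappingCone.triangleRotateShortComplexSplitting g n) L₀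
  have hdist := DerivedCategory.triangleOfSES_distinguished hS
  have k2 : S.X₂.IsKProjective := isKProjective_mappingCone A g
  have k1 : S.X₁.IsKProjective := ‹P₂.IsKProjective›
  have k3 : S.X₃.IsKProjective := inferInstanceAs (P₁⟦(1 : ℤ)⟧).IsKProjective
  have i1 : IsIso (cmpL A S.X₁ L₀ eL) := isIso_cmpL A S.X₁ L₀ eL
  have i2 : IsIso (cmpL A S.X₂ L₀ eL) := isIso_cmpL A S.X₂ L₀ eL
  let TW := (DTen.LTen A).obj W
  have n3 := cmpL_naturality A S.g L₀ eL
  have n2 := cmpL_naturality A S.f L₀ eL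
  -- retype `x`
  let x₀ : W ⟶ (DTen.RHomR A ((DTen.RHomR A (Q.obj S.X₂)).obj L)).obj M := x
  have hx₀ : x₀ ≫ DTen.RHomMap (DTen.RHomMap (Q.map S.g) L) M = 0 := hx
  suffices H : ∃ y : W ⟶ (DTen.RHomR A ((DTen.RHomR A (Q.obj S.X₁)).obj L)).obj M,
      y ≫ DTen.RHomMap (DTen.RHomMap (Q.map S.f) L) M = x₀ from H
  -- the adjunct of `x`
  let xb := (DTen.rhomHomEquiv W ((DTen.RHomR A (Q.obj S.X₂)).obj L) M).symm x₀
  have hxb : TW.map (DTen.RHomMap (Q.map S.g) L) ≫ xb = 0 := by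
    rw [← homEquiv_symm_comp_RHomMap, hx₀]
    have e0 : (DTen.rhomHomEquiv W ((DTen.RHomR A (Q.obj S.X₃)).obj L) M).symm 0 =
        (DTen.tensorRightD A _).map 0 ≫ DTen.ev _ M :=
      (DTen.rhomAdj A ((DTen.RHomR A (Q.obj S.X₃)).obj L)).homEquiv_counit _ _ _
    rw [e0, Functor.map_zero, zero_comp]
  let x' := TW.map (cmpL A S.X₂ L₀ eL) ≫ xb
  have hx' : TW.map (DerivedCategory.triangleOfSES hS).mor₁ ≫ x' = 0 := by
    show TW.map (Q.map (homCxPre S.g L₀)) ≫ TW.map (cmpL A S.X₂ L₀ eL) ≫ xb = 0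
    rw [← Functor.map_comp_assoc, ← n3, Functor.map_comp_assoc, hxb, comp_zero]
  obtain ⟨y', hy'⟩ := coMidAt_LTen_obj A W _ hdist M x' hx'
  have hy'' : TW.map (Q.map (homCxPre S.f L₀)) ≫ y' = TW.map (cmpL A S.X₂ L₀ eL) ≫ xb := hy'
  refine ⟨DTen.rhomHomEquiv _ _ _ (TW.map (inv (cmpL A S.X₁ L₀ eL)) ≫ y'), ?_⟩
  apply (DTen.rhomHomEquiv _ _ _).symm.injective
  rw [homEquiv_symm_comp_RHomMap, Equiv.symm_apply_apply]
  have e2 : DTen.RHomMap (Q.map S.f) L ≫ inv (cmpL A S.X₁ L₀ eL) =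
      inv (cmpL A S.X₂ L₀ eL) ≫ Q.map (homCxPre S.f L₀) := by
    rw [IsIso.comp_inv_eq, Category.assoc, ← n2, IsIso.inv_hom_id_assoc]
  show TW.map (DTen.RHomMap (Q.map S.f) L) ≫ TW.map (inv (cmpL A S.X₁ L₀ eL)) ≫ y' = xb
  rw [← Functor.map_comp_assoc, e2, Functor.map_comp_assoc, hy'', ← Functor.map_comp_assoc,
    IsIso.inv_hom_id, CategoryTheory.Functor.map_id, Category.id_comp]

theorem midAt_G (L M : Dual.D A) (T : Triangle (Dual.D A)) (hT : T ∈ distTriang (Dual.D A)) :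
    MidAt (G A L M) T :=
  midAt_of_exact_cone A (G A L M) (fun g W x hx => exact_cone_G A g L M W x hx) T hT

end GSide

end Groth.Agent.Lib.Helper36.EHN
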