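import Mathlib
import Groth.Prelude.Def_DTen3
import Groth.Agent.Lib.Helper36.EvalHomMid

/-!
# `evalHom K L M` is an isomorphism for perfect `K` (helper36)

Namespace `Groth.Agent.Lib.Helper36.EHN`.
-/

set_option autoImplicit false
universe u
open CategoryTheory CategoryTheory.Limits MonoidalCategory HomologicalComplex CochainComplex
  CategoryTheory.Pretriangulated Opposite
attribute [local instance] HasDerivedCategory.standard

namespace Groth.Agent.Lib.Helper36.EHN

open Groth.Agent.Lib.Helper36.HCA Groth.Agent.Lib.Helper36.RHM Groth.Agent.Lib.Helper46.DTenKProj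
  Groth.Agent.Lib.Helper46.DTenAssoc Groth.Agent.Lib.Helper46.DTenUnitShift
  Groth.Agent.Lib.Helper46.DTenMid Groth.Agent.Lib.Helper46.TriFive DerivedCategory
  Groth.Agent.Lib.Helper46.DTenPerfect Groth.Agent.Lib.Helper12 DRing

variable (A : Type u) [CommRing A] [DTen.HasLTen A] [DTen.HasLTen₃ A] [DTen.IsSymMonoidal A]
  [DTen.HasRHom A]

/-! ### the base case -/

theorem isIso_evalHom_of_isEquivalence (K L M : Dual.D A)
    [(DTen.tensorRightD A K).IsEquivalence] : IsIso (DTen.evalHom K L M) := by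
  let T := DTen.tensorRightD A K
  let R := (DTen.RHomR A L).obj M
  let H := (DTen.RHomR A K).obj L
  let adjH := DTen.rhomAdj A H
  let adjL := DTen.rhomAdj A L
  let θ : (DTen.LTen₂ A).obj (K, H) ⟶ L := (DTen.symm A).app (H, K) ≫ DTen.ev K L
  have hθ : IsIso θ := by
    have h1 : IsIso ((DTen.symm A).app (H, K)) := inferInstance
    have h2 : IsIso (DTen.ev K L) :=
      inferInstanceAs (IsIso ((DTen.rhomAdj A K).counit.app L))
    dsimp only [θ]
    infer_instance
  let Φ : ∀ W : Dual.D A, (W ⟶ T.obj R) → ((DTen.LTen₂ A).obj (W, H) ⟶ M) := fun W x =>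
    (DTen.LTen₂ A).map (Prod.mkHom x (𝟙 H)) ≫ DTen.evalHomAux K L M
  have h1 : ∀ (W : Dual.D A) (x : W ⟶ T.obj R),
      x ≫ DTen.evalHom K L M = adjH.homEquiv _ _ (Φ W x) := by
    intro W x
    dsimp only [DTen.evalHom, Φ]
    exact (adjH.homEquiv_naturality_left x _).symm
  have h2 : ∀ (W' : Dual.D A) (y : W' ⟶ R), Φ (T.obj W') (T.map y) =
      (DTen.associator W' K H).hom ≫ (DTen.LTen₂ A).map (Prod.mkHom (𝟙 W') θ) ≫
        (adjL.homEquiv _ _).symm y := by
    intro W' y
    have h := associator_naturality A y (𝟙 K) (𝟙 H)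
    show (DTen.LTen₂ A).map (Prod.mkHom ((DTen.LTen₂ A).map (Prod.mkHom y (𝟙 K))) (𝟙 H)) ≫
      (DTen.associator R K H).hom ≫ (DTen.LTen₂ A).map (Prod.mkHom (𝟙 R) θ) ≫ DTen.ev L M =
      (DTen.associator W' K H).hom ≫ (DTen.LTen₂ A).map (Prod.mkHom (𝟙 W') θ) ≫
        (adjL.homEquiv _ _).symm y
    have e1 : (adjL.homEquiv _ _).symm y =
        (DTen.LTen₂ A).map (Prod.mkHom y (𝟙 L)) ≫ DTen.ev L M := adjL.homEquiv_counit _ _ _
    rw [reassoc_of% h, e1, ← Functor.map_comp_assoc, ← Functor.map_comp_assoc]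
    congr 2
    refine congrArg (DTen.LTen₂ A).map ?_
    apply CategoryTheory.Prod.hom_ext
    · simp
    · show (DTen.LTen₂ A).map (Prod.mkHom (𝟙 K) (𝟙 H)) ≫ θ = θ ≫ 𝟙 L
      rw [← prod_id, CategoryTheory.Functor.map_id, Category.id_comp, Category.comp_id]
  have h3 : ∀ {W₁ W : Dual.D A} (w : W₁ ⟶ W) (x : W ⟶ T.obj R),
      Φ W₁ (w ≫ x) = (DTen.LTen₂ A).map (Prod.mkHom w (𝟙 H)) ≫ Φ W x := by
    intro W₁ W w x
    dsimp only [Φ]
    rw [← Category.assoc, ← Functor.map_comp]
    congr 2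
    all_goals exact CategoryTheory.Prod.hom_ext rfl (by simp)
  apply isIso_of_yoneda_map_bijective
  intro W
  suffices hΦ : Function.Bijective (Φ W) by
    refine ⟨fun x x' hxx => hΦ.1 ((adjH.homEquiv _ _).injective ?_), fun z => ?_⟩
    · rw [← h1, ← h1]
      exact hxx
    · obtain ⟨x, hx⟩ := hΦ.2 ((adjH.homEquiv _ _).symm z)
      refine ⟨x, ?_⟩
      show x ≫ DTen.evalHom K L M = z
      rw [h1, hx, Equiv.apply_symm_apply]
  let W' := T.objPreimage W
  let e : T.obj W' ≅ W := T.objObjPreimageIso W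
  -- the isomorphism `(W' ⊗ K) ⊗ H ≅ W' ⊗ L`
  have hκ : IsIso ((DTen.LTen₂ A).map (Prod.mkHom (𝟙 W') θ)) := by
    have : IsIso (Prod.mkHom (𝟙 W') θ : ((W', (DTen.LTen₂ A).obj (K, H)) : Dual.D A × Dual.D A) ⟶
        (W', L)) := (isIso_prod_iff _ _).2 ⟨inferInstance, hθ⟩
    infer_instance
  constructor
  · intro x x' hxx
    have h4 : Φ (T.obj W') (e.hom ≫ x) = Φ (T.obj W') (e.hom ≫ x') := by rw [h3, h3, hxx]
    have hy : T.map (T.preimage (e.hom ≫ x)) = e.hom ≫ x := T.map_preimage _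
    have hy' : T.map (T.preimage (e.hom ≫ x')) = e.hom ≫ x' := T.map_preimage _
    rw [← hy, ← hy', h2, h2] at h4
    have h5 := (cancel_epi _).1 ((cancel_epi _).1 h4)
    have h6 := (adjL.homEquiv _ _).symm.injective h5
    have h7 : e.hom ≫ x = e.hom ≫ x' := by rw [← hy, ← hy', h6]
    exact (cancel_epi e.hom).1 h7
  · intro t
    let t' := (DTen.LTen₂ A).map (Prod.mkHom e.hom (𝟙 H)) ≫ t
    let s : (DTen.LTen₂ A).obj (W', L) ⟶ M :=
      inv ((DTen.LTen₂ A).map (Prod.mkHom (𝟙 W') θ)) ≫ (DTen.associator W' K H).inv ≫ t'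
    let y := adjL.homEquiv _ _ s
    refine ⟨e.inv ≫ T.map y, ?_⟩
    rw [h3, h2, Equiv.symm_apply_apply]
    dsimp only [s, t']
    rw [IsIso.hom_inv_id_assoc, Iso.hom_inv_id_assoc, ← Category.assoc, ← Functor.map_comp]
    have : (Prod.mkHom e.inv (𝟙 H) ≫ Prod.mkHom e.hom (𝟙 H) :
        ((W, H) : Dual.D A × Dual.D A) ⟶ (W, H)) = 𝟙 _ :=
      CategoryTheory.Prod.hom_ext (by simp) (by simp)
    rw [this, CategoryTheory.Functor.map_id, Category.id_comp]

/-! ### additivity -/

instance additive_LTen_obj (X : Dual.D A) : ((DTen.LTen A).obj X).Additive :=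
  Functor.additive_of_iso (symmIso A X)

lemma homEquiv_symm_RHomMap {K K' : Dual.D A} (f : K ⟶ K') (L : Dual.D A) :
    (DTen.rhomHomEquiv _ _ _).symm (DTen.RHomMap f L) =
      ((DTen.LTen A).obj ((DTen.RHomR A K').obj L)).map f ≫ DTen.ev K' L := by
  have e1 : (DTen.rhomHomEquiv _ _ _).symm (DTen.RHomMap f L) =
      (DTen.LTen₂ A).map (Prod.mkHom (DTen.RHomMap f L) (𝟙 K)) ≫ DTen.ev K L :=
    (DTen.rhomAdj A K).homEquiv_counit _ _ _
  rw [e1, DTen.RHom_map_ev]
  rfl

lemma homEquiv_symm_add {W N M : Dual.D A} (u u' : W ⟶ (DTen.RHomR A N).obj M) :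
    (DTen.rhomHomEquiv W N M).symm (u + u') =
      (DTen.rhomHomEquiv W N M).symm u + (DTen.rhomHomEquiv W N M).symm u' := by
  have e : ∀ v : W ⟶ (DTen.RHomR A N).obj M, (DTen.rhomHomEquiv W N M).symm v =
      (DTen.tensorRightD A N).map v ≫ DTen.ev N M :=
    fun v => (DTen.rhomAdj A N).homEquiv_counit _ _ _
  rw [e, e, e, Functor.map_add, Preadditive.add_comp]

lemma RHomMap_add {K K' : Dual.D A} (f f' : K ⟶ K') (L : Dual.D A) :
    DTen.RHomMap (f + f') L = DTen.RHomMap f L + DTen.RHomMap f' L := by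
  apply (DTen.rhomHomEquiv _ _ _).symm.injective
  rw [homEquiv_symm_add, homEquiv_symm_RHomMap, homEquiv_symm_RHomMap, homEquiv_symm_RHomMap,
    Functor.map_add, Preadditive.add_comp]

instance additive_RHom_flip_obj (L : Dual.D A) : ((DTen.RHom A).flip.obj L).Additive where
  map_add {X Y} {f f'} := by
    show DTen.RHomMap (f + f').unop L = DTen.RHomMap f.unop L + DTen.RHomMap f'.unop L
    rw [unop_add, RHomMap_add]

instance additive_G (L M : Dual.D A) : (G A L M).Additive := by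
  dsimp only [G]
  infer_instance

/-! ### shifts of the unit -/

instance isEquivalence_tensorRightD_unitShift (m : ℤ) :
    (DTen.tensorRightD A (Q.obj (unitShift A m))).IsEquivalence :=
  Functor.isEquivalence_of_iso (symmIso A (Q.obj (unitShift A m))).symm

/-! ### dévissage -/

variable (L M : Dual.D A)

/-- `evalHom` is an isomorphism at all shifts of `K` -/
def PrH (K : Dual.D A) : Prop := ∀ n : ℤ, IsIso ((evalHomNat A L M).app (K⟦n⟧))

variable {A L M} in
lemma PrH.of_iso {K K' : Dual.D A} (e : K ≅ K') (h : PrH A L M K) : PrH A L M K' := fun n =>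
  have := h n
  isIso_app_of_iso (evalHomNat A L M) ((CategoryTheory.shiftFunctor (Dual.D A) n).mapIso e)

lemma prH_of_isZero {K : Dual.D A} (h : IsZero K) : PrH A L M K := fun n => by
  have h1 : IsZero (K⟦n⟧) := (CategoryTheory.shiftFunctor (Dual.D A) n).map_isZero h
  have h2 := (F A L M).map_isZero h1
  have h3 := (G A L M).map_isZero h1
  exact ⟨0, h2.eq_of_src _ _, h3.eq_of_src _ _⟩

lemma prH_ext (T : Triangle (Dual.D A)) (hT : T ∈ distTriang (Dual.D A))
    (h₁ : PrH A L M T.obj₁) (h₃ : PrH A L M T.obj₃) : PrH A L M T.obj₂ := by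
  intro n
  have hTn := Triangle.shift_distinguished T hT n
  refine isIso_app_obj₂ (evalHomNat A L M) (fun T hT => midAt_LTen_obj A _ T hT)
    (fun T hT => midAt_G A L M T hT)
    ((CategoryTheory.shiftFunctor (Triangle (Dual.D A)) n).obj T) hTn ?_ (h₁ n) (h₃ n) ?_
  · have := h₃ (n + (-1))
    exact isIso_app_of_iso _ ((CategoryTheory.shiftFunctorAdd' (Dual.D A) n (-1) (n + (-1)) rfl).app T.obj₃)
  · have := h₁ (n + 1)
    exact isIso_app_of_iso _ ((CategoryTheory.shiftFunctorAdd' (Dual.D A) n 1 (n + 1) rfl).app T.obj₁)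

lemma prH_unitShift (m : ℤ) : PrH A L M (Q.obj (unitShift A m)) := by
  intro n
  have e : (Q.obj (unitShift A (m + n)) : Dual.D A) ≅ (Q.obj (unitShift A m))⟦n⟧ :=
    Q.mapIso ((CategoryTheory.shiftFunctorAdd' (DRing.Cx A) m n (m + n) rfl).app (𝟙_ (DRing.Cx A))) ≪≫
      (Q.commShiftIso n).app _
  have : IsIso ((evalHomNat A L M).app (Q.obj (unitShift A (m + n)))) := by
    show IsIso (DTen.evalHom _ L M)
    exact isIso_evalHom_of_isEquivalence A _ L M
  exact isIso_app_of_iso _ e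

lemma prH_single (a : ℤ) (N : ModuleCat.{u} A) [Module.Finite A N] [Module.Projective A N] :
    PrH A L M (toD (singleCx a N)) := by
  intro n
  let S : ModuleCat.{u} A ⥤ Dual.D A :=
    HomologicalComplex.single (ModuleCat.{u} A) (ComplexShape.up ℤ) a ⋙ Q ⋙
      CategoryTheory.shiftFunctor (Dual.D A) n
  refine isIso_app_of_finite_projective (Functor.whiskerLeft S (evalHomNat A L M)) ?_ N
  show IsIso ((evalHomNat A L M).app ((Q.obj (singleCx a (ModuleCat.of A A)))⟦n⟧))
  have e : (Q.obj (unitShift A (-a)) : Dual.D A) ≅ Q.obj (singleCx a (ModuleCat.of A A)) :=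
    Q.mapIso (((CochainComplex.singleFunctors (ModuleCat.{u} A)).shiftIso (-a) a 0
      (by omega)).app (ModuleCat.of A A))
  exact (PrH.of_iso e (prH_unitShift A L M (-a))) n

theorem isIso_evalHom_of_isPerfect (K : Dual.D A) (hK : DRing.IsPerfect A K) :
    IsIso (DTen.evalHom K L M) := by
  obtain ⟨E, a, b, hE, hproj, ⟨e⟩⟩ := hK
  have hPr : PrH A L M (toD E) :=
    bounded_induction (PrH A L M) (fun N => Module.Finite A N ∧ Module.Projective A N)
      (fun {N N'} i h => by
        have := h.1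
        have := h.2
        exact ⟨Module.Finite.equiv i.toLinearEquiv, Module.Projective.of_equiv i.toLinearEquiv⟩)
      (fun {N} h => by
        have : Subsingleton N := ModuleCat.subsingleton_of_isZero h
        exact ⟨inferInstance, inferInstance⟩)
      (fun K h => prH_of_isZero A L M h)
      (fun N a h => by
        have := h.1
        have := h.2
        exact prH_single A L M a N)
      (fun T hT h1 h3 => prH_ext A L M T hT h1 h3)
      E a b hE hproj
  have := (PrH.of_iso e hPr) 0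
  exact isIso_app_of_iso (evalHomNat A L M) ((CategoryTheory.shiftFunctorZero (Dual.D A) ℤ).app K)

end Groth.Agent.Lib.Helper36.EHN
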