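import Mathlib
import Groth.Prelude.Def_DRing4

/-!
Helper (helper36): the terms of the tensor product of two cochain complexes of modules as direct sums;
boundedness, freeness, projectivity, flatness and finiteness of the terms.
-/

set_option autoImplicit false
universe u

open CategoryTheory CategoryTheory.Limits MonoidalCategory DirectSum

namespace Groth.Agent.Lib.Helper36.TT

variable {A : Type u} [CommRing A] (K L : DRing.Cx A) (n : ℤ)

/-- The index type of the summands of `(K ⊗ L)^n`. -/
abbrev Idx (n : ℤ) : Type :=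
  (ComplexShape.π (ComplexShape.up ℤ) (ComplexShape.up ℤ) (ComplexShape.up ℤ)) ⁻¹' {n}

lemma Idx.add_eq {n : ℤ} (i : Idx n) : i.1.1 + i.1.2 = n := i.2

/-- The summands of `(K ⊗ L)^n`. -/
noncomputable abbrev Zfam (n : ℤ) : Idx n → ModuleCat.{u} A := fun i => K.X i.1.1 ⊗ L.X i.1.2

/-- `(K ⊗ L)^n` as a direct sum. -/
noncomputable def tensorXIso : (K ⊗ L).X n ≅ ModuleCat.of A (⨁ i, Zfam K L n i) :=
  ModuleCat.coprodIsoDirectSum (Zfam K L n)

/-- The linear equivalence version. -/
noncomputable def tensorXEquiv : (K ⊗ L).X n ≃ₗ[A] ⨁ i, Zfam K L n i :=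
  (tensorXIso K L n).toLinearEquiv

lemma subsingleton_Zfam (i : Idx n) (h : IsZero (K.X i.1.1) ∨ IsZero (L.X i.1.2)) :
    Subsingleton (Zfam K L n i) := by
  rcases h with h | h
  · have := ModuleCat.subsingleton_of_isZero h
    exact inferInstanceAs (Subsingleton (TensorProduct A (K.X i.1.1) (L.X i.1.2)))
  · have := ModuleCat.subsingleton_of_isZero h
    exact inferInstanceAs (Subsingleton (TensorProduct A (K.X i.1.1) (L.X i.1.2)))

lemma isZero_tensor_X (h : ∀ p q : ℤ, p + q = n → IsZero (K.X p) ∨ IsZero (L.X q)) :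
    IsZero ((K ⊗ L).X n) := by
  have : ∀ i : Idx n, Subsingleton (Zfam K L n i) := fun i =>
    subsingleton_Zfam K L n i (h _ _ i.add_eq)
  have : Subsingleton (⨁ i, Zfam K L n i) := inferInstanceAs (Subsingleton (Π₀ i, Zfam K L n i))
  exact (ModuleCat.isZero_of_subsingleton _).of_iso (tensorXIso K L n)

lemma vanishesAbove_tensor {b₁ b₂ : ℤ} (hK : DRing.VanishesAbove K b₁)
    (hL : DRing.VanishesAbove L b₂) : DRing.VanishesAbove (K ⊗ L) (b₁ + b₂) := by
  intro n hn
  apply isZero_tensor_X
  intro p q hpq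
  by_cases hp : b₁ < p
  · exact Or.inl (hK p hp)
  · exact Or.inr (hL q (by omega))

lemma vanishesOutside_tensor {a₁ b₁ a₂ b₂ : ℤ} (hK : DRing.VanishesOutside K a₁ b₁)
    (hL : DRing.VanishesOutside L a₂ b₂) : DRing.VanishesOutside (K ⊗ L) (a₁ + a₂) (b₁ + b₂) := by
  intro n hn
  apply isZero_tensor_X
  intro p q hpq
  by_cases hp : p < a₁ ∨ b₁ < p
  · exact Or.inl (hK p hp)
  · exact Or.inr (hL q (by omega))

lemma free_tensor_X (hK : ∀ i, Module.Free A (K.X i)) (hL : ∀ i, Module.Free A (L.X i)) :
    Module.Free A ((K ⊗ L).X n) := by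
  have : ∀ i : Idx n, Module.Free A (Zfam K L n i) := fun i =>
    inferInstanceAs (Module.Free A (TensorProduct A (K.X i.1.1) (L.X i.1.2)))
  exact Module.Free.of_equiv (tensorXEquiv K L n).symm

lemma projective_tensor_X (hK : ∀ i, Module.Projective A (K.X i))
    (hL : ∀ i, Module.Projective A (L.X i)) : Module.Projective A ((K ⊗ L).X n) := by
  have : ∀ i : Idx n, Module.Projective A (Zfam K L n i) := fun i =>
    inferInstanceAs (Module.Projective A (TensorProduct A (K.X i.1.1) (L.X i.1.2)))
  exact Module.Projective.of_equiv (tensorXEquiv K L n).symm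

lemma flat_tensor_X (hK : ∀ i, Module.Flat A (K.X i)) (hL : ∀ i, Module.Flat A (L.X i)) :
    Module.Flat A ((K ⊗ L).X n) := by
  have : ∀ i : Idx n, Module.Flat A (Zfam K L n i) := fun i =>
    inferInstanceAs (Module.Flat A (TensorProduct A (K.X i.1.1) (L.X i.1.2)))
  exact Module.Flat.of_linearEquiv (tensorXEquiv K L n)

lemma finite_tensor_X (hK : ∀ i, Module.Finite A (K.X i)) (hL : ∀ i, Module.Finite A (L.X i))
    (a b : ℤ) (h : ∀ p q : ℤ, p + q = n → (p < a ∨ b < p) → IsZero (K.X p) ∨ IsZero (L.X q)) :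
    Module.Finite A ((K ⊗ L).X n) := by
  classical
  have hfin : ∀ i : Idx n, Module.Finite A (Zfam K L n i) := fun i =>
    inferInstanceAs (Module.Finite A (TensorProduct A (K.X i.1.1) (L.X i.1.2)))
  suffices Module.Finite A (⨁ i, Zfam K L n i) from Module.Finite.equiv (tensorXEquiv K L n).symm
  -- the finite index set
  let S : Finset (Idx n) := (Finset.Icc a b).attach.map
    ⟨fun p => (⟨(p.1, n - p.1), by simp [ComplexShape.π]⟩ : Idx n), fun p p' hpp' => by
      have := congrArg (fun i : Idx n => i.1.1) hpp'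
      exact Subtype.ext this⟩
  have hS : ∀ i : Idx n, i ∉ S → Subsingleton (Zfam K L n i) := by
    intro i hi
    apply subsingleton_Zfam
    apply h _ _ i.add_eq
    by_contra hcon
    push Not at hcon
    apply hi
    simp only [S, Finset.mem_map, Finset.mem_attach, true_and, Function.Embedding.coeFn_mk,
      Subtype.exists, Finset.mem_Icc]
    refine ⟨i.1.1, ⟨hcon.1, hcon.2⟩, ?_⟩
    apply Subtype.ext
    apply Prod.ext
    · rfl
    · have := i.add_eq
      show n - i.1.1 = i.1.2
      omega
  constructor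
  have htop : (⊤ : Submodule A (⨁ i, Zfam K L n i)) =
      ⨆ i ∈ S, LinearMap.range (DirectSum.lof A (Idx n) (fun i => Zfam K L n i) i) := by
    apply le_antisymm
    · intro x hx0
      clear hx0
      induction x using DirectSum.induction_on with
      | zero => exact Submodule.zero_mem _
      | of i x =>
        by_cases hi : i ∈ S
        · exact Submodule.mem_iSup_of_mem i (Submodule.mem_iSup_of_mem hi ⟨x, rfl⟩)
        · have := hS i hi
          rw [Subsingleton.elim x 0, map_zero]
          exact Submodule.zero_mem _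
      | add x y hx hy => exact Submodule.add_mem _ hx hy
    · exact le_top
  rw [htop]
  apply Submodule.fg_biSup
  intro i _
  rw [LinearMap.range_eq_map]
  exact Submodule.FG.map _ (hfin i).1

end Groth.Agent.Lib.Helper36.TT
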