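import Mathlib
import Groth.Prelude.Def_DTen3
import Groth.Agent.Lib.Helper36.EvalHomPerfect
import Groth.Agent.Lib.Helper36.InjAmp
import Groth.Agent.Lib.Helper12.DRingPCAbove
import Groth.Agent.Lib.Helper36.TensorTerms

/-!
# `evalHom K L M` is an isomorphism for `K` pseudo-coherent, `L ∈ D⁺`, `M` of finite injective
dimension (helper36)

Namespace `Groth.Agent.Lib.Helper36.EHPC`.
-/

set_option autoImplicit false
universe u
open CategoryTheory CategoryTheory.Limits MonoidalCategory HomologicalComplex CochainComplex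
  CategoryTheory.Pretriangulated Opposite
attribute [local instance] HasDerivedCategory.standard

namespace Groth.Agent.Lib.Helper36.EHPC

open Groth.Agent.Lib.Helper36.HCA Groth.Agent.Lib.Helper36.RHM Groth.Agent.Lib.Helper36.EHN
  Groth.Agent.Lib.Helper46.DTenKProj
  Groth.Agent.Lib.Helper46.DTenAssoc Groth.Agent.Lib.Helper46.DTenUnitShift
  Groth.Agent.Lib.Helper46.DTenMid Groth.Agent.Lib.Helper46.TriFive DerivedCategory
  Groth.Agent.Lib.Helper12 DRing

section Five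

variable {C : Type*} [Category C] [HasZeroObject C] [HasShift C ℤ] [Preadditive C]
  [∀ n : ℤ, (CategoryTheory.shiftFunctor C n).Additive] [Pretriangulated C]
  {D : Type*} [Category D] [Preadditive D]

/-- if `η` is an isomorphism at `T.obj₁` and `Hom(W, -)` vanishes on `F T.obj₃`, `G T.obj₃`,
`G (T.obj₃⟦-1⟧)`, then `Hom(W, η)` is bijective at `T.obj₂` -/
theorem bijective_comp_app_of_vanishing {F G : C ⥤ D} (η : F ⟶ G)
    (hF : ∀ T ∈ distTriang C, MidAt F T) (hG : ∀ T ∈ distTriang C, MidAt G T)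
    (T : Triangle C) (hT : T ∈ distTriang C) (h₁ : IsIso (η.app T.obj₁)) (W : D)
    (v1 : ∀ g : W ⟶ F.obj T.obj₃, g = 0) (v2 : ∀ g : W ⟶ G.obj T.obj₃, g = 0)
    (v3 : ∀ g : W ⟶ G.obj (T.obj₃⟦(-1 : ℤ)⟧), g = 0) :
    Function.Bijective (fun x : W ⟶ F.obj T.obj₂ => x ≫ η.app T.obj₂) := by
  have hI := inv_rot_of_distTriang T hT
  constructor
  · intro x x' hxx
    have key : ∀ x : W ⟶ F.obj T.obj₂, x ≫ η.app T.obj₂ = 0 → x = 0 := by
      intro x hx
      obtain ⟨y, hy⟩ := hF T hT W x (v1 _)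
      have hy1 : (y ≫ η.app T.obj₁) ≫ G.map T.invRotate.mor₂ = 0 := by
        show (y ≫ η.app T.obj₁) ≫ G.map T.mor₁ = 0
        rw [Category.assoc, ← η.naturality, ← Category.assoc, hy, hx]
      obtain ⟨z, hz⟩ := hG T.invRotate hI W (y ≫ η.app T.obj₁) hy1
      have hz0 : z = 0 := v3 z
      rw [hz0, zero_comp] at hz
      have hy0 : y = 0 := by
        rw [← cancel_mono (η.app T.obj₁), zero_comp]
        exact hz.symm
      rw [← hy, hy0, zero_comp]
    have := key (x - x') (by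
      dsimp only at hxx
      rw [Preadditive.sub_comp, hxx, sub_self])
    exact sub_eq_zero.1 this
  · intro z
    obtain ⟨w, hw⟩ := hG T hT W z (v2 _)
    refine ⟨(w ≫ inv (η.app T.obj₁)) ≫ F.map T.mor₁, ?_⟩
    dsimp only
    rw [Category.assoc, Category.assoc, η.naturality, IsIso.inv_hom_id_assoc, hw]

end Five

variable {A : Type u} [CommRing A]

/-! ### detecting isomorphisms in `D(A)` by maps out of `A[-k]` -/

theorem isIso_of_bijective_comp {Y Y' : Dual.D A} (φ : Y ⟶ Y')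
    (h : ∀ k : ℤ, Function.Bijective
      (fun g : toD (singleCx k (ModuleCat.of A A)) ⟶ Y => g ≫ φ)) : IsIso φ := by
  rw [DerivedCategory.isIso_iff]
  intro k
  rw [ConcreteCategory.isIso_iff_bijective]
  constructor
  · rw [injective_iff_map_eq_zero]
    intro x hx
    let u : ModuleCat.of A A ⟶ (HF A k).obj Y := ModuleCat.ofHom (LinearMap.toSpanSingleton A _ x)
    obtain ⟨g, hg⟩ := homClass_surjective (k := k) (M := ModuleCat.of A A) Y u
    have h1 : homClass (g ≫ φ) = 0 := by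
      rw [homClass_comp, hg]
      ext
      simpa [u] using hx
    have h2 : g ≫ φ = 0 := (homClass_eq_zero_iff _).1 h1
    have h3 : g = 0 := (h k).1 (h2.trans zero_comp.symm)
    have h4 : u = 0 := by
      rw [← hg, h3]
      exact (homClass_eq_zero_iff _).2 rfl
    have h5 := congr($h4 (1 : A))
    simpa [u] using h5
  · intro y
    let u' : ModuleCat.of A A ⟶ (HF A k).obj Y' :=
      ModuleCat.ofHom (LinearMap.toSpanSingleton A _ y)
    obtain ⟨g', hg'⟩ := homClass_surjective (k := k) (M := ModuleCat.of A A) Y' u'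
    obtain ⟨g, hg⟩ := (h k).2 g'
    refine ⟨(homClass g).hom 1, ?_⟩
    have h1 : homClass g ≫ (HF A k).map φ = u' := by
      rw [← homClass_comp]
      dsimp only at hg
      rw [hg, hg']
    have h2 := congr($h1 (1 : A))
    simpa [u'] using h2

/-! ### vanishing for degree reasons -/

lemma hom_single_Q_eq_zero (k : ℤ) (Y₀ : Cx A) (hY : IsZero (Y₀.X k))
    (g : toD (singleCx k (ModuleCat.of A A)) ⟶ Q.obj Y₀) : g = 0 := by
  have := isKProjective_singleCx_of_projective k (ModuleCat.of A A)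
  obtain ⟨γ, rfl⟩ := exists_map_of_isKProjective (singleCx k (ModuleCat.of A A)) Y₀ g
  have hγ : γ = 0 := by
    refine HomologicalComplex.hom_ext _ _ (fun j => ?_)
    by_cases hj : j = k
    · subst hj
      exact hY.eq_of_tgt _ _
    · exact (isZero_singleCx_X k _ j hj).eq_of_src _ _
  rw [hγ, Functor.map_zero]

lemma hom_Q_eq_zero_of_degrees (Z₀ I : Cx A) [I.IsKInjective]
    (h : ∀ j, IsZero (Z₀.X j) ∨ IsZero (I.X j)) (g : toD Z₀ ⟶ toD I) : g = 0 := by
  obtain ⟨γ, rfl⟩ := Groth.Agent.Lib.Helper36.InjAmp.exists_map_of_isKInjective Z₀ I g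
  have hγ : γ = 0 := by
    refine HomologicalComplex.hom_ext _ _ (fun j => ?_)
    rcases h j with hj | hj
    · exact hj.eq_of_src _ _
    · exact hj.eq_of_tgt _ _
  rw [hγ, Functor.map_zero]

/-! ### the cone of an approximation -/

theorem isLE_obj₃_of_approx (T : Triangle (Dual.D A)) (hT : T ∈ distTriang (Dual.D A)) (m : ℤ)
    (h1 : ∀ i : ℤ, m < i → IsIso ((DerivedCategory.homologyFunctor (ModuleCat.{u} A) i).map T.mor₁))
    (h2 : Epi ((DerivedCategory.homologyFunctor (ModuleCat.{u} A) m).map T.mor₁)) :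
    T.obj₃.IsLE (m - 1) := by
  rw [DerivedCategory.isLE_iff]
  intro i hi
  have hepi : Epi ((DerivedCategory.homologyFunctor (ModuleCat.{u} A) i).map T.mor₁) := by
    by_cases him : i = m
    · subst him
      exact h2
    · have := h1 i (by omega)
      infer_instance
  have hmono : Mono ((DerivedCategory.homologyFunctor (ModuleCat.{u} A) (i + 1)).map T.mor₁) := by
    have := h1 (i + 1) (by omega)
    infer_instance
  have e1 := (DerivedCategory.HomologySequence.epi_homologyMap_mor₁_iff T hT i).1 hepi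
  have e2 := (DerivedCategory.HomologySequence.mono_homologyMap_mor₁_iff T hT i (i + 1) rfl).1 hmono
  exact (DerivedCategory.HomologySequence.exact₃ T hT i (i + 1) rfl).isZero_X₂ e1 e2

/-! ### vanishing of `Hom(A[-k], F C)` and `Hom(A[-k], G C)` -/

section Vanishing

variable [DTen.HasLTen A]

theorem vanF (R : Dual.D A) (c : ℤ) [R.IsLE c] (C₀ : Cx A) [C₀.IsKProjective] (a : ℤ)
    (hC : ∀ n, a < n → IsZero (C₀.X n)) (k : ℤ) (hk : c + a < k)
    (g : toD (singleCx k (ModuleCat.of A A)) ⟶ ((DTen.LTen A).obj R).obj (Q.obj C₀)) : g = 0 := by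
  obtain ⟨X₀, hX₀, ⟨e⟩⟩ := DerivedCategory.exists_iso_Q_obj_of_isLE R c
  obtain ⟨P, f, hf, hP, -, hPv⟩ := Groth.Agent.Lib.Helper36.KP.exists_resolution_above X₀ c
    (fun n hn => X₀.isZero_of_isStrictlyLE c n hn)
  have := hP
  have : IsIso (Q.map f : (Q.obj P : Dual.D A) ⟶ _) :=
    (DerivedCategory.isIso_Q_map_iff_quasiIso (ModuleCat.{u} A) f).2 hf
  let e' : R ≅ Q.obj P := e ≪≫ (asIso (Q.map f)).symm
  have hε : IsIso ((DTen.ε A).app (P, C₀)) := isIso_ε_left A P C₀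
  let ι : ((DTen.LTen A).obj R).obj (Q.obj C₀) ≅ Q.obj (P ⊗ C₀) :=
    ((DTen.LTen A).mapIso e').app (Q.obj C₀) ≪≫ asIso ((DTen.ε A).app (P, C₀))
  have hz : IsZero ((P ⊗ C₀).X k) := Groth.Agent.Lib.Helper36.TT.isZero_tensor_X P C₀ k
    (fun p q hpq => by
      by_cases hp : c < p
      · exact Or.inl (hPv p hp)
      · exact Or.inr (hC q (by omega)))
  have h0 := hom_single_Q_eq_zero k (P ⊗ C₀) hz (g ≫ ι.hom)
  rw [← cancel_mono ι.hom, h0, zero_comp]

omit [DTen.HasLTen A] in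
lemma isZero_homCx_X (C₀ L₀ : Cx A) (a n q : ℤ) (hC : ∀ i, a < i → IsZero (C₀.X i))
    (hL : ∀ i, i < n → IsZero (L₀.X i)) (hq : q < n - a) : IsZero ((DRing.homCx C₀ L₀).X q) := by
  have : Subsingleton (HomComplex.Cochain C₀ L₀ q) := by
    refine ⟨fun z z' => ?_⟩
    refine HomComplex.Cochain.ext _ _ (fun p p' hp => ?_)
    by_cases h : a < p
    · exact (hC p h).eq_of_src _ _
    · exact (hL p' (by omega)).eq_of_tgt _ _
  exact ModuleCat.isZero_of_subsingleton (ModuleCat.of A (HomComplex.Cochain C₀ L₀ q))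

variable [DTen.HasLTen₃ A] [DTen.IsSymMonoidal A] [DTen.HasRHom A]

theorem vanG (L M : Dual.D A) (L₀ : Cx A) (n : ℤ) (hL₀ : ∀ i, i < n → IsZero (L₀.X i))
    (eL : Q.obj L₀ ≅ L) (I : Cx A) [I.IsKInjective] (b' : ℤ) (hI : ∀ i, b' < i → IsZero (I.X i))
    (eM : M ≅ Q.obj I) (C₀ : Cx A) [C₀.IsKProjective] (a : ℤ)
    (hC : ∀ i, a < i → IsZero (C₀.X i)) (k : ℤ) (hk : b' < k + n - a)
    (g : toD (singleCx k (ModuleCat.of A A)) ⟶ (G A L M).obj (Q.obj C₀)) : g = 0 := by
  let W₀ : Cx A := singleCx k (ModuleCat.of A A)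
  have : W₀.IsKProjective := isKProjective_singleCx_of_projective k (ModuleCat.of A A)
  let N₀ : Cx A := DRing.homCx C₀ L₀
  let N : Dual.D A := (DTen.RHomR A (Q.obj C₀)).obj L
  let g₀ : Q.obj W₀ ⟶ (DTen.RHomR A N).obj M := g
  suffices h : (DTen.rhomHomEquiv _ _ _).symm g₀ = 0 by
    have h1 : g₀ = DTen.rhomHomEquiv _ _ _ 0 := by
      rw [← h, Equiv.apply_symm_apply]
    have h2 : DTen.rhomHomEquiv (Q.obj W₀) N M 0 = 0 := by
      show (DTen.rhomAdj A N).homEquiv _ _ 0 = 0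
      rw [Adjunction.homEquiv_unit, Functor.map_zero, comp_zero]
    exact h1.trans h2
  have hc : IsIso (cmpL A C₀ L₀ eL) := inferInstance
  have hε : IsIso ((DTen.ε A).app (W₀, N₀)) := isIso_ε_left A W₀ N₀
  let ι : (DTen.LTen₂ A).obj (Q.obj W₀, N) ≅ Q.obj (W₀ ⊗ N₀) :=
    (((DTen.LTen A).obj (Q.obj W₀)).mapIso (asIso (cmpL A C₀ L₀ eL))).symm ≪≫
      asIso ((DTen.ε A).app (W₀, N₀))
  have h0 := hom_Q_eq_zero_of_degrees (W₀ ⊗ N₀) I (fun j => by
    by_cases hj : b' < j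
    · exact Or.inr (hI j hj)
    · refine Or.inl (Groth.Agent.Lib.Helper36.TT.isZero_tensor_X W₀ N₀ j (fun p q hpq => ?_))
      by_cases hp : p = k
      · exact Or.inr (isZero_homCx_X C₀ L₀ a n q hC hL₀ (by omega))
      · exact Or.inl (isZero_singleCx_X k _ p hp))
    (ι.inv ≫ (DTen.rhomHomEquiv _ _ _).symm g₀ ≫ eM.hom)
  rw [← cancel_mono eM.hom, ← cancel_epi ι.inv, h0, zero_comp, comp_zero]

theorem vanRHom (L M : Dual.D A) (L₀ : Cx A) (n : ℤ) (hL₀ : ∀ i, i < n → IsZero (L₀.X i))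
    (eL : Q.obj L₀ ≅ L) (I : Cx A) [I.IsKInjective] (b' : ℤ) (hI : ∀ i, b' < i → IsZero (I.X i))
    (eM : M ≅ Q.obj I) (k : ℤ) (hk : b' < k + n)
    (g : toD (singleCx k (ModuleCat.of A A)) ⟶ (DTen.RHomR A L).obj M) : g = 0 := by
  let W₀ : Cx A := singleCx k (ModuleCat.of A A)
  have : W₀.IsKProjective := isKProjective_singleCx_of_projective k (ModuleCat.of A A)
  let g₀ : Q.obj W₀ ⟶ (DTen.RHomR A L).obj M := g
  suffices h : (DTen.rhomHomEquiv _ _ _).symm g₀ = 0 by
    have h1 : g₀ = DTen.rhomHomEquiv _ _ _ 0 := by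
      rw [← h, Equiv.apply_symm_apply]
    have h2 : DTen.rhomHomEquiv (Q.obj W₀) L M 0 = 0 := by
      show (DTen.rhomAdj A L).homEquiv _ _ 0 = 0
      rw [Adjunction.homEquiv_unit, Functor.map_zero, comp_zero]
    exact h1.trans h2
  have hε : IsIso ((DTen.ε A).app (W₀, L₀)) := isIso_ε_left A W₀ L₀
  let ι : (DTen.LTen₂ A).obj (Q.obj W₀, L) ≅ Q.obj (W₀ ⊗ L₀) :=
    (((DTen.LTen A).obj (Q.obj W₀)).mapIso eL).symm ≪≫ asIso ((DTen.ε A).app (W₀, L₀))
  have h0 := hom_Q_eq_zero_of_degrees (W₀ ⊗ L₀) I (fun j => by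
    by_cases hj : b' < j
    · exact Or.inr (hI j hj)
    · refine Or.inl (Groth.Agent.Lib.Helper36.TT.isZero_tensor_X W₀ L₀ j (fun p q hpq => ?_))
      by_cases hp : p = k
      · exact Or.inr (hL₀ q (by omega))
      · exact Or.inl (isZero_singleCx_X k _ p hp))
    (ι.inv ≫ (DTen.rhomHomEquiv _ _ _).symm g₀ ≫ eM.hom)
  rw [← cancel_mono eM.hom, ← cancel_epi ι.inv, h0, zero_comp, comp_zero]

end Vanishing

/-- `H^j(K) = 0` if there are no nonzero maps `A[-j] ⟶ K` -/
theorem isZero_HF_of_hom_single_eq_zero (K : Dual.D A) (j : ℤ)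
    (h1 : ∀ g : toD (singleCx j (ModuleCat.of A A)) ⟶ K, g = 0) : IsZero ((HF A j).obj K) := by
  have h2 : ∀ φ : ModuleCat.of A A ⟶ (HF A j).obj K, φ = 0 := by
    intro φ
    obtain ⟨g, rfl⟩ := homClass_surjective (k := j) (M := ModuleCat.of A A) K φ
    rw [h1 g]
    exact (homClass_eq_zero_iff (0 : toD (singleCx j (ModuleCat.of A A)) ⟶ K)).mpr rfl
  rw [IsZero.iff_id_eq_zero]
  ext x
  have h3 := h2 (ModuleCat.ofHom (LinearMap.toSpanSingleton A _ x))
  have h4 := congr($h3 (1 : A))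
  simpa using h4

section Main

variable (A)
variable [DTen.HasLTen A] [DTen.HasLTen₃ A] [DTen.IsSymMonoidal A] [DTen.HasRHom A]

theorem isIso_evalHom_of_pseudoCoherent (K L M : Dual.D A) (hK : DRing.IsPseudoCoherent' A K)
    (n : ℤ) (hL : DerivedCategory.IsGE L n) (hM : DRing.HasFiniteInjDim A M) :
    IsIso (DTen.evalHom K L M) := by
  obtain ⟨a', b', I, hI, hinj, ⟨eM⟩⟩ := hM
  have hGE : I.IsStrictlyGE a' := by
    rw [CochainComplex.isStrictlyGE_iff]
    intro j hj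
    exact hI j (Or.inl hj)
  have hinj' : ∀ j, Injective (I.X j) := fun j => by
    have := hinj j
    exact Module.injective_object_of_injective_module A (I.X j)
  have hKI : I.IsKInjective := CochainComplex.isKInjective_of_injective I a'
  have hIv : ∀ i, b' < i → IsZero (I.X i) := fun i hi => hI i (Or.inr hi)
  obtain ⟨L₀, hL₀, ⟨eL⟩⟩ := DerivedCategory.exists_iso_Q_obj_of_isGE L n
  have hL₀v : ∀ i, i < n → IsZero (L₀.X i) := fun i hi => L₀.isZero_of_isStrictlyGE n i hi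
  let R := (DTen.RHomR A L).obj M
  have hR : R.IsLE (b' - n) := by
    rw [DerivedCategory.isLE_iff]
    intro i hi
    exact isZero_HF_of_hom_single_eq_zero R i
      (fun g => vanRHom L M L₀ n hL₀v eL.symm I b' hIv eM.symm i (by omega) g)
  have hφ : DTen.evalHom K L M = (evalHomNat A L M).app K := rfl
  rw [hφ]
  apply isIso_of_bijective_comp
  intro k
  obtain ⟨E, a₁, b₁, α, hE, hff, hiso, hepi⟩ :=
    isPseudoCoherent_of_isPseudoCoherent' hK (k + n - b' - 1)
  obtain ⟨C, β, γ, hT⟩ := Pretriangulated.distinguished_cocone_triangle α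
  have hC : C.IsLE (k + n - b' - 1 - 1) :=
    isLE_obj₃_of_approx (Triangle.mk α β γ) hT (k + n - b' - 1) hiso hepi
  obtain ⟨C₁, hC₁, ⟨eC⟩⟩ := DerivedCategory.exists_iso_Q_obj_of_isLE C (k + n - b' - 1 - 1)
  obtain ⟨C₀, f, hf, hP, -, hCv⟩ := Groth.Agent.Lib.Helper36.KP.exists_resolution_above C₁
    (k + n - b' - 1 - 1) (fun i hi => C₁.isZero_of_isStrictlyLE _ i hi)
  have := hP
  have : IsIso (Q.map f : (Q.obj C₀ : Dual.D A) ⟶ _) :=
    (DerivedCategory.isIso_Q_map_iff_quasiIso (ModuleCat.{u} A) f).2 hf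
  let eC' : C ≅ Q.obj C₀ := eC ≪≫ (asIso (Q.map f)).symm
  have hperf : DRing.IsPerfect A (toD E) :=
    ⟨E, a₁, b₁, hE, fun i => ⟨(hff i).1, by
      have := (hff i).2
      infer_instance⟩, ⟨Iso.refl _⟩⟩
  have h₁ : IsIso ((evalHomNat A L M).app (toD E)) :=
    isIso_evalHom_of_isPerfect A L M _ hperf
  refine bijective_comp_app_of_vanishing (evalHomNat A L M)
    (fun T hT => midAt_LTen_obj A _ T hT) (fun T hT => midAt_G A L M T hT)
    (Triangle.mk α β γ) hT h₁ _ ?_ ?_ ?_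
  · intro g
    have h0 := vanF R (b' - n) C₀ (k + n - b' - 1 - 1) hCv k (by omega)
      (g ≫ (F A L M).map eC'.hom)
    have : IsIso ((F A L M).map eC'.hom) := inferInstance
    exact (cancel_mono ((F A L M).map eC'.hom)).1 (h0.trans zero_comp.symm)
  · intro g
    have h0 := vanG L M L₀ n hL₀v eL.symm I b' hIv eM.symm C₀ (k + n - b' - 1 - 1) hCv k
      (by omega) (g ≫ (G A L M).map eC'.hom)
    have : IsIso ((G A L M).map eC'.hom) := inferInstance
    exact (cancel_mono ((G A L M).map eC'.hom)).1 (h0.trans zero_comp.symm)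
  · intro g
    let eS : C⟦(-1 : ℤ)⟧ ≅ Q.obj (C₀⟦(-1 : ℤ)⟧) :=
      (CategoryTheory.shiftFunctor (Dual.D A) (-1 : ℤ)).mapIso eC' ≪≫
        ((Q.commShiftIso (-1 : ℤ)).app C₀).symm
    have hCv' : ∀ i, k + n - b' - 1 < i → IsZero ((C₀⟦(-1 : ℤ)⟧).X i) := fun i hi =>
      hCv (i + (-1)) (by omega)
    have h0 := vanG L M L₀ n hL₀v eL.symm I b' hIv eM.symm (C₀⟦(-1 : ℤ)⟧) (k + n - b' - 1) hCv' k
      (by omega) (g ≫ (G A L M).map eS.hom)
    have : IsIso ((G A L M).map eS.hom) := inferInstance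
    exact (cancel_mono ((G A L M).map eS.hom)).1 (h0.trans zero_comp.symm)

end Main

end Groth.Agent.Lib.Helper36.EHPC
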