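import Mathlib

/-!
Helper (helper36): explicit null-homotopies for chain maps from acyclic bounded above complexes of
modules to bounded below complexes.
-/

set_option autoImplicit false
universe u

open CategoryTheory CategoryTheory.Limits CochainComplex.HomComplex

namespace Groth.Agent.Lib.Helper36.NH

variable {R : Type u} [CommRing R]

/-- A null-homotopy with two components `h0 : C^0 ⟶ K^{-1}`, `h1 : C^{-1} ⟶ K^{-2}`. -/
noncomputable def homotopyOfTwo {C K : CochainComplex (ModuleCat.{u} R) ℤ} (v : C ⟶ K)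
    (h0 : C.X 0 ⟶ K.X (-1)) (h1 : C.X (-1) ⟶ K.X (-2))
    (e0 : v.f 0 = h0 ≫ K.d (-1) 0)
    (e1 : v.f (-1) = h1 ≫ K.d (-2) (-1) + C.d (-1) 0 ≫ h0)
    (e2 : v.f (-2) = C.d (-2) (-1) ≫ h1)
    (hz : ∀ i : ℤ, i ≠ 0 → i ≠ -1 → i ≠ -2 → v.f i = 0) : Homotopy v 0 := by
  refine (Cochain.equivHomotopy v 0).symm
    ⟨Cochain.single h0 (-1) + Cochain.single h1 (-1), ?_⟩
  rw [Cochain.ofHom_zero, add_zero]
  refine Cochain.ext _ _ (fun p q hpq => ?_)
  obtain rfl : p = q := by omega
  rw [δ_v (-1) 0 rfl _ p p (add_zero p) (p - 1) (p + 1) rfl rfl]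
  simp only [Int.negOnePow_zero, one_smul, Cochain.add_v, Cochain.ofHom_v]
  by_cases hp0 : p = 0
  · subst hp0
    rw [Cochain.single_v_eq_zero h1 (-1) 0 (0 - 1) (by omega) (by omega),
      Cochain.single_v_eq_zero h0 (-1) (0 + 1) 0 (by omega) (by omega),
      Cochain.single_v_eq_zero h1 (-1) (0 + 1) 0 (by omega) (by omega)]
    simp only [add_zero, comp_zero]
    have : (Cochain.single h0 (-1)).v 0 (0 - 1) (by omega) = h0 := Cochain.single_v h0 (-1) (by omega)
    rw [this, e0]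
    rfl
  · by_cases hp1 : p = -1
    · subst hp1
      rw [Cochain.single_v_eq_zero h0 (-1) (-1) (-1 - 1) (by omega) (by omega),
        Cochain.single_v_eq_zero h1 (-1) (-1 + 1) (-1) (by omega) (by omega)]
      simp only [add_zero, zero_add]
      have t1 : (Cochain.single h1 (-1)).v (-1) (-1 - 1) (by omega) = h1 :=
        Cochain.single_v h1 (-1) (by omega)
      have t2 : (Cochain.single h0 (-1)).v (-1 + 1) (-1) (by omega) = h0 :=
        Cochain.single_v h0 (-1) (by omega)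
      rw [t1, t2, e1]
      rfl
    · by_cases hp2 : p = -2
      · subst hp2
        rw [Cochain.single_v_eq_zero h0 (-1) (-2) (-2 - 1) (by omega) (by omega),
          Cochain.single_v_eq_zero h1 (-1) (-2) (-2 - 1) (by omega) (by omega),
          Cochain.single_v_eq_zero h0 (-1) (-2 + 1) (-2) (by omega) (by omega)]
        simp only [add_zero, zero_add, zero_comp]
        have t1 : (Cochain.single h1 (-1)).v (-2 + 1) (-2) (by omega) = h1 :=
          Cochain.single_v h1 (-1) (by omega)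
        rw [t1, e2]
        rfl
      · rw [Cochain.single_v_eq_zero h0 (-1) p (p - 1) (by omega) (by omega),
          Cochain.single_v_eq_zero h1 (-1) p (p - 1) (by omega) (by omega),
          Cochain.single_v_eq_zero h0 (-1) (p + 1) p (by omega) (by omega),
          Cochain.single_v_eq_zero h1 (-1) (p + 1) p (by omega) (by omega)]
        simp only [add_zero, zero_comp, comp_zero]
        exact hz p hp0 hp1 hp2

section descend
variable {X Y Z : Type*} [AddCommGroup X] [Module R X] [AddCommGroup Y] [Module R Y]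
  [AddCommGroup Z] [Module R Z]

/-- Descent of `w` along `e` to the range of `e`. -/
noncomputable def descend (e : X →ₗ[R] Y) (w : X →ₗ[R] Z)
    (h : LinearMap.ker e ≤ LinearMap.ker w) : LinearMap.range e →ₗ[R] Z :=
  (Submodule.liftQ (LinearMap.ker e) w h) ∘ₗ (LinearMap.quotKerEquivRange e).symm.toLinearMap

lemma descend_apply (e : X →ₗ[R] Y) (w : X →ₗ[R] Z)
    (h : LinearMap.ker e ≤ LinearMap.ker w) (x : X) (hx : e x ∈ LinearMap.range e) :
    descend e w h ⟨e x, hx⟩ = w x := by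
  unfold descend
  rw [LinearMap.comp_apply]
  have : (LinearMap.quotKerEquivRange e).symm.toLinearMap ⟨e x, hx⟩ =
      (LinearMap.ker e).mkQ x := LinearMap.quotKerEquivRange_symm_apply_image e x hx
  rw [this]
  rfl

end descend

lemma exists_of_exactAt (C : CochainComplex (ModuleCat.{u} R) ℤ) (i j k : ℤ) (hij : i + 1 = j)
    (hjk : j + 1 = k) (h : C.ExactAt j) (x : C.X j) (hx : (C.d j k).hom x = 0) :
    ∃ y : C.X i, (C.d i j).hom y = x := by
  rw [HomologicalComplex.exactAt_iff' C i j k (by simp; omega) (by simp; omega)] at h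
  exact (ShortComplex.moduleCat_exact_iff _).mp h x hx

lemma hom_apply_eq_zero_of_isZero_src {X Y : ModuleCat.{u} R} (h : IsZero X) (g : X ⟶ Y) (x : X) :
    g.hom x = 0 := by
  rw [h.eq_of_src g 0]
  rfl

lemma hom_apply_eq_zero_of_isZero_tgt {X Y : ModuleCat.{u} R} (h : IsZero Y) (g : X ⟶ Y) (x : X) :
    g.hom x = 0 := by
  rw [h.eq_of_tgt g 0]
  rfl

lemma comm_apply {C K : CochainComplex (ModuleCat.{u} R) ℤ} (v : C ⟶ K) (i j : ℤ) (x : C.X i) :
    (K.d i j).hom ((v.f i).hom x) = (v.f j).hom ((C.d i j).hom x) := by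
  have := v.comm i j
  exact congr($this x)

/-- Chain maps from an acyclic complex concentrated in degrees `≤ 0` to a complex concentrated in
degrees `≥ -1` are null-homotopic. -/
theorem nonempty_homotopy_zero {C K : CochainComplex (ModuleCat.{u} R) ℤ}
    (hC : ∀ i : ℤ, 0 < i → IsZero (C.X i)) (hex : ∀ i : ℤ, C.ExactAt i)
    (hK : ∀ i : ℤ, i ≤ -2 → IsZero (K.X i)) (v : C ⟶ K) : Nonempty (Homotopy v 0) := by
  let d0 : C.X (-1) →ₗ[R] C.X 0 := (C.d (-1) 0).hom
  have hsurj : ∀ c : C.X 0, c ∈ LinearMap.range d0 := by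
    intro c
    obtain ⟨y, hy⟩ := exists_of_exactAt C (-1) 0 1 (by omega) (by omega) (hex 0) c
      (hom_apply_eq_zero_of_isZero_tgt (hC 1 (by omega)) _ _)
    exact ⟨y, hy⟩
  have hker : LinearMap.ker d0 ≤ LinearMap.ker (v.f (-1)).hom := by
    intro x hx
    rw [LinearMap.mem_ker] at hx ⊢
    obtain ⟨y, hy⟩ := exists_of_exactAt C (-2) (-1) 0 (by omega) (by omega) (hex (-1)) x hx
    rw [← hy, ← comm_apply v (-2) (-1) y,
      hom_apply_eq_zero_of_isZero_tgt (hK (-2) le_rfl) (v.f (-2)) y, map_zero]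
  let l : C.X 0 →ₗ[R] K.X (-1) :=
    descend d0 (v.f (-1)).hom hker ∘ₗ LinearMap.codRestrict (LinearMap.range d0) LinearMap.id hsurj
  have hl : ∀ x : C.X (-1), l (d0 x) = (v.f (-1)).hom x := fun x =>
    descend_apply d0 (v.f (-1)).hom hker x _
  refine ⟨homotopyOfTwo v (ModuleCat.ofHom l) 0 ?_ ?_ ?_ ?_⟩
  · ext c
    obtain ⟨x, rfl⟩ := hsurj c
    show (v.f 0).hom (d0 x) = (K.d (-1) 0).hom (l (d0 x))
    rw [hl, comm_apply]
  · ext x
    show (v.f (-1)).hom x = (K.d (-2) (-1)).hom 0 + l (d0 x)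
    rw [hl, map_zero, zero_add]
  · rw [comp_zero]
    exact (hK (-2) le_rfl).eq_of_tgt _ _
  · intro i h0 h1 h2
    by_cases hi : 0 < i
    · exact (hC i hi).eq_of_src _ _
    · exact (hK i (by omega)).eq_of_tgt _ _

/-- Chain maps from an acyclic complex concentrated in degrees `≤ 0` with projective degree `0`
term to a complex concentrated in degrees `≥ -2` are null-homotopic. -/
theorem nonempty_homotopy_zero_of_projective {C K : CochainComplex (ModuleCat.{u} R) ℤ}
    (hC : ∀ i : ℤ, 0 < i → IsZero (C.X i)) (hex : ∀ i : ℤ, C.ExactAt i)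
    (hP : Module.Projective R (C.X 0))
    (hK : ∀ i : ℤ, i ≤ -3 → IsZero (K.X i)) (v : C ⟶ K) : Nonempty (Homotopy v 0) := by
  let d0 : C.X (-1) →ₗ[R] C.X 0 := (C.d (-1) 0).hom
  let d1 : C.X (-2) →ₗ[R] C.X (-1) := (C.d (-2) (-1)).hom
  have hsurj : Function.Surjective d0 := by
    intro c
    exact exists_of_exactAt C (-1) 0 1 (by omega) (by omega) (hex 0) c
      (hom_apply_eq_zero_of_isZero_tgt (hC 1 (by omega)) _ _)
  obtain ⟨t, ht⟩ := Module.projective_lifting_property d0 LinearMap.id hsurj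
  have ht' : ∀ c, d0 (t c) = c := fun c => congr($ht c)
  have hd01 : ∀ y, d0 (d1 y) = 0 := by
    intro y
    have := C.d_comp_d (-2) (-1) 0
    exact congr($this y)
  have hker : LinearMap.ker d1 ≤ LinearMap.ker (v.f (-2)).hom := by
    intro x hx
    rw [LinearMap.mem_ker] at hx ⊢
    obtain ⟨y, hy⟩ := exists_of_exactAt C (-3) (-2) (-1) (by omega) (by omega) (hex (-2)) x hx
    rw [← hy, ← comm_apply v (-3) (-2) y,
      hom_apply_eq_zero_of_isZero_tgt (hK (-3) le_rfl) (v.f (-3)) y, map_zero]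
  let p : C.X (-1) →ₗ[R] C.X (-1) := LinearMap.id - t ∘ₗ d0
  have hp : ∀ x, p x ∈ LinearMap.range d1 := by
    intro x
    have h0 : d0 (p x) = 0 := by
      show d0 (x - t (d0 x)) = 0
      rw [map_sub, ht', sub_self]
    obtain ⟨y, hy⟩ := exists_of_exactAt C (-2) (-1) 0 (by omega) (by omega) (hex (-1)) (p x) h0
    exact ⟨y, hy⟩
  let l1 : C.X (-1) →ₗ[R] K.X (-2) :=
    descend d1 (v.f (-2)).hom hker ∘ₗ LinearMap.codRestrict (LinearMap.range d1) p hp
  have hl1 : ∀ (x : C.X (-1)) (y : C.X (-2)), p x = d1 y → l1 x = (v.f (-2)).hom y := by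
    intro x y hxy
    show descend d1 (v.f (-2)).hom hker ⟨p x, hp x⟩ = _
    have : (⟨p x, hp x⟩ : LinearMap.range d1) = ⟨d1 y, LinearMap.mem_range_self d1 y⟩ :=
      Subtype.ext hxy
    rw [this]
    exact descend_apply d1 (v.f (-2)).hom hker y _
  let l0 : C.X 0 →ₗ[R] K.X (-1) := (v.f (-1)).hom ∘ₗ t
  refine ⟨homotopyOfTwo v (ModuleCat.ofHom l0) (ModuleCat.ofHom l1) ?_ ?_ ?_ ?_⟩
  · ext c
    show (v.f 0).hom c = (K.d (-1) 0).hom ((v.f (-1)).hom (t c))
    rw [comm_apply]
    show (v.f 0).hom c = (v.f 0).hom (d0 (t c))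
    rw [ht']
  · ext x
    show (v.f (-1)).hom x = (K.d (-2) (-1)).hom (l1 x) + (v.f (-1)).hom (t (d0 x))
    obtain ⟨y, hy⟩ := hp x
    rw [hl1 x y hy.symm, comm_apply]
    show _ = (v.f (-1)).hom (d1 y) + _
    rw [hy, ← map_add]
    congr 1
    show x = x - t (d0 x) + t (d0 x)
    abel
  · ext y
    show (v.f (-2)).hom y = l1 (d1 y)
    have : p (d1 y) = d1 y := by
      show d1 y - t (d0 (d1 y)) = d1 y
      rw [hd01, map_zero, sub_zero]
    rw [hl1 (d1 y) y this]
  · intro i h0 h1 h2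
    by_cases hi : 0 < i
    · exact (hC i hi).eq_of_src _ _
    · exact (hK i (by omega)).eq_of_tgt _ _

end Groth.Agent.Lib.Helper36.NH
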