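import Mathlib
import Groth.Agent.Lib.Helper36.NullHomotopy
import Groth.Agent.Lib.Helper36.DerivedComplete6

/-!
Helper (helper36): for `M` concentrated in degrees `≤ 0` with `M^0` projective and `K` concentrated
in degrees `≥ -1`, the map `Hom_{K(R)}(M, K) → Hom_{D(R)}(M, K)` is bijective.
-/

set_option autoImplicit false
universe u

open CategoryTheory CategoryTheory.Limits CategoryTheory.Pretriangulated CochainComplex
  HomotopyCategory DerivedCategory
attribute [local instance] HasDerivedCategory.standard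

namespace Groth.Agent.Lib.Helper36.NH

variable {R : Type u} [CommRing R]

/-- The cone of a quasi-isomorphism between complexes concentrated in degrees `≤ 0` is acyclic and
concentrated in degrees `≤ 0`. -/
lemma cone_props {M' M : CochainComplex (ModuleCat.{u} R) ℤ} (s : M' ⟶ M) (hs : QuasiIso s)
    (hM' : ∀ i : ℤ, 0 < i → IsZero (M'.X i)) (hM : ∀ i : ℤ, 0 < i → IsZero (M.X i)) :
    (∀ i : ℤ, 0 < i → IsZero ((mappingCone s).X i)) ∧ (∀ i : ℤ, (mappingCone s).ExactAt i) := by
  constructor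
  · intro i hi
    rw [mappingCone.isZero_X_iff]
    exact ⟨hM' (i + 1) (by omega), hM i hi⟩
  · have h1 : HomotopyCategory.quasiIso _ _ ((HomotopyCategory.quotient _ _).map s) :=
      (quotient_map_mem_quasiIso_iff s).mpr hs
    rw [quasiIso_eq_trW_subcategoryAcyclic] at h1
    have h2 := ((subcategoryAcyclic (ModuleCat.{u} R)).trW_iff_of_distinguished _
      (mappingCone_triangleh_distinguished s)).mp h1
    exact (quotient_obj_mem_subcategoryAcyclic_iff_exactAt _).mp h2

/-- Truncation: a quasi-isomorphism in `K(R)` to a complex in degrees `≤ 0` can be refined to one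
whose source is also in degrees `≤ 0`. -/
lemma exists_truncation {M : CochainComplex (ModuleCat.{u} R) ℤ}
    (hM : ∀ i : ℤ, 0 < i → IsZero (M.X i))
    {X' : HomotopyCategory (ModuleCat.{u} R) (ComplexShape.up ℤ)}
    (s : X' ⟶ (HomotopyCategory.quotient _ _).obj M) (hs : HomotopyCategory.quasiIso _ _ s) :
    ∃ (M'' : CochainComplex (ModuleCat.{u} R) ℤ) (_ : ∀ i : ℤ, 0 < i → IsZero (M''.X i))
      (ι : (HomotopyCategory.quotient _ _).obj M'' ⟶ X') (_ : HomotopyCategory.quasiIso _ _ ι)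
      (s₀ : M'' ⟶ M), QuasiIso s₀ ∧ (HomotopyCategory.quotient _ _).map s₀ = ι ≫ s := by
  obtain ⟨M₀, rfl⟩ := HomotopyCategory.quotient_obj_surjective X'
  obtain ⟨s₁, rfl⟩ := (HomotopyCategory.quotient _ _).map_surjective s
  have hs₁ : QuasiIso s₁ := (quotient_map_mem_quasiIso_iff s₁).mp hs
  have hMs : M.IsStrictlyLE 0 := by
    rw [CochainComplex.isStrictlyLE_iff]
    exact hM
  have hLE : CochainComplex.IsLE M₀ 0 := by
    rw [CochainComplex.isLE_iff]
    intro i hi
    have hex : M.ExactAt i := M.exactAt_of_isLE 0 i hi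
    exact (quasiIsoAt_iff_exactAt' s₁ i hex).mp inferInstance
  refine ⟨CochainComplex.truncLE M₀ 0,
    fun i hi => CochainComplex.isZero_of_isStrictlyLE (CochainComplex.truncLE M₀ 0) 0 i hi,
    (HomotopyCategory.quotient _ _).map (CochainComplex.ιTruncLE M₀ 0),
    (quotient_map_mem_quasiIso_iff _).mpr
      ((HomologicalComplex.mem_quasiIso_iff _).mpr inferInstance),
    CochainComplex.ιTruncLE M₀ 0 ≫ s₁,
    inferInstance, ?_⟩
  rw [Functor.map_comp]

theorem Qh_map_eq_zero {M K : CochainComplex (ModuleCat.{u} R) ℤ}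
    (hM : ∀ i : ℤ, 0 < i → IsZero (M.X i)) (hK : ∀ i : ℤ, i ≤ -2 → IsZero (K.X i))
    (φ : (HomotopyCategory.quotient _ _).obj M ⟶ (HomotopyCategory.quotient _ _).obj K)
    (hφ : Qh.map φ = 0) : φ = 0 := by
  rw [← Qh.map_zero, MorphismProperty.map_eq_iff_precomp Qh
    (HomotopyCategory.quasiIso (ModuleCat.{u} R) (ComplexShape.up ℤ))] at hφ
  obtain ⟨X', s, hs, eq⟩ := hφ
  obtain ⟨M'', hM'', ι, hι, s₀, hs₀, hs₀'⟩ := exists_truncation hM s hs
  obtain ⟨hC0, hCex⟩ := cone_props s₀ hs₀ hM'' hM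
  have h0 : (HomotopyCategory.quotient _ _).map s₀ ≫ φ = 0 := by
    rw [hs₀', Category.assoc, eq, comp_zero, comp_zero]
  obtain ⟨w, hw⟩ := Triangle.yoneda_exact₂ _ (mappingCone_triangleh_distinguished s₀) φ h0
  obtain ⟨v, rfl⟩ := (HomotopyCategory.quotient _ _).map_surjective w
  obtain ⟨hv⟩ := nonempty_homotopy_zero hC0 hCex hK v
  rw [hw, HomotopyCategory.eq_of_homotopy v 0 hv, Functor.map_zero]
  exact comp_zero

lemma projective_cone_X_zero {M' M : CochainComplex (ModuleCat.{u} R) ℤ} (s : M' ⟶ M)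
    (hM' : IsZero (M'.X 1)) (hM0 : Module.Projective R (M.X 0)) :
    Module.Projective R ((mappingCone s).X 0) := by
  let e : (mappingCone s).X 0 ≅ M'.X (0 + 1) ⊞ M.X 0 :=
    HomologicalComplex.homotopyCofiber.XIsoBiprod s 0 (0 + 1) rfl
  have h1 : Projective (M.X 0) := (IsProjective.iff_projective (R := R) (M.X 0)).mp hM0
  have h2 : Projective (M'.X (0 + 1)) := hM'.projective
  have h3 : Projective ((mappingCone s).X 0) := Projective.of_iso e.symm inferInstance
  exact (IsProjective.iff_projective (R := R) ((mappingCone s).X 0)).mpr h3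

theorem exists_Qh_map_eq {M K : CochainComplex (ModuleCat.{u} R) ℤ}
    (hM : ∀ i : ℤ, 0 < i → IsZero (M.X i)) (hM0 : Module.Projective R (M.X 0))
    (hK : ∀ i : ℤ, i ≤ -2 → IsZero (K.X i))
    (ψ : Qh.obj ((HomotopyCategory.quotient _ _).obj M) ⟶
      Qh.obj ((HomotopyCategory.quotient _ _).obj K)) :
    ∃ φ : (HomotopyCategory.quotient _ _).obj M ⟶ (HomotopyCategory.quotient _ _).obj K,
      Qh.map φ = ψ := by
  obtain ⟨fr, hfr⟩ := Localization.exists_rightFraction Qh
    (HomotopyCategory.quasiIso (ModuleCat.{u} R) (ComplexShape.up ℤ)) ψ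
  obtain ⟨M'', hM'', ι, hι, s₀, hs₀, hs₀'⟩ := exists_truncation hM fr.s fr.hs
  obtain ⟨hC0, hCex⟩ := cone_props s₀ hs₀ hM'' hM
  have hP := projective_cone_X_zero s₀ (hM'' 1 (by omega)) hM0
  -- the morphism `g''`
  let g'' : (HomotopyCategory.quotient _ _).obj M'' ⟶ (HomotopyCategory.quotient _ _).obj K :=
    ι ≫ fr.f
  have hT := mappingCone_triangleh_distinguished s₀
  let e := ((HomotopyCategory.quotient (ModuleCat.{u} R) (ComplexShape.up ℤ)).commShiftIso
    (1 : ℤ)).app K
  have hK1 : ∀ i : ℤ, i ≤ -3 → IsZero ((K⟦(1 : ℤ)⟧).X i) := fun i hi => hK (i + 1) (by omega)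
  have hz : (mappingCone.triangleh s₀).mor₃ ≫ g''⟦(1 : ℤ)⟧' = 0 := by
    obtain ⟨v, hv⟩ := (HomotopyCategory.quotient _ _).map_surjective
      (((mappingCone.triangleh s₀).mor₃ ≫ g''⟦(1 : ℤ)⟧') ≫ e.inv)
    obtain ⟨hv0⟩ := nonempty_homotopy_zero_of_projective hC0 hCex hP hK1 v
    rw [HomotopyCategory.eq_of_homotopy v 0 hv0, Functor.map_zero] at hv
    have h3 := congrArg (· ≫ e.hom) hv
    simp only [Category.assoc, Iso.inv_hom_id, Category.comp_id, zero_comp] at h3
    exact h3.symm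
  obtain ⟨g', hg'⟩ := Groth.Agent.Lib.Helper36.DC.yoneda_exact_rot _ hT (g''⟦(1 : ℤ)⟧') hz
  obtain ⟨α, rfl⟩ := (CategoryTheory.shiftFunctor _ (1 : ℤ)).map_surjective g'
  refine ⟨α, ?_⟩
  have h4 : g'' = (HomotopyCategory.quotient _ _).map s₀ ≫ α := by
    apply (CategoryTheory.shiftFunctor _ (1 : ℤ)).map_injective
    refine hg'.trans ?_
    exact (Functor.map_comp _ _ _).symm
  have hιiso : IsIso (Qh.map ι) := Localization.inverts Qh
    (HomotopyCategory.quasiIso (ModuleCat.{u} R) (ComplexShape.up ℤ)) ι hι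
  have hsiso : IsIso (Qh.map fr.s) := Localization.inverts Qh
    (HomotopyCategory.quasiIso (ModuleCat.{u} R) (ComplexShape.up ℤ)) fr.s fr.hs
  have h5 : Qh.map fr.s ≫ ψ = Qh.map fr.f := by
    rw [hfr]
    exact MorphismProperty.RightFraction.map_s_comp_map fr Qh _
  have h6 : Qh.map ι ≫ Qh.map fr.s ≫ Qh.map α = Qh.map ι ≫ Qh.map fr.s ≫ ψ := by
    rw [h5, ← Functor.map_comp, ← Functor.map_comp, ← Functor.map_comp, ← Category.assoc, ← hs₀',
      ← h4]
  have h7 := (cancel_epi (Qh.map ι)).mp h6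
  exact (cancel_epi (Qh.map fr.s)).mp h7

/-- The comparison map from homotopy classes to morphisms in the derived category is bijective. -/
theorem bijective_Qh_map {M K : CochainComplex (ModuleCat.{u} R) ℤ}
    (hM : ∀ i : ℤ, 0 < i → IsZero (M.X i)) (hM0 : Module.Projective R (M.X 0))
    (hK : ∀ i : ℤ, i ≤ -2 → IsZero (K.X i)) :
    Function.Bijective (fun φ : (HomotopyCategory.quotient (ModuleCat.{u} R)
      (ComplexShape.up ℤ)).obj M ⟶ (HomotopyCategory.quotient (ModuleCat.{u} R)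
      (ComplexShape.up ℤ)).obj K => Qh.map φ) := by
  constructor
  · intro φ₁ φ₂ h
    have h0 : Qh.map (φ₁ - φ₂) = 0 := by
      rw [Functor.map_sub]
      exact sub_eq_zero.mpr h
    exact sub_eq_zero.mp (Qh_map_eq_zero hM hK _ h0)
  · intro ψ
    exact exists_Qh_map_eq hM hM0 hK ψ

end Groth.Agent.Lib.Helper36.NH
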