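import Mathlib
import Groth.Agent.Lib.Helper36.HomotopyToDerived

/-!
Helper (helper36): `Q`-versions of the comparison `Hom_{K(R)} → Hom_{D(R)}` and the criterion for a
chain map to act by zero on `Ext^1(-, N)`.
-/

set_option autoImplicit false
universe u

open CategoryTheory CategoryTheory.Limits CategoryTheory.Pretriangulated CochainComplex
  HomotopyCategory DerivedCategory
attribute [local instance] HasDerivedCategory.standard

namespace Groth.Agent.Lib.Helper36.NH

variable {R : Type u} [CommRing R]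

theorem exists_Q_map_eq {M K : CochainComplex (ModuleCat.{u} R) ℤ}
    (hM : ∀ i : ℤ, 0 < i → IsZero (M.X i)) (hM0 : Module.Projective R (M.X 0))
    (hK : ∀ i : ℤ, i ≤ -2 → IsZero (K.X i)) (ψ : Q.obj M ⟶ Q.obj K) :
    ∃ u : M ⟶ K, Q.map u = ψ := by
  let iso := quotientCompQhIso (ModuleCat.{u} R)
  obtain ⟨φ, hφ⟩ := exists_Qh_map_eq hM hM0 hK (iso.hom.app M ≫ ψ ≫ iso.inv.app K)
  obtain ⟨u, rfl⟩ := (HomotopyCategory.quotient _ _).map_surjective φ
  refine ⟨u, ?_⟩
  have h1 := quotientCompQhIso_hom_naturality u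
  rw [hφ] at h1
  have h2 : iso.hom.app M ≫ ψ = iso.hom.app M ≫ Q.map u := by
    rw [← h1]
    simp [iso]
  exact ((cancel_epi (iso.hom.app M)).mp h2).symm

theorem nonempty_homotopy_of_Q_map_eq_zero {M K : CochainComplex (ModuleCat.{u} R) ℤ}
    (hM : ∀ i : ℤ, 0 < i → IsZero (M.X i)) (hK : ∀ i : ℤ, i ≤ -2 → IsZero (K.X i))
    (u : M ⟶ K) (h : Q.map u = 0) : Nonempty (Homotopy u 0) := by
  have h1 := quotientCompQhIso_hom_naturality u
  rw [h, comp_zero] at h1
  have h2 : Qh.map ((HomotopyCategory.quotient _ _).map u) = 0 := by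
    have h3 := congrArg (· ≫ (quotientCompQhIso (ModuleCat.{u} R)).inv.app K) h1
    simpa using h3
  have h4 := Qh_map_eq_zero hM hK _ h2
  exact ⟨HomotopyCategory.homotopyOfEq u 0 (by rw [h4, Functor.map_zero])⟩

/-- The single complex with `N` in degree `-1`. -/
noncomputable abbrev sgl (N : ModuleCat.{u} R) : CochainComplex (ModuleCat.{u} R) ℤ :=
  (CochainComplex.singleFunctor (ModuleCat.{u} R) (-1)).obj N

/-- `N[0][1] ≅ N[1]` in the derived category. -/
noncomputable def shiftSingleIso (N : ModuleCat.{u} R) :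
    ((DerivedCategory.singleFunctor (ModuleCat.{u} R) 0).obj N)⟦(1 : ℤ)⟧ ≅ Q.obj (sgl N) :=
  ((DerivedCategory.singleFunctors (ModuleCat.{u} R)).shiftIso 1 (-1) 0 (by norm_num)).app N ≪≫
    (singleFunctorIsoCompQ (ModuleCat.{u} R) (-1)).app N

lemma isZero_sgl_X (N : ModuleCat.{u} R) (i : ℤ) (hi : i ≠ -1) : IsZero ((sgl N).X i) :=
  HomologicalComplex.isZero_single_obj_X (ComplexShape.up ℤ) (-1) N i hi

/-- Criterion for a chain map to act by zero on `Ext^1(-, N)` for all `N`. -/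
theorem ext_one_zero_iff {M K : CochainComplex (ModuleCat.{u} R) ℤ}
    (hM : ∀ i : ℤ, 0 < i → IsZero (M.X i))
    (hK : ∀ i : ℤ, i ≠ -1 → i ≠ 0 → IsZero (K.X i)) (hK0 : Module.Projective R (K.X 0))
    (a : M ⟶ K) :
    (∀ (N : Type u) [AddCommGroup N] [Module R N]
        (ξ : Q.obj K ⟶
          ((DerivedCategory.singleFunctor (ModuleCat.{u} R) 0).obj (ModuleCat.of R N))⟦(1 : ℤ)⟧),
        Q.map a ≫ ξ = 0) ↔
      ∃ h : M.X 0 ⟶ K.X (-1), a.f (-1) + M.d (-1) 0 ≫ h = 0 := by
  have hKpos : ∀ i : ℤ, 0 < i → IsZero (K.X i) := fun i hi => hK i (by omega) (by omega)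
  have hS : ∀ (A : ModuleCat.{u} R) (i : ℤ), i ≤ -2 → IsZero ((sgl A).X i) := fun A i hi =>
    isZero_sgl_X A i (by omega)
  constructor
  · intro H
    let A : ModuleCat.{u} R := K.X (-1)
    let x : K ⟶ sgl A := HomologicalComplex.mkHomToSingle (𝟙 (K.X (-1)))
      (fun i hi => (hK i (by
        have : i + 1 = -1 := hi
        omega) (by
        have : i + 1 = -1 := hi
        omega)).eq_of_src _ _)
    have h0 := H (K.X (-1)) (Q.map x ≫ (shiftSingleIso A).inv)
    have h1 : Q.map (a ≫ x) = 0 := by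
      have h2 := congrArg (· ≫ (shiftSingleIso A).hom) h0
      simp only [Category.assoc, Iso.inv_hom_id, Category.comp_id, zero_comp] at h2
      rw [Functor.map_comp]
      exact h2
    obtain ⟨hty⟩ := nonempty_homotopy_of_Q_map_eq_zero hM (hS A) (a ≫ x) h1
    have hc := hty.comm (-1)
    rw [dNext_eq hty.hom (show (ComplexShape.up ℤ).Rel (-1) 0 by simp),
      prevD_eq hty.hom (show (ComplexShape.up ℤ).Rel (-2) (-1) by simp)] at hc
    have hz : hty.hom (-1) (-2) = 0 := (isZero_sgl_X A (-2) (by omega)).eq_of_tgt _ _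
    rw [hz, zero_comp, add_zero] at hc
    have hxf : x.f (-1) = 𝟙 (K.X (-1)) ≫
        (HomologicalComplex.singleObjXSelf (ComplexShape.up ℤ) (-1) A).inv :=
      HomologicalComplex.mkHomToSingle_f _ _
    have hc' : a.f (-1) ≫ x.f (-1) = M.d (-1) 0 ≫ hty.hom 0 (-1) := by
      have : (a ≫ x).f (-1) = a.f (-1) ≫ x.f (-1) := rfl
      rw [← this, hc]
      simp
    have key : M.d (-1) 0 ≫ hty.hom 0 (-1) ≫
        (HomologicalComplex.singleObjXSelf (ComplexShape.up ℤ) (-1) A).hom = a.f (-1) := by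
      rw [← Category.assoc, ← hc', hxf, Category.id_comp, Category.assoc, Iso.inv_hom_id,
        Category.comp_id]
    refine ⟨-(hty.hom 0 (-1) ≫
      (HomologicalComplex.singleObjXSelf (ComplexShape.up ℤ) (-1) A).hom), ?_⟩
    rw [Preadditive.comp_neg, key]
    exact add_neg_cancel _
  · rintro ⟨h, hh⟩ N _ _ ξ
    let A : ModuleCat.{u} R := ModuleCat.of R N
    obtain ⟨x, hx⟩ := exists_Q_map_eq hKpos hK0 (hS A) (ξ ≫ (shiftSingleIso A).hom)
    have ha : a.f (-1) = -(M.d (-1) 0 ≫ h) := eq_neg_of_add_eq_zero_left hh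
    have hty : Homotopy (a ≫ x) 0 := by
      refine homotopyOfTwo (a ≫ x) (-(h ≫ x.f (-1))) 0 ?_ ?_ ?_ ?_
      · exact (isZero_sgl_X A 0 (by omega)).eq_of_tgt _ _
      · rw [zero_comp, zero_add, Preadditive.comp_neg, ← Category.assoc]
        show a.f (-1) ≫ x.f (-1) = _
        rw [ha, Preadditive.neg_comp]
      · exact (isZero_sgl_X A (-2) (by omega)).eq_of_tgt _ _
      · intro i h0 h1 h2
        exact (isZero_sgl_X A i h1).eq_of_tgt _ _
    have h1 : Q.map (a ≫ x) = 0 := by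
      rw [DerivedCategory.Q_map_eq_of_homotopy _ hty, Functor.map_zero]
    rw [Functor.map_comp, hx, ← Category.assoc] at h1
    have h2 := congrArg (· ≫ (shiftSingleIso A).inv) h1
    simpa using h2

end Groth.Agent.Lib.Helper36.NH
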