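import Mathlib
import Groth.Prelude.Def_DDual2
import Groth.Agent.Lib.Helper36.FibreTorAmp
import Groth.Agent.Lib.Helper36.HasLeftDerived
import Groth.Agent.S0563

/-!
Helper (helper36): a general form of the fibre argument of `FibreTorAmp`.
-/

set_option autoImplicit false
universe u

open CategoryTheory CategoryTheory.Limits MonoidalCategory DRing TensorProduct

attribute [local instance] HasDerivedCategory.standard

namespace Groth.Agent.Lib.Helper36.FibreTorAmp

open Groth.Agent.Lib.Helper36.NilTor Groth.Agent.Lib.Helper36.LT Groth.Agent.Lib.Helper12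

section main

variable {A B : Type u} [CommRing A] [CommRing B] [Algebra A B]

/-- general form: `κ` an `A`-algebra such that the ring `κ ⊗_A B` has global dimension `≤ d`, and
`φ : B → G` factoring through `κ ⊗_A B`. If `P ⊗_A κ` is exact outside `[a, b]` then
`P ⊗_B G` is exact outside `[a - d, b]`. -/
theorem subsingleton_HD_of_fibre (κ : Type u) [CommRing κ] [Algebra A κ] (d : ℕ)
    (hgl : ∀ (M : Type u) [AddCommGroup M] [Module (κ ⊗[A] B) M],
      HasProjectiveDimensionLT (ModuleCat.of (κ ⊗[A] B) M) (d + 1))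
    {G : Type u} [CommRing G] (χ : κ ⊗[A] B →+* G) (φ : B →+* G)
    (hφ : φ = χ.comp (Algebra.TensorProduct.includeRight : B →ₐ[A] κ ⊗[A] B).toRingHom)
    [DRing.HasLBaseChange φ]
    (P : DRing.Cx B) (c : ℤ) (hc : VanishesAbove P c) (hfl : ∀ i, Module.Flat B (P.X i))
    {K : Dual.D B} (e : toD P ≅ K) (a b : ℤ)
    (h1 : ∀ j : ℤ, (j < a ∨ b < j) → (tensorCx (ModuleCat.of A κ)
      (((ModuleCat.restrictScalars (algebraMap A B)).mapHomologicalComplex
        (ComplexShape.up ℤ)).obj P)).ExactAt j) (i : ℤ)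
    (hi : i < a - d ∨ b < i) :
    Subsingleton (Dual.HD G ((DRing.LBaseChange φ).obj K) i) := by
  let ψ : B →+* κ ⊗[A] B := (Algebra.TensorProduct.includeRight : B →ₐ[A] κ ⊗[A] B).toRingHom
  let P' : DRing.Cx (κ ⊗[A] B) :=
    ((ModuleCat.extendScalars.{u, u, u} ψ).mapHomologicalComplex (ComplexShape.up ℤ)).obj P
  have h2 : ∀ j : ℤ, (j < a ∨ b < j) → P'.ExactAt j := fun j hj => exactAt_fibre κ P j (h1 j hj)
  have h3 : HasTorAmplitudeIn (κ ⊗[A] B) (a - d) b (toD P') :=
    (@Groth.Agent.S7034.result (κ ⊗[A] B) _ d hgl (fun M => LT.hasLTensor _ M)).2 (toD P') a b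
      (fun j hj => ModuleCat.subsingleton_of_isZero (PowTor.isZero_HF_of_exactAt P' j (h2 j hj)))
  have hP'c : VanishesAbove P' c := fun j hj =>
    (ModuleCat.extendScalars.{u, u, u} ψ).map_isZero (hc j hj)
  have hP'fl : ∀ j, Module.Flat (κ ⊗[A] B) (P'.X j) := fun j => by
    have := hfl j
    exact flat_extendScalars ψ (P.X j)
  have h4 := exactAt_tensorCx_of_hasTorAmplitudeIn P' c hP'c hP'fl (Iso.refl _) (a - d) b h3
    ((ModuleCat.restrictScalars χ).obj (𝟙_ (ModuleCat.{u} G))) i hi
  have h5 := exactAt_extendScalars_of_tensorCx χ P' i h4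
  have h6 : (((ModuleCat.extendScalars.{u, u, u} φ).mapHomologicalComplex
      (ComplexShape.up ℤ)).obj P).ExactAt i :=
    h5.of_iso (extCompIso ψ χ φ hφ P).symm
  obtain ⟨e₁⟩ := nonempty_lBaseChangeObjIso_of_flat φ P c hc hfl
  have e' : (DRing.LBaseChange φ).obj K ≅
      toD (((ModuleCat.extendScalars.{u, u, u} φ).mapHomologicalComplex
        (ComplexShape.up ℤ)).obj P) :=
    (DRing.LBaseChange φ).mapIso e.symm ≪≫ e₁
  exact ModuleCat.subsingleton_of_isZero
    ((PowTor.isZero_HF_of_exactAt _ i h6).of_iso ((HF G i).mapIso e'))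

end main

section conv

variable {A : Type u} [CommRing A] {G : Type u} [CommRing G] (χ : A →+* G)

/-- exactness of the complex `P ⊗ G` from exactness of `P ⊗_A G` -/
theorem exactAt_tensorCx_of_extendScalars (P : DRing.Cx A) (i : ℤ)
    (h : (((ModuleCat.extendScalars.{u, u, u} χ).mapHomologicalComplex
      (ComplexShape.up ℤ)).obj P).ExactAt i) :
    (tensorCx ((ModuleCat.restrictScalars χ).obj (𝟙_ (ModuleCat.{u} G))) P).ExactAt i := by
  have h' := HomologicalComplex.ExactAt.of_iso h (tensorCxUnitIso _).symm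
  rw [exactAt_tensorCx_iff] at h' ⊢
  exact (CBC.exact_whiskerRight_extendScalars_iff χ
    (𝟙_ (ModuleCat.{u} G)) (P.d (i - 1) i) (P.d i (i + 1))).mp h'

end conv

section localcase

variable {A B : Type u} [CommRing A] [CommRing B] [IsLocalRing A] [IsLocalRing B] [Algebra A B]
  [IsLocalHom (algebraMap A B)]

open IsLocalRing

/-- the map `κ_A → B/m_B` -/
noncomputable def resMapLocal : (A ⧸ maximalIdeal A) →ₐ[A] B ⧸ maximalIdeal B :=
  Ideal.Quotient.liftₐ (maximalIdeal A) (Algebra.ofId A (B ⧸ maximalIdeal B)) (by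
    intro a ha
    show algebraMap A (B ⧸ maximalIdeal B) a = 0
    rw [IsScalarTower.algebraMap_apply A B (B ⧸ maximalIdeal B), Ideal.Quotient.algebraMap_eq,
      Ideal.Quotient.eq_zero_iff_mem]
    exact ((IsLocalRing.mem_maximalIdeal _).mpr
      (fun hu => (IsLocalRing.mem_maximalIdeal a).mp ha (isUnit_of_map_unit (algebraMap A B) a hu))))

/-- the map from the closed fibre ring to `B/m_B` -/
noncomputable def fibreToQuotLocal : (A ⧸ maximalIdeal A) ⊗[A] B →ₐ[A] B ⧸ maximalIdeal B :=
  Algebra.TensorProduct.lift (resMapLocal (A := A) (B := B))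
    (IsScalarTower.toAlgHom A B (B ⧸ maximalIdeal B)) (fun _ _ => Commute.all _ _)

lemma fibreToQuotLocal_comp :
    Ideal.Quotient.mk (maximalIdeal B) = (fibreToQuotLocal (A := A) (B := B)).toRingHom.comp
      (Algebra.TensorProduct.includeRight : B →ₐ[A] (A ⧸ maximalIdeal A) ⊗[A] B).toRingHom := by
  ext b
  show _ = fibreToQuotLocal (A := A) (B := B) ((1 : A ⧸ maximalIdeal A) ⊗ₜ[A] b)
  rw [fibreToQuotLocal, Algebra.TensorProduct.lift_tmul, map_one, one_mul]
  rfl

theorem local_main [Module.Flat A B] (d : ℕ)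
    [IsRegularLocalRing (B ⧸ (maximalIdeal A).map (algebraMap A B))]
    (hd : ringKrullDim (B ⧸ (maximalIdeal A).map (algebraMap A B)) = d)
    [DRing.HasLBaseChange (IsLocalRing.residue A)] (a b : ℤ) (K : Dual.D B)
    (hK : DRing.IsPseudoCoherent' B K)
    (h : ∀ i : ℤ, (i < a ∨ b < i) → Subsingleton (Dual.HD (IsLocalRing.ResidueField A)
      ((DRing.LBaseChange (IsLocalRing.residue A)).obj
        ((DRing.restrictD (algebraMap A B)).obj K)) i)) :
    DRing.IsPerfect B K ∧ DRing.HasTorAmplitudeIn B (a - d) b K := by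
  obtain ⟨P, c, hc, hff, ⟨e⟩⟩ := hK
  have hfl : ∀ i, Module.Flat B (P.X i) := fun i => by
    have h1 := (hff i).1
    have h2 := (hff i).2
    infer_instance
  -- the fibre ring is regular of dimension `d`
  let E : (B ⧸ (maximalIdeal A).map (algebraMap A B)) ≃+* (A ⧸ maximalIdeal A) ⊗[A] B :=
    (Algebra.TensorProduct.quotIdealMapEquivQuotTensor B (maximalIdeal A)).toRingEquiv
  have hreg : IsRegularLocalRing ((A ⧸ maximalIdeal A) ⊗[A] B) := IsRegularLocalRing.of_ringEquiv E
  have hd' : ringKrullDim ((A ⧸ maximalIdeal A) ⊗[A] B) = d := by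
    rw [← hd]
    exact (ringKrullDim_eq_of_ringEquiv E).symm
  have hgl : ∀ (M : Type u) [AddCommGroup M] [Module ((A ⧸ maximalIdeal A) ⊗[A] B) M],
      HasProjectiveDimensionLT (ModuleCat.of ((A ⧸ maximalIdeal A) ⊗[A] B) M) (d + 1) :=
    fun M _ _ => Groth.Agent.S0563.result _ d hd' M
  -- exactness of `P ⊗_A κ_A` outside `[a, b]`
  let resP : DRing.Cx A := ((ModuleCat.restrictScalars (algebraMap A B)).mapHomologicalComplex
    (ComplexShape.up ℤ)).obj P
  have hresc : VanishesAbove resP c := fun j hj =>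
    (ModuleCat.restrictScalars (algebraMap A B)).map_isZero (hc j hj)
  have hresfl : ∀ j, Module.Flat A (resP.X j) := fun j => by
    have := hfl j
    exact flat_restrictScalars (P.X j)
  let e_res : toD resP ≅ (DRing.restrictD (algebraMap A B)).obj K :=
    ((ModuleCat.restrictScalars (algebraMap A B)).mapDerivedCategoryFactors.app P).symm ≪≫
      (DRing.restrictD (algebraMap A B)).mapIso e
  obtain ⟨e₁⟩ := nonempty_lBaseChangeObjIso_of_flat (IsLocalRing.residue A) resP c hresc hresfl
  have e' : (DRing.LBaseChange (IsLocalRing.residue A)).obj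
      ((DRing.restrictD (algebraMap A B)).obj K) ≅
      toD (((ModuleCat.extendScalars.{u, u, u} (IsLocalRing.residue A)).mapHomologicalComplex
        (ComplexShape.up ℤ)).obj resP) :=
    (DRing.LBaseChange (IsLocalRing.residue A)).mapIso e_res.symm ≪≫ e₁
  have h1 : ∀ j : ℤ, (j < a ∨ b < j) → (tensorCx (ModuleCat.of A (A ⧸ maximalIdeal A))
      resP).ExactAt j := by
    intro j hj
    have hex : (((ModuleCat.extendScalars.{u, u, u} (IsLocalRing.residue A)).mapHomologicalComplex
        (ComplexShape.up ℤ)).obj resP).ExactAt j := by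
      apply exactAt_of_isZero_HF
      exact (@ModuleCat.isZero_of_subsingleton _ _ _ (h j hj)).of_iso
        ((HF (IsLocalRing.ResidueField A) j).mapIso e'.symm)
    have h2 := exactAt_tensorCx_of_extendScalars (IsLocalRing.residue A) resP j hex
    rw [exactAt_tensorCx_iff, ModuleCat.hom_whiskerRight, ModuleCat.hom_whiskerRight] at h2 ⊢
    exact exact_rTensor_congr (PowTor.resUnitEquiv (maximalIdeal A)) _ _ h2
  refine @Groth.Agent.S6974.result B _ (fun m => LT.hasLBaseChange (Ideal.Quotient.mk m)) K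
    ⟨P, c, hc, hff, ⟨e⟩⟩ (a - d) b (fun m hm i hi => ?_)
  obtain rfl : m = maximalIdeal B := IsLocalRing.eq_maximalIdeal hm
  have := LT.hasLBaseChange (Ideal.Quotient.mk (maximalIdeal B))
  exact subsingleton_HD_of_fibre (A ⧸ maximalIdeal A) d hgl
    (fibreToQuotLocal (A := A) (B := B)).toRingHom (Ideal.Quotient.mk (maximalIdeal B))
    fibreToQuotLocal_comp P c hc hfl e a b h1 i hi

end localcase

end Groth.Agent.Lib.Helper36.FibreTorAmp
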