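import Mathlib
import Groth.Agent.Lib.Helper36.FunctorCompletion

/-!
# Functors commuting with derived completion, weak form (helper36)

Namespace `Groth.Agent.Lib.Helper36.FCo`.  Same as `Good` but without the hypothesis that the
functor preserves complete objects; only the universal property is deduced.
-/

set_option autoImplicit false
universe u
open CategoryTheory CategoryTheory.Limits CategoryTheory.Pretriangulated DerivedCategory
attribute [local instance] HasDerivedCategory.standard

namespace Groth.Agent.Lib.Helper36.FCo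

open Groth.Agent.Lib.Helper36.DC Groth.Agent.Lib.Helper36.DCF

variable {A : Type u} [CommRing A]

/-- hypotheses on an endofunctor of `D(A)` ensuring that it preserves the universal property of
derived completion maps -/
structure WGood (F : Dual.D A ⥤ Dual.D A) : Prop where
  map_smul_id : ∀ (f : A) (X : Dual.D A), F.map (f • 𝟙 X) = f • 𝟙 (F.obj X)
  exists_distTriang : ∀ {X Y : Dual.D A} (η : X ⟶ Y),
    ∃ (Z : Dual.D A) (β : Y ⟶ Z) (γ : Z ⟶ X⟦(1 : ℤ)⟧) (β' : F.obj Y ⟶ F.obj Z)
      (γ' : F.obj Z ⟶ (F.obj X)⟦(1 : ℤ)⟧),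
      Triangle.mk η β γ ∈ distTriang (Dual.D A) ∧
        Triangle.mk (F.map η) β' γ' ∈ distTriang (Dual.D A)

variable {F : Dual.D A ⥤ Dual.D A}

theorem WGood.universal_principal (hF : WGood F) (f : A) {L C : Dual.D A} (η : L ⟶ C)
    (hη : ∀ E : Dual.D A, FC f E → Function.Bijective (fun v : C ⟶ E => η ≫ v)) :
    ∀ E : Dual.D A, FC f E → Function.Bijective (fun v : F.obj C ⟶ E => F.map η ≫ v) := by
  obtain ⟨Z, β, γ, β', γ', hT, hT'⟩ := hF.exists_distTriang η
  have hsh : ∀ (E : Dual.D A) (n : ℤ), FC f E → FC f (E⟦n⟧) := fun E n hE => FC.shift hE n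
  have hZ : LO (FC f) Z := (lo_iff_universal hsh (Triangle.mk η β γ) hT).mpr hη
  have hf : IsIso (f • 𝟙 Z) := isIso_smul_of_lo f Z hZ
  have hf' : IsIso (f • 𝟙 (F.obj Z)) := by
    rw [← hF.map_smul_id]
    infer_instance
  have hZ' : LO (FC f) (F.obj Z) := lo_of_isIso_smul f _ hf'
  exact (lo_iff_universal hsh (Triangle.mk (F.map η) β' γ') hT').mp hZ'

theorem WGood.universal_finset (hF : WGood F) (s : Finset A) :
    ∀ {L C : Dual.D A} (η : L ⟶ C), SC s C →
      (∀ E : Dual.D A, SC s E → Function.Bijective (fun v : C ⟶ E => η ≫ v)) →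
      ∀ E : Dual.D A, SC s E → Function.Bijective (fun v : F.obj C ⟶ E => F.map η ≫ v) := by
  classical
  induction s using Finset.induction_on with
  | empty =>
    intro L C η _ hη E _
    have hall : ∀ E : Dual.D A, SC ∅ E := fun E f hf => absurd hf (Finset.notMem_empty f)
    have : IsIso η := isIso_of_universal_all η (fun E => hη E (hall E))
    exact bijective_precomp_of_isIso (F.map η) E
  | insert g s hg ih =>
    intro L C η hC hη E hE
    obtain ⟨C₁, η₁, h1, h2, -, -⟩ := exists_completion_finset s L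
    obtain ⟨C₂, η₂, k1, k2, k3, -⟩ := exists_completion_step g C₁
    have hC₂ : SC (insert g s) C₂ := by
      intro f hf
      rcases Finset.mem_insert.mp hf with rfl | hf'
      · exact k1
      · exact k3 f (h1 f hf')
    have hE₁ : SC s E := fun f hf => hE f (Finset.mem_insert_of_mem hf)
    have hEg : FC g E := hE g (Finset.mem_insert_self g s)
    have hU : ∀ E' : Dual.D A, SC (insert g s) E' →
        Function.Bijective (fun v : C₂ ⟶ E' => (η₁ ≫ η₂) ≫ v) := by
      intro E' hE'
      have hb1 := h2 E' (fun f hf => hE' f (Finset.mem_insert_of_mem hf))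
      have hb2 := k2 E' (hE' g (Finset.mem_insert_self g s))
      have : (fun v : C₂ ⟶ E' => (η₁ ≫ η₂) ≫ v) =
          (fun w : C₁ ⟶ E' => η₁ ≫ w) ∘ (fun v : C₂ ⟶ E' => η₂ ≫ v) := by
        funext v
        simp
      rw [this]
      exact hb1.comp hb2
    obtain ⟨e, he⟩ := exists_iso_of_universal (P := SC (insert g s)) η (η₁ ≫ η₂) hC hC₂ hη hU
    have hb1 := ih η₁ h1 h2 E hE₁
    have hb2 := hF.universal_principal g η₂ k2 E hEg
    have hb3 : Function.Bijective (fun v : F.obj C ⟶ E => F.map e.inv ≫ v) :=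
      bijective_precomp_of_isIso (F.map e.inv) E
    have : (fun v : F.obj C ⟶ E => F.map η ≫ v) =
        (fun w : F.obj C₁ ⟶ E => F.map η₁ ≫ w) ∘ (fun v : F.obj C₂ ⟶ E => F.map η₂ ≫ v) ∘
          (fun v : F.obj C ⟶ E => F.map e.inv ≫ v) := by
      funext v
      show F.map η ≫ v = F.map η₁ ≫ F.map η₂ ≫ F.map e.inv ≫ v
      rw [← Functor.map_comp_assoc, ← Functor.map_comp_assoc, ← he,
        Category.assoc, e.hom_inv_id, Category.comp_id]
    rw [this]
    exact hb1.comp (hb2.comp hb3)

/-- the main criterion, for a finitely generated ideal -/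
theorem WGood.universal (hF : WGood F) (I : Ideal A) (hI : I.FG) {L C : Dual.D A} (η : L ⟶ C)
    (hC : DRing.IsDerivedComplete I C)
    (hη : ∀ E : Dual.D A, DRing.IsDerivedComplete I E →
      Function.Bijective (fun v : C ⟶ E => η ≫ v)) :
    ∀ E : Dual.D A, DRing.IsDerivedComplete I E →
      Function.Bijective (fun v : F.obj C ⟶ E => F.map η ≫ v) := by
  obtain ⟨s, hs⟩ := hI
  have key : ∀ E : Dual.D A, DRing.IsDerivedComplete I E ↔ SC s E := by
    intro E
    rw [isDerivedComplete_iff_HD]
    constructor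
    · intro h f hf i
      refine h f ?_ i
      rw [← hs]
      exact Ideal.subset_span hf
    · intro h f hf i
      rw [← hs] at hf
      exact seqComplete_of_mem_span s (fun f' hf' => h f' hf' i) hf
  intro E hE
  exact hF.universal_finset s η ((key C).1 hC) (fun E' hE' => hη E' ((key E').2 hE')) E
    ((key E).1 hE)

end Groth.Agent.Lib.Helper36.FCo
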