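import Mathlib
import Groth.Prelude.Def_DTen
import Groth.Agent.Lib.Helper36.LTensorCxCompute
import Groth.Agent.Lib.Helper36.TensorTerms
import Groth.Agent.Lib.Helper94.KFlatSymmInst
import Groth.Agent.Lib.Helper12.DRingCone

/-!
Helper (helper36): derived tensor product of a K-projective, K-flat complex with a complex depends only
on the class of the second complex; pseudo-coherence and perfectness of derived tensor products.
-/

set_option autoImplicit false
universe u

open CategoryTheory CategoryTheory.Limits CochainComplex DerivedCategory MonoidalCategory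

attribute [local instance] HasDerivedCategory.standard

namespace Groth.Agent.Lib.Helper36.LTCx

open Groth.Agent.Lib.Helper36.KP Groth.Agent.Lib.Helper36.LT
open Groth.Agent.Lib.Helper94.KFlatRing Groth.Agent.Lib.Helper94.KFlatSymmInst
  Groth.Agent.Lib.Helper94.KFlatBdd Groth.Agent.Lib.Helper12

variable {A : Type u} [CommRing A]

/-- Tensoring on the left with a K-flat complex preserves quasi-isomorphisms. -/
theorem quasiIso_whiskerLeft_of_kf' (P : Cx A) (hP : KF A P) {L₁ L₂ : Cx A} (g : L₁ ⟶ L₂)
    [QuasiIso g] : QuasiIso (P ◁ g) := by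
  have h := DTen.braidCx_naturality (𝟙 P) g
  rw [id_tensorHom, tensorHom_id] at h
  have h2 : P ◁ g = (DTen.braidCx P L₁).hom ≫ (g ▷ P) ≫ (DTen.braidCx P L₂).inv := by
    rw [← Category.assoc, ← h, Category.assoc, Iso.hom_inv_id, Category.comp_id]
  have := quasiIso_whiskerRight_of_kf A P hP g
  rw [h2]
  infer_instance

/-- For `P` bounded above with flat terms and K-projective, `Q P ⊗^L E` only depends on the class of
`E`. -/
theorem nonempty_lTensorCx_iso (E E' : Cx A) [DRing.HasLTensorCx A E] (P : Cx A) (b : ℤ)
    (hb : DRing.VanishesAbove P b) (hP : ∀ i, Module.Projective A (P.X i)) (b' : ℤ)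
    (hb' : DRing.VanishesAbove E' b') (hE' : ∀ i, Module.Projective A (E'.X i))
    (e : DRing.toD E' ≅ DRing.toD E) :
    Nonempty ((DRing.LTensorCx A E).obj (DRing.toD P) ≅ DRing.toD (P ⊗ E')) := by
  have hPK : P.IsKProjective := isKProjective_of_vanishesAbove P b hb hP
  have hE'K : E'.IsKProjective := isKProjective_of_vanishesAbove E' b' hb' hE'
  obtain ⟨g, hg⟩ := exists_map_of_isKProjective E' E e.hom
  have hgq : QuasiIso g := by
    rw [← isIso_Q_map_iff_quasiIso, hg]
    infer_instance
  have hPf : KF A P := kf_of_bounded_above A P b hb (fun i => inferInstance)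
  have := quasiIso_whiskerLeft_of_kf' P hPf g
  have : IsIso (Q.map (P ◁ g)) := by
    rw [isIso_Q_map_iff_quasiIso]
    infer_instance
  exact ⟨lTensorCxObjIso E P ≪≫ (asIso (Q.map (P ◁ g))).symm⟩

end Groth.Agent.Lib.Helper36.LTCx
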