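import Mathlib
import Groth.Agent.Lib.Helper36.LTensorCxPC
import Groth.Agent.Lib.Helper36.TensorSingle
import Groth.Agent.Lib.Helper36.LTensorAPI
import Groth.Agent.Lib.Helper94.KFlatBdd

/-!
Helper (helper36): balance for the derived tensor product with a complex: `M[0] ⊗^L K` is computed
by the termwise tensor product `E ⊗ M` for any K-flat `E` quasi-isomorphic to `K`.
-/

set_option autoImplicit false
universe u

open CategoryTheory CategoryTheory.Limits CochainComplex DerivedCategory MonoidalCategory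

attribute [local instance] HasDerivedCategory.standard

namespace Groth.Agent.Lib.Helper36.LTCx

open Groth.Agent.Lib.Helper36.KP Groth.Agent.Lib.Helper36.LT
open Groth.Agent.Lib.Helper94.KFlatRing Groth.Agent.Lib.Helper94.KFlatSymmInst
  Groth.Agent.Lib.Helper94.KFlatBdd Groth.Agent.Lib.Helper12

variable {A : Type u} [CommRing A]

/-- Tensoring on the left with a K-flat complex only depends on the class of the second factor. -/
theorem nonempty_tensor_iso_of_iso (F : Cx A) (hF : KF A F) (E K : Cx A)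
    (e : DRing.toD E ≅ DRing.toD K) : Nonempty (DRing.toD (F ⊗ E) ≅ DRing.toD (F ⊗ K)) := by
  obtain ⟨P, p, hp, hP, -⟩ := exists_resolution E
  obtain ⟨g, hg⟩ := exists_map_of_isKProjective P K (Q.map p ≫ e.hom)
  have hgq : QuasiIso g := by
    rw [← isIso_Q_map_iff_quasiIso, hg]
    have : IsIso (Q.map p) := by
      rw [isIso_Q_map_iff_quasiIso]
      exact hp
    infer_instance
  have h1 := quasiIso_whiskerLeft_of_kf' F hF p
  have h2 := quasiIso_whiskerLeft_of_kf' F hF g
  have : IsIso (Q.map (F ◁ p)) := by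
    rw [isIso_Q_map_iff_quasiIso]
    exact h1
  have : IsIso (Q.map (F ◁ g)) := by
    rw [isIso_Q_map_iff_quasiIso]
    exact h2
  exact ⟨(asIso (Q.map (F ◁ p))).symm ≪≫ asIso (Q.map (F ◁ g))⟩

/-- **Balance.** -/
theorem nonempty_lTensorCx_single_iso (K E : Cx A) [DRing.HasLTensorCx A K] (hE : KF A E)
    (e : DRing.toD E ≅ DRing.toD K) (M : ModuleCat.{u} A) :
    Nonempty ((DRing.LTensorCx A K).obj (DRing.toD (TS.sM M)) ≅ DRing.toD (tensorCx M E)) := by
  obtain ⟨F, f, hf, hFK, hFp, hFb⟩ := exists_resolution_above (TS.sM M) 0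
    (fun n hn => TS.isZero_sM_X M n (by omega))
  have hFf : KF A F := kf_of_bounded_above A F 0 hFb (fun i => by
    have := hFp i
    infer_instance)
  have : IsIso (Q.map f) := by
    rw [isIso_Q_map_iff_quasiIso]
    exact hf
  obtain ⟨e₁⟩ := nonempty_tensor_iso_of_iso F hFf E K e
  have h2 := quasiIso_whiskerRight_of_kf A E hE f
  have : IsIso (Q.map (f ▷ E)) := by
    rw [isIso_Q_map_iff_quasiIso]
    exact h2
  exact ⟨(DRing.LTensorCx A K).mapIso (asIso (Q.map f)).symm ≪≫ lTensorCxObjIso K F ≪≫ e₁.symm ≪≫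
    asIso (Q.map (f ▷ E)) ≪≫ Q.mapIso (DTen.braidCx (TS.sM M) E) ≪≫
    Q.mapIso (TS.tensorSingleIso E M)⟩

end Groth.Agent.Lib.Helper36.LTCx
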