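import Mathlib
import Groth.Prelude.Def_DDual2

/-!
Helper (helper36): the short exact sequence `0 → M[x] → M[x] → M → 0` of `R[x]`-modules, in the
language of `ModuleCat.extendScalars` / `ModuleCat.restrictScalars`.
-/

set_option autoImplicit false
universe u

open CategoryTheory CategoryTheory.Limits TensorProduct Polynomial

namespace Groth.Agent.Lib.Helper36.PolyZero

section abstract

variable {R : Type*} [CommRing R] {N₁ N₂ N₃ : Type*} [AddCommGroup N₁] [Module R N₁]
  [AddCommGroup N₂] [Module R N₂] [AddCommGroup N₃] [Module R N₃]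
  (M : Type*) [AddCommGroup M] [Module R M]

lemma rTensor_split_exact (u : N₁ →ₗ[R] N₂) (v : N₂ →ₗ[R] N₃) (r : N₂ →ₗ[R] N₁)
    (hr : r ∘ₗ u = LinearMap.id) (hex : Function.Exact u v) (hv : Function.Surjective v) :
    Function.Injective (u.rTensor M) ∧ Function.Exact (u.rTensor M) (v.rTensor M) ∧
      Function.Surjective (v.rTensor M) := by
  refine ⟨?_, rTensor_exact M hex hv, LinearMap.rTensor_surjective M hv⟩
  have h : (r.rTensor M) ∘ₗ (u.rTensor M) = LinearMap.id := by
    rw [← LinearMap.rTensor_comp, hr, LinearMap.rTensor_id]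
  exact Function.LeftInverse.injective (g := r.rTensor M) (fun z => by
    have := LinearMap.congr_fun h z
    simpa using this)

end abstract

section smul

open ChangeOfRings

variable {A B : Type u} [CommRing A] [CommRing B] (f : A →+* B)

lemma extendScalars_map_smul_id (N : ModuleCat.{u} A) (a : A) :
    (ModuleCat.extendScalars.{u, u, u} f).map (a • 𝟙 N) =
      f a • 𝟙 ((ModuleCat.extendScalars.{u, u, u} f).obj N) := by
  ext n
  have h1 : ((ModuleCat.extendScalars.{u, u, u} f).map (a • 𝟙 N)).hom ((1 : B) ⊗ₜ[A, f] n) =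
      (1 : B) ⊗ₜ[A, f] (a • n) := rfl
  have h2 : (f a • 𝟙 ((ModuleCat.extendScalars.{u, u, u} f).obj N)).hom ((1 : B) ⊗ₜ[A, f] n) =
      (f a * 1) ⊗ₜ[A, f] n := rfl
  refine h1.trans (Eq.trans ?_ h2.symm)
  exact (TensorProduct.smul_tmul (R := A) (R' := A) a
    (show ((ModuleCat.restrictScalars f).obj (ModuleCat.of B B)) from (1 : B)) n).symm

end smul

section concrete

variable {R : Type u} [CommRing R]

lemma ev0_comp_C :
    (Polynomial.evalRingHom (0 : R)).comp (C : R →+* R[X]) = RingHom.id R := by
  ext r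
  simp

variable (R) in
/-- `R[X]` as an `R`-module through `C`, as it appears in `ModuleCat.extendScalars C`. -/
noncomputable abbrev SR : ModuleCat.{u} R :=
  (ModuleCat.restrictScalars (C : R →+* R[X])).obj (ModuleCat.of R[X] R[X])

/-- the underlying polynomial -/
def toPoly (p : SR R) : R[X] := p

/-- the element of `SR R` given by a polynomial -/
def ofPoly (p : R[X]) : SR R := p

@[simp] lemma toPoly_ofPoly (p : R[X]) : toPoly (ofPoly p) = p := rfl
@[simp] lemma ofPoly_toPoly (p : SR R) : ofPoly (toPoly p) = p := rfl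
lemma toPoly_add (p q : SR R) : toPoly (p + q) = toPoly p + toPoly q := rfl
lemma toPoly_smul (r : R) (p : SR R) : toPoly (r • p) = C r * toPoly p := rfl
lemma ofPoly_add (p q : R[X]) : ofPoly (p + q) = ofPoly p + ofPoly q := rfl
lemma ofPoly_C_mul (r : R) (p : R[X]) : ofPoly (C r * p) = r • ofPoly p := rfl

lemma divX_X_mul' (p : R[X]) : Polynomial.divX (X * p) = p := by
  ext n
  rw [Polynomial.coeff_divX, Polynomial.coeff_X_mul]

variable (R) in
/-- multiplication by `X` -/
noncomputable def mulX : SR R →ₗ[R] SR R where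
  toFun p := ofPoly (X * toPoly p)
  map_add' p q := by rw [toPoly_add, mul_add, ofPoly_add]
  map_smul' r p := by
    rw [toPoly_smul, RingHom.id_apply, ← ofPoly_C_mul]
    congr 1
    ring

variable (R) in
/-- division by `X` -/
noncomputable def divXl : SR R →ₗ[R] SR R where
  toFun p := ofPoly (Polynomial.divX (toPoly p))
  map_add' p q := by rw [toPoly_add, Polynomial.divX_add, ofPoly_add]
  map_smul' r p := by
    rw [toPoly_smul, RingHom.id_apply, ← ofPoly_C_mul, Polynomial.divX_C_mul]

variable (R) in
/-- evaluation at zero -/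
noncomputable def ev0l : SR R →ₗ[R] R where
  toFun p := Polynomial.eval 0 (toPoly p)
  map_add' p q := by rw [toPoly_add, Polynomial.eval_add]
  map_smul' r p := by
    rw [toPoly_smul, RingHom.id_apply, Polynomial.eval_mul, Polynomial.eval_C, smul_eq_mul]

lemma divXl_comp_mulX : divXl R ∘ₗ mulX R = LinearMap.id := by
  apply LinearMap.ext
  intro p
  show ofPoly (Polynomial.divX (toPoly (ofPoly (X * toPoly p)))) = p
  rw [toPoly_ofPoly, divX_X_mul', ofPoly_toPoly]

lemma exact_mulX_ev0l : Function.Exact (mulX R) (ev0l R) := by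
  intro p
  show Polynomial.eval 0 (toPoly p) = 0 ↔ _
  rw [← Polynomial.coeff_zero_eq_eval_zero, ← Polynomial.X_dvd_iff]
  constructor
  · rintro ⟨q, hq⟩
    exact ⟨ofPoly q, hq.symm⟩
  · rintro ⟨q, hq⟩
    exact ⟨toPoly q, hq.symm⟩

lemma surjective_ev0l : Function.Surjective (ev0l R) := by
  intro r
  exact ⟨ofPoly (C r), by show Polynomial.eval 0 (C r) = r; simp⟩

/-- the identification `M ≅ res_C (res_φ M)` as a natural transformation -/
noncomputable def ιNat : 𝟭 (ModuleCat.{u} R) ⟶
    ModuleCat.restrictScalars (Polynomial.evalRingHom (0 : R)) ⋙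
      ModuleCat.restrictScalars (C : R →+* R[X]) :=
  (ModuleCat.restrictScalarsId' _ ev0_comp_C).inv ≫
    (ModuleCat.restrictScalarsComp' (C : R →+* R[X]) (Polynomial.evalRingHom (0 : R)) _ rfl).hom

lemma ιNat_app_apply (M : ModuleCat.{u} R) (m : M) : (ιNat.app M).hom m = m := rfl

/-- the natural map `M[x] → M`, `x ↦ 0` -/
noncomputable def εNat : ModuleCat.extendScalars.{u, u, u} (C : R →+* R[X]) ⟶
    ModuleCat.restrictScalars (Polynomial.evalRingHom (0 : R)) where
  app M := ((ModuleCat.extendRestrictScalarsAdj.{u, u, u} (C : R →+* R[X])).homEquiv M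
    ((ModuleCat.restrictScalars (Polynomial.evalRingHom (0 : R))).obj M)).symm (ιNat.app M)
  naturality M N h := by
    rw [← Adjunction.homEquiv_naturality_left_symm, ← Adjunction.homEquiv_naturality_right_symm]
    congr 1

lemma εNat_app_tmul (M : ModuleCat.{u} R) (p : SR R) (m : M) :
    (εNat.app M).hom (p ⊗ₜ[R] m) = Polynomial.eval 0 (toPoly p) • (show (M : Type u) from m) := by
  rfl

/-- multiplication by `X` on `M[x]` -/
noncomputable def xMul (M : ModuleCat.{u} R) :
    (ModuleCat.extendScalars.{u, u, u} (C : R →+* R[X])).obj M ⟶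
      (ModuleCat.extendScalars.{u, u, u} (C : R →+* R[X])).obj M :=
  (X : R[X]) • 𝟙 _

lemma xMul_apply (M : ModuleCat.{u} R) (z : SR R ⊗[R] M) :
    (xMul M).hom z = (mulX R).rTensor M z := by
  induction z using TensorProduct.induction_on with
  | zero => exact (map_zero (xMul M).hom).trans (map_zero ((mulX R).rTensor M)).symm
  | tmul p m => rfl
  | add a b ha hb =>
    exact (map_add (xMul M).hom a b).trans ((congrArg₂ (· + ·) ha hb).trans
      (map_add ((mulX R).rTensor M) a b).symm)

lemma εNat_app_apply (M : ModuleCat.{u} R) (z : SR R ⊗[R] M) :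
    (εNat.app M).hom z = TensorProduct.lid R M ((ev0l R).rTensor M z) := by
  induction z using TensorProduct.induction_on with
  | zero =>
    refine (map_zero (εNat.app M).hom).trans ?_
    rw [map_zero, map_zero]
    rfl
  | tmul p m => rfl
  | add a b ha hb =>
    refine (map_add (εNat.app M).hom a b).trans ((congrArg₂ (· + ·) ha hb).trans ?_)
    rw [map_add, map_add]
    rfl

lemma injective_xMul (M : ModuleCat.{u} R) : Function.Injective (xMul M).hom := by
  have h := (rTensor_split_exact M (mulX R) (ev0l R) (divXl R) divXl_comp_mulX exact_mulX_ev0l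
    surjective_ev0l).1
  intro a b hab
  exact h (((xMul_apply M a).symm.trans hab).trans (xMul_apply M b))

lemma surjective_εNat_app (M : ModuleCat.{u} R) : Function.Surjective (εNat.app M).hom := by
  have h := (rTensor_split_exact M (mulX R) (ev0l R) (divXl R) divXl_comp_mulX exact_mulX_ev0l
    surjective_ev0l).2.2
  intro m
  obtain ⟨z, hz⟩ := h ((TensorProduct.lid R M).symm m)
  refine ⟨z, (εNat_app_apply M z).trans ?_⟩
  rw [hz, LinearEquiv.apply_symm_apply]

lemma exact_xMul_εNat_app (M : ModuleCat.{u} R) :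
    Function.Exact (xMul M).hom (εNat.app M).hom := by
  have h := (rTensor_split_exact M (mulX R) (ev0l R) (divXl R) divXl_comp_mulX exact_mulX_ev0l
    surjective_ev0l).2.1
  intro z
  constructor
  · intro hz
    have hz' : (ev0l R).rTensor M z = 0 := by
      apply (TensorProduct.lid R M).injective
      rw [map_zero]
      exact (εNat_app_apply M z).symm.trans hz
    obtain ⟨w, hw⟩ := (h z).mp hz'
    exact ⟨w, (xMul_apply M w).trans hw⟩
  · rintro ⟨w, rfl⟩
    refine (εNat_app_apply M _).trans ?_
    have : (ev0l R).rTensor M ((xMul M).hom w) = 0 :=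
      (h _).mpr ⟨w, (xMul_apply M w).symm⟩
    rw [this, map_zero]
    rfl

lemma xMul_εNat (M : ModuleCat.{u} R) : xMul M ≫ εNat.app M = 0 := by
  apply ModuleCat.hom_ext
  apply LinearMap.ext
  intro z
  exact (exact_xMul_εNat_app M _).mpr ⟨z, rfl⟩

/-- the short complex `M[x] → M[x] → M` -/
noncomputable def sc (M : ModuleCat.{u} R) : ShortComplex (ModuleCat.{u} R[X]) :=
  ShortComplex.mk (xMul M) (εNat.app M) (xMul_εNat M)

lemma sc_shortExact (M : ModuleCat.{u} R) : (sc M).ShortExact where
  exact := (ShortComplex.ShortExact.moduleCat_exact_iff_function_exact _).mpr (exact_xMul_εNat_app M)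
  mono_f := (ModuleCat.mono_iff_injective _).mpr (injective_xMul M)
  epi_g := (ModuleCat.epi_iff_surjective _).mpr (surjective_εNat_app M)

end concrete

end Groth.Agent.Lib.Helper36.PolyZero
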