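import Mathlib
import Groth.Prelude.Def_DDual2
import Groth.Agent.Lib.Helper36.PolyZero
import Groth.Agent.Lib.Helper36.BaseChangeKProj
import Groth.Agent.Lib.Helper36.LeftDerivedCompute
import Groth.Agent.Lib.Helper36.KProjHtpy

/-!
Helper (helper36): derived base change along `R[x] → R`, `x ↦ 0`, of a complex restricted along the
same map.
-/

set_option autoImplicit false
universe u

open CategoryTheory CategoryTheory.Limits Polynomial CochainComplex
open CategoryTheory.Pretriangulated

attribute [local instance] HasDerivedCategory.standard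

namespace Groth.Agent.Lib.Helper36.PolyZero

variable {R : Type u} [CommRing R]

/-- `P[x]` -/
noncomputable abbrev PX (P : DRing.Cx R) : DRing.Cx R[X] :=
  ((ModuleCat.extendScalars.{u, u, u} (C : R →+* R[X])).mapHomologicalComplex
    (ComplexShape.up ℤ)).obj P

/-- `P` regarded as a complex of `R[x]`-modules through `x ↦ 0` -/
noncomputable abbrev resP (P : DRing.Cx R) : DRing.Cx R[X] :=
  ((ModuleCat.restrictScalars.{u} (Polynomial.evalRingHom (0 : R))).mapHomologicalComplex
    (ComplexShape.up ℤ)).obj P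

/-- multiplication by `x` on `P[x]` -/
noncomputable def xMulCx (P : DRing.Cx R) : PX P ⟶ PX P := (X : R[X]) • 𝟙 (PX P)

lemma xMulCx_f (P : DRing.Cx R) (n : ℤ) : (xMulCx P).f n = xMul (P.X n) := rfl

/-- the map `P[x] → P` -/
noncomputable def εCx (P : DRing.Cx R) : PX P ⟶ resP P :=
  (NatTrans.mapHomologicalComplex εNat (ComplexShape.up ℤ)).app P

lemma εCx_f (P : DRing.Cx R) (n : ℤ) : (εCx P).f n = εNat.app (P.X n) := rfl

/-- the short exact sequence `0 → P[x] → P[x] → P → 0` -/
noncomputable def scCx (P : DRing.Cx R) : ShortComplex (DRing.Cx R[X]) :=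
  ShortComplex.mk (xMulCx P) (εCx P) (by
    apply HomologicalComplex.hom_ext
    intro n
    exact xMul_εNat (P.X n))

lemma scCx_shortExact (P : DRing.Cx R) : (scCx P).ShortExact :=
  HomologicalComplex.shortExact_of_degreewise_shortExact _ (fun i => sc_shortExact (P.X i))

lemma isKProjective_mappingCone' {B : Type u} [CommRing B] {E F : DRing.Cx B} (β : E ⟶ F)
    [E.IsKProjective] [F.IsKProjective] : (mappingCone β).IsKProjective := by
  rw [CochainComplex.isKProjective_iff_leftOrthogonal]
  exact (HomotopyCategory.subcategoryAcyclic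
    (ModuleCat.{u} B)).leftOrthogonal.ext_of_isTriangulatedClosed₃ _
    (HomotopyCategory.mappingCone_triangleh_distinguished β)
    (CochainComplex.IsKProjective.leftOrthogonal E) (CochainComplex.IsKProjective.leftOrthogonal F)

/-- the resolution `cone(x : P[x] → P[x])` of `P` over `R[x]` -/
noncomputable abbrev coneX (P : DRing.Cx R) : DRing.Cx R[X] := mappingCone (xMulCx P)

/-- the resolution map -/
noncomputable def coneXMap (P : DRing.Cx R) : coneX P ⟶ resP P :=
  mappingCone.descShortComplex (scCx P)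

lemma quasiIso_coneXMap (P : DRing.Cx R) : QuasiIso (coneXMap P) :=
  mappingCone.quasiIso_descShortComplex (scCx_shortExact P)

lemma isKProjective_coneX (P : DRing.Cx R) [P.IsKProjective] : (coneX P).IsKProjective := by
  have : (PX P).IsKProjective := BCKP.isKProjective_extendScalars (C : R →+* R[X]) P
  exact isKProjective_mappingCone' (xMulCx P)

lemma map_xMulCx_eq_zero (P : DRing.Cx R) :
    ((ModuleCat.extendScalars.{u, u, u} (Polynomial.evalRingHom (0 : R))).mapHomologicalComplex
      (ComplexShape.up ℤ)).map (xMulCx P) = 0 := by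
  apply HomologicalComplex.hom_ext
  intro n
  show (ModuleCat.extendScalars.{u, u, u} (Polynomial.evalRingHom (0 : R))).map
    ((X : R[X]) • 𝟙 _) = 0
  rw [extendScalars_map_smul_id]
  simp

/-- in a pretriangulated category, the cone of a zero map splits -/
lemma nonempty_iso_biprod_of_mor₁_eq_zero {C : Type*} [Category C] [HasZeroObject C]
    [HasShift C ℤ] [Preadditive C] [∀ n : ℤ, (CategoryTheory.shiftFunctor C n).Additive]
    [Pretriangulated C]
    (T : Triangle C) (hT : T ∈ distTriang C) (h0 : T.mor₁ = 0) :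
    Nonempty (T.obj₃ ≅ T.obj₂ ⊞ (CategoryTheory.shiftFunctor C (1 : ℤ)).obj T.obj₁) := by
  have hT' := rot_of_distTriang _ hT
  obtain ⟨e, -, -⟩ := exists_iso_binaryBiproduct_of_distTriang T.rotate hT' (by
    show -(CategoryTheory.shiftFunctor C (1 : ℤ)).map T.mor₁ = 0
    rw [h0, Functor.map_zero, neg_zero])
  exact ⟨e⟩

/-- extending scalars along `R → R[x] → R` is the identity -/
noncomputable def extExtIso : ModuleCat.extendScalars.{u, u, u} (C : R →+* R[X]) ⋙
    ModuleCat.extendScalars.{u, u, u} (Polynomial.evalRingHom (0 : R)) ≅ 𝟭 (ModuleCat.{u} R) :=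
  (ModuleCat.extendScalarsComp.{u, u} (C : R →+* R[X]) (Polynomial.evalRingHom (0 : R))).symm ≪≫
    eqToIso (by rw [ev0_comp_C]) ≪≫ ModuleCat.extendScalarsId.{u, u} R

/-- `P[x] ⊗_{R[x]} R ≅ P` -/
noncomputable def extExtCxIso (P : DRing.Cx R) :
    ((ModuleCat.extendScalars.{u, u, u} (Polynomial.evalRingHom (0 : R))).mapHomologicalComplex
      (ComplexShape.up ℤ)).obj (PX P) ≅ P :=
  HomologicalComplex.Hom.isoOfComponents (fun n => extExtIso.app (P.X n)) (by
    intro i j _
    exact (extExtIso.hom.naturality (P.d i j)).symm)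

open DerivedCategory in
theorem nonempty_iso [DRing.HasLBaseChange (Polynomial.evalRingHom (0 : R))] (K : Dual.D R)
    [HasBinaryBiproduct K ((CategoryTheory.shiftFunctor (Dual.D R) (1 : ℤ)).obj K)] :
    Nonempty ((DRing.LBaseChange (Polynomial.evalRingHom (0 : R))).obj
        ((DRing.restrictD (Polynomial.evalRingHom (0 : R))).obj K) ≅
      K ⊞ (CategoryTheory.shiftFunctor (Dual.D R) (1 : ℤ)).obj K) := by
  obtain ⟨P, f, hf, hP, -⟩ := KP.exists_resolution (Q.objPreimage K)
  have : IsIso (Q.map f) := (DerivedCategory.isIso_Q_map_iff_quasiIso _ _).mpr hf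
  let eP : Q.obj P ≅ K := asIso (Q.map f) ≪≫ Q.objObjPreimageIso K
  let e2 : (DRing.restrictD (Polynomial.evalRingHom (0 : R))).obj (Q.obj P) ≅ Q.obj (resP P) :=
    ((ModuleCat.restrictScalars.{u} (Polynomial.evalRingHom (0 : R))).mapDerivedCategoryFactors).app P
  have : IsIso (Q.map (coneXMap P)) :=
    (DerivedCategory.isIso_Q_map_iff_quasiIso _ _).mpr (quasiIso_coneXMap P)
  let e3 : Q.obj (coneX P) ≅ Q.obj (resP P) := asIso (Q.map (coneXMap P))
  have := isKProjective_coneX P
  let e4 := LT.lBaseChangeObjIso (Polynomial.evalRingHom (0 : R)) (coneX P)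
  let e5 := mappingCone.mapHomologicalComplexIso (xMulCx P)
    (ModuleCat.extendScalars.{u, u, u} (Polynomial.evalRingHom (0 : R)))
  have hT := DerivedCategory.mappingCone_triangle_distinguished
    (((ModuleCat.extendScalars.{u, u, u} (Polynomial.evalRingHom (0 : R))).mapHomologicalComplex
      (ComplexShape.up ℤ)).map (xMulCx P))
  obtain ⟨e6⟩ := nonempty_iso_biprod_of_mor₁_eq_zero _ hT (by
    show Q.map (((ModuleCat.extendScalars.{u, u, u}
      (Polynomial.evalRingHom (0 : R))).mapHomologicalComplex (ComplexShape.up ℤ)).map (xMulCx P)) = 0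
    rw [map_xMulCx_eq_zero, Functor.map_zero])
  let e8 : Q.obj (((ModuleCat.extendScalars.{u, u, u}
      (Polynomial.evalRingHom (0 : R))).mapHomologicalComplex (ComplexShape.up ℤ)).obj (PX P)) ≅ K :=
    Q.mapIso (extExtCxIso P) ≪≫ eP
  exact ⟨(DRing.LBaseChange (Polynomial.evalRingHom (0 : R))).mapIso
    ((DRing.restrictD (Polynomial.evalRingHom (0 : R))).mapIso eP.symm ≪≫ e2 ≪≫ e3.symm) ≪≫
    e4 ≪≫ Q.mapIso e5 ≪≫ e6 ≪≫
    biprod.mapIso e8 ((CategoryTheory.shiftFunctor (Dual.D R) (1 : ℤ)).mapIso e8)⟩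

end Groth.Agent.Lib.Helper36.PolyZero
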