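import Mathlib
import Groth.Agent.Lib.Helper36.FunctorCompletion2
import Groth.Agent.Lib.Helper36.LTensorCxCompute
import Groth.Agent.Lib.Helper36.PolyZeroCx
import Groth.Agent.Lib.Helper87.ConeTensor
import Groth.Agent.Lib.Helper12.DRingCone

/-!
# The derived tensor product with a complex is weakly good (helper36)

Namespace `Groth.Agent.Lib.Helper36.FCo`.
-/

set_option autoImplicit false
set_option maxHeartbeats 400000
universe u
open CategoryTheory CategoryTheory.Limits CategoryTheory.Pretriangulated DerivedCategory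
  MonoidalCategory CochainComplex HomologicalComplex
attribute [local instance] HasDerivedCategory.standard

namespace Groth.Agent.Lib.Helper36.FCo

open Groth.Agent.Lib.Helper36.DC Groth.Agent.Lib.Helper36.DCF Groth.Agent.Lib.Helper36.LT
  Groth.Agent.Lib.Helper36.KP Groth.Agent.Lib.Helper36.LTCx Groth.Agent.Lib.Helper12

variable {A : Type u} [CommRing A]

/-- tensoring with a complex is compatible with scalars -/
lemma smul_id_whiskerRight (a : A) (P E : DRing.Cx A) : (a • 𝟙 P) ▷ E = a • 𝟙 (P ⊗ E) := by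
  refine HomologicalComplex.hom_ext _ _ (fun n => ?_)
  apply mapBifunctor.hom_ext
  intro p q hpq
  erw [ι_mapBifunctorMap]
  simp only [HomologicalComplex.smul_f_apply, HomologicalComplex.id_f,
    CategoryTheory.Functor.map_id, Linear.comp_smul, Category.id_comp]
  have h : ((curriedTensor (ModuleCat.{u} A)).map (a • 𝟙 (P.X p))).app (E.X q) =
      a • 𝟙 (P.X p ⊗ E.X q) := by
    show (a • 𝟙 (P.X p)) ▷ (E.X q) = _
    rw [MonoidalLinear.smul_whiskerRight, id_whiskerRight]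
  rw [h, Linear.smul_comp]
  congr 1

lemma exists_kproj (X : Dual.D A) :
    ∃ (P : DRing.Cx A), P.IsKProjective ∧ Nonempty (Q.obj P ≅ X) := by
  obtain ⟨P, p, hp, hP, -⟩ := exists_resolution (Q.objPreimage X)
  have hiso : IsIso (Q.map p) := (DerivedCategory.isIso_Q_map_iff_quasiIso _ p).2 hp
  exact ⟨P, hP, ⟨asIso (Q.map p) ≪≫ Q.objObjPreimageIso X⟩⟩

section

variable (E : DRing.Cx A) [DRing.HasLTensorCx A E]

lemma lTensorCxObjIso_naturality {P₁ P₂ : DRing.Cx A} [P₁.IsKProjective] [P₂.IsKProjective]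
    (φ : P₁ ⟶ P₂) :
    (DRing.LTensorCx A E).map (Q.map φ) ≫ (lTensorCxObjIso E P₂).hom =
      (lTensorCxObjIso E P₁).hom ≫ Q.map (φ ▷ E) :=
  ((DRing.tensorCxQ A E).totalLeftDerivedCounit Q
    (HomologicalComplex.quasiIso (ModuleCat.{u} A) (ComplexShape.up ℤ))).naturality φ

/-- the derived tensor product with a complex is weakly good -/
theorem wGood_lTensorCx : WGood (DRing.LTensorCx A E) where
  map_smul_id f X := by
    obtain ⟨P, hP, ⟨eP⟩⟩ := exists_kproj X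
    have h1 : (DRing.LTensorCx A E).map (f • 𝟙 (Q.obj P : Dual.D A)) = f • 𝟙 _ := by
      have hn := lTensorCxObjIso_naturality E (f • 𝟙 P)
      have q1 : (Q.map (f • 𝟙 P) : (Q.obj P : Dual.D A) ⟶ _) = f • 𝟙 _ := by
        rw [Functor.map_smul, CategoryTheory.Functor.map_id]
      have q2 : (Q.map (f • 𝟙 (P ⊗ E)) : (Q.obj (P ⊗ E) : Dual.D A) ⟶ _) = f • 𝟙 _ := by
        rw [Functor.map_smul, CategoryTheory.Functor.map_id]
      rw [smul_id_whiskerRight, q1, q2, Linear.comp_smul, Category.comp_id] at hn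
      have h3 := congrArg (· ≫ (lTensorCxObjIso E P).inv) hn
      simp only [Category.assoc, Iso.hom_inv_id, Category.comp_id, Linear.smul_comp] at h3
      exact h3
    have h2 : f • 𝟙 X = eP.inv ≫ (f • 𝟙 (Q.obj P : Dual.D A)) ≫ eP.hom := by
      rw [Linear.smul_comp, Category.id_comp, Linear.comp_smul, Iso.inv_hom_id]
    rw [h2, Functor.map_comp, Functor.map_comp, h1, Linear.smul_comp, Category.id_comp,
      Linear.comp_smul, ← Functor.map_comp, Iso.inv_hom_id, CategoryTheory.Functor.map_id]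
  exists_distTriang {X Y} η := by
    obtain ⟨P₁, hP₁, ⟨e₁⟩⟩ := exists_kproj X
    obtain ⟨P₂, hP₂, ⟨e₂⟩⟩ := exists_kproj Y
    obtain ⟨φ, hφ⟩ := exists_map_of_isKProjective P₁ P₂ (e₁.hom ≫ η ≫ e₂.inv)
    have hC : (mappingCone φ).IsKProjective :=
      Groth.Agent.Lib.Helper36.PolyZero.isKProjective_mappingCone' φ
    -- the triangle of `η`
    have hT₀ := DerivedCategory.mappingCone_triangle_distinguished φ
    obtain ⟨u₀, β₀, γ₀, hu₀, hT₀'⟩ : ∃ (u₀ : (Q.obj P₁ : Dual.D A) ⟶ Q.obj P₂)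
        (β₀ : (Q.obj P₂ : Dual.D A) ⟶ Q.obj (mappingCone φ))
        (γ₀ : (Q.obj (mappingCone φ) : Dual.D A) ⟶ (Q.obj P₁)⟦(1 : ℤ)⟧),
        u₀ = Q.map φ ∧ Triangle.mk u₀ β₀ γ₀ ∈ distTriang (Dual.D A) := ⟨_, _, _, rfl, hT₀⟩
    -- the triangle of `φ ▷ E`
    have hT₁ := DerivedCategory.mappingCone_triangle_distinguished (φ ▷ E)
    obtain ⟨u₁, β₁, γ₁, hu₁, hT₁'⟩ : ∃ (u₁ : (Q.obj (P₁ ⊗ E) : Dual.D A) ⟶ Q.obj (P₂ ⊗ E))
        (β₁ : (Q.obj (P₂ ⊗ E) : Dual.D A) ⟶ Q.obj (mappingCone (φ ▷ E)))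
        (γ₁ : (Q.obj (mappingCone (φ ▷ E)) : Dual.D A) ⟶ (Q.obj (P₁ ⊗ E))⟦(1 : ℤ)⟧),
        u₁ = Q.map (φ ▷ E) ∧ Triangle.mk u₁ β₁ γ₁ ∈ distTriang (Dual.D A) := ⟨_, _, _, rfl, hT₁⟩
    let a₁ : (DRing.LTensorCx A E).obj X ≅ Q.obj (P₁ ⊗ E) :=
      (DRing.LTensorCx A E).mapIso e₁.symm ≪≫ lTensorCxObjIso E P₁
    let a₂ : (DRing.LTensorCx A E).obj Y ≅ Q.obj (P₂ ⊗ E) :=
      (DRing.LTensorCx A E).mapIso e₂.symm ≪≫ lTensorCxObjIso E P₂
    let θ : (Q.obj (mappingCone (φ ▷ E)) : Dual.D A) ≅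
        (DRing.LTensorCx A E).obj (Q.obj (mappingCone φ)) :=
      Q.mapIso (Groth.Agent.Lib.Helper87.ConeTensor.coneTensorIso φ E).symm ≪≫
        (lTensorCxObjIso E (mappingCone φ)).symm
    have hη : η = e₁.inv ≫ Q.map φ ≫ e₂.hom := by
      rw [hφ]
      simp
    have hcomm : (DRing.LTensorCx A E).map η ≫ a₂.hom = a₁.hom ≫ Q.map (φ ▷ E) := by
      have hn := lTensorCxObjIso_naturality E φ
      rw [hη]
      simp only [a₁, a₂, Iso.trans_hom, Functor.mapIso_hom, Iso.symm_hom, Functor.map_comp,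
        Category.assoc]
      rw [← hn]
      simp only [← Functor.map_comp_assoc, Iso.hom_inv_id, CategoryTheory.Functor.map_id,
        Category.id_comp]
    refine ⟨Q.obj (mappingCone φ), e₂.inv ≫ β₀,
      γ₀ ≫ (CategoryTheory.shiftFunctor (Dual.D A) (1 : ℤ)).map e₁.hom,
      a₂.hom ≫ β₁ ≫ θ.hom,
      θ.inv ≫ γ₁ ≫ (CategoryTheory.shiftFunctor (Dual.D A) (1 : ℤ)).map a₁.inv, ?_, ?_⟩
    · refine isomorphic_distinguished _ hT₀' _
        (Triangle.isoMk _ _ e₁.symm e₂.symm (Iso.refl _) ?_ ?_ ?_)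
      · change η ≫ e₂.inv = e₁.inv ≫ u₀
        rw [hu₀, hη]
        simp
      · change (e₂.inv ≫ β₀) ≫ 𝟙 _ = e₂.inv ≫ β₀
        rw [Category.comp_id]
      · change (γ₀ ≫ (CategoryTheory.shiftFunctor (Dual.D A) (1 : ℤ)).map e₁.hom) ≫
          (CategoryTheory.shiftFunctor (Dual.D A) (1 : ℤ)).map e₁.inv = 𝟙 _ ≫ γ₀
        rw [Category.assoc, ← Functor.map_comp, Iso.hom_inv_id, CategoryTheory.Functor.map_id,
          Category.comp_id, Category.id_comp]
    · refine isomorphic_distinguished _ hT₁' _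
        (Triangle.isoMk _ _ a₁ a₂ θ.symm ?_ ?_ ?_)
      · change (DRing.LTensorCx A E).map η ≫ a₂.hom = a₁.hom ≫ u₁
        rw [hu₁, hcomm]
      · change (a₂.hom ≫ β₁ ≫ θ.hom) ≫ θ.inv = a₂.hom ≫ β₁
        simp
      · change (θ.inv ≫ γ₁ ≫ (CategoryTheory.shiftFunctor (Dual.D A) (1 : ℤ)).map a₁.inv) ≫
          (CategoryTheory.shiftFunctor (Dual.D A) (1 : ℤ)).map a₁.hom = θ.inv ≫ γ₁
        simp only [Category.assoc, ← Functor.map_comp, Iso.inv_hom_id,
          CategoryTheory.Functor.map_id, Category.comp_id]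

end

end Groth.Agent.Lib.Helper36.FCo
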