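import Mathlib
import Groth.Agent.Lib.Helper36.FunctorCompletion2
import Groth.Agent.Lib.Helper36.LTensorHomological

/-!
# The derived tensor product with a module is weakly good (helper36)

Namespace `Groth.Agent.Lib.Helper36.FCo`.
-/

set_option autoImplicit false
universe u
open CategoryTheory CategoryTheory.Limits CategoryTheory.Pretriangulated DerivedCategory
  MonoidalCategory
attribute [local instance] HasDerivedCategory.standard

namespace Groth.Agent.Lib.Helper36.FCo

open Groth.Agent.Lib.Helper36.DC Groth.Agent.Lib.Helper36.DCF Groth.Agent.Lib.Helper36.LT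
  Groth.Agent.Lib.Helper36.KP

/-- a left adjoint of a linear functor is linear -/
lemma leftAdjoint_map_smul {C D : Type*} [Category C] [Category D] [Preadditive C] [Preadditive D]
    {R : Type*} [Semiring R] [Linear R C] [Linear R D] {F : C ⥤ D} {G : D ⥤ C} (adj : F ⊣ G)
    [G.Additive] [G.Linear R] {X Y : C} (a : R) (f : X ⟶ Y) : F.map (a • f) = a • F.map f := by
  apply (adj.homEquiv _ _).injective
  rw [adj.homEquiv_unit, adj.homEquiv_unit, G.map_smul, Linear.comp_smul]
  have h1 := adj.unit.naturality (a • f)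
  have h2 := adj.unit.naturality f
  simp only [Functor.id_map, Functor.comp_map] at h1 h2
  rw [← h1, ← h2, Linear.smul_comp]

variable {A : Type u} [CommRing A]

/-- a functor isomorphic to a linear triangulated functor is weakly good -/
theorem wGood_of_iso (F' F : Dual.D A ⥤ Dual.D A) [F'.CommShift ℤ] [F'.IsTriangulated]
    (hlin : ∀ (f : A) (X : Dual.D A), F'.map (f • 𝟙 X) = f • 𝟙 (F'.obj X)) (e : F' ≅ F) :
    WGood F where
  map_smul_id f X := by
    have h := e.hom.naturality (f • 𝟙 X)
    rw [hlin, Linear.smul_comp, Category.id_comp] at h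
    have h2 : F.map (f • 𝟙 X) = e.inv.app X ≫ (f • e.hom.app X) := by
      rw [h, ← Category.assoc, Iso.inv_hom_id_app, Category.id_comp]
    rw [h2, Linear.comp_smul, Iso.inv_hom_id_app]
  exists_distTriang {X Y} η := by
    obtain ⟨Z, β, γ, hT⟩ := distinguished_cocone_triangle η
    have hT' := F'.map_distinguished _ hT
    refine ⟨Z, β, γ, F.map β,
      e.inv.app Z ≫ F'.map γ ≫ (F'.commShiftIso (1 : ℤ)).hom.app X ≫
        (CategoryTheory.shiftFunctor (Dual.D A) (1 : ℤ)).map (e.hom.app X), hT, ?_⟩
    refine isomorphic_distinguished _ hT' _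
      (Triangle.isoMk _ _ (e.symm.app X) (e.symm.app Y) (e.symm.app Z) ?_ ?_ ?_)
    · exact (e.inv.naturality η)
    · exact (e.inv.naturality β)
    · change (e.inv.app Z ≫ F'.map γ ≫ (F'.commShiftIso (1 : ℤ)).hom.app X ≫
        (CategoryTheory.shiftFunctor (Dual.D A) (1 : ℤ)).map (e.hom.app X)) ≫
        (CategoryTheory.shiftFunctor (Dual.D A) (1 : ℤ)).map (e.inv.app X) =
        e.inv.app Z ≫ F'.map γ ≫ (F'.commShiftIso (1 : ℤ)).hom.app X
      have h1 : (CategoryTheory.shiftFunctor (Dual.D A) (1 : ℤ)).map (e.hom.app X) ≫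
          (CategoryTheory.shiftFunctor (Dual.D A) (1 : ℤ)).map (e.inv.app X) = 𝟙 _ := by
        rw [← Functor.map_comp, Iso.hom_inv_id_app, CategoryTheory.Functor.map_id]
      simp only [Category.assoc]
      rw [h1]
      erw [Category.comp_id]

/-- the derived tensor product with a module is weakly good -/
theorem wGood_lTensor (M : ModuleCat.{u} A) [DRing.HasLTensor A M] :
    WGood (DRing.LTensor A M) := by
  refine wGood_of_iso (resFunctor (A := A) ⋙ mapKh (tensorRight M)) _ ?_
    (resCompIso (tensorRight M))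
  intro f X
  rw [Functor.comp_map, leftAdjoint_map_smul (resAdj (A := A)), Functor.map_smul,
    CategoryTheory.Functor.map_id, CategoryTheory.Functor.map_id]
  rfl

end Groth.Agent.Lib.Helper36.FCo
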