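import Mathlib

/-!
Helper (helper36): for a surjection `S → S'` with nilpotent kernel and an `S`-algebra `T`, the map
`T → S' ⊗[S] T` is surjective with nilpotent kernel.
-/

set_option autoImplicit false
universe u

open TensorProduct

namespace Groth.Agent.Lib.Helper36.NilBCRing

variable (S T S' : Type u) [CommRing S] [CommRing T] [CommRing S'] [Algebra S T] [Algebra S S']

lemma surjective_includeRight (hs : Function.Surjective (algebraMap S S')) :
    Function.Surjective (Algebra.TensorProduct.includeRight : T →ₐ[S] S' ⊗[S] T) := by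
  intro z
  induction z using TensorProduct.induction_on with
  | zero => exact ⟨0, map_zero _⟩
  | tmul s' t =>
    obtain ⟨s, rfl⟩ := hs s'
    refine ⟨s • t, ?_⟩
    show (1 : S') ⊗ₜ[S] (s • t) = algebraMap S S' s ⊗ₜ[S] t
    rw [TensorProduct.tmul_smul, TensorProduct.smul_tmul', Algebra.smul_def, mul_one]
  | add a b ha hb =>
    obtain ⟨x, rfl⟩ := ha
    obtain ⟨y, rfl⟩ := hb
    exact ⟨x + y, map_add _ _ _⟩

/-- the retraction-like map `S' ⊗[S] T → T / (ker (S → S')) T` -/
noncomputable def toQuot (hs : Function.Surjective (algebraMap S S')) :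
    S' ⊗[S] T →ₐ[S] T ⧸ (RingHom.ker (algebraMap S S')).map (algebraMap S T) :=
  Algebra.TensorProduct.lift
    ((Ideal.Quotient.liftₐ (RingHom.ker (algebraMap S S'))
      (Algebra.ofId S (T ⧸ (RingHom.ker (algebraMap S S')).map (algebraMap S T))) (by
        intro a ha
        show algebraMap S (T ⧸ (RingHom.ker (algebraMap S S')).map (algebraMap S T)) a = 0
        rw [IsScalarTower.algebraMap_apply S T (T ⧸ _), Ideal.Quotient.algebraMap_eq,
          Ideal.Quotient.eq_zero_iff_mem]
        exact Ideal.mem_map_of_mem _ ha)).comp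
      (Ideal.quotientKerAlgEquivOfSurjective (f := Algebra.ofId S S') hs).symm.toAlgHom)
    (IsScalarTower.toAlgHom S T (T ⧸ (RingHom.ker (algebraMap S S')).map (algebraMap S T)))
    (fun _ _ => Commute.all _ _)

lemma toQuot_includeRight (hs : Function.Surjective (algebraMap S S')) (t : T) :
    toQuot S T S' hs ((1 : S') ⊗ₜ[S] t) =
      Ideal.Quotient.mk ((RingHom.ker (algebraMap S S')).map (algebraMap S T)) t := by
  rw [toQuot, Algebra.TensorProduct.lift_tmul, map_one, one_mul]
  rfl

lemma ker_includeRight_le (hs : Function.Surjective (algebraMap S S')) :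
    RingHom.ker (Algebra.TensorProduct.includeRight : T →ₐ[S] S' ⊗[S] T).toRingHom ≤
      (RingHom.ker (algebraMap S S')).map (algebraMap S T) := by
  intro t ht
  rw [RingHom.mem_ker] at ht
  have h1 : (1 : S') ⊗ₜ[S] t = 0 := ht
  have h2 := toQuot_includeRight S T S' hs t
  rw [h1, map_zero] at h2
  exact Ideal.Quotient.eq_zero_iff_mem.mp h2.symm

lemma isNilpotent_ker_includeRight (hs : Function.Surjective (algebraMap S S'))
    (hn : IsNilpotent (RingHom.ker (algebraMap S S'))) :
    IsNilpotent (RingHom.ker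
      (Algebra.TensorProduct.includeRight : T →ₐ[S] S' ⊗[S] T).toRingHom) := by
  obtain ⟨n, hn⟩ := hn
  refine ⟨n, ?_⟩
  rw [Ideal.zero_eq_bot, eq_bot_iff]
  refine (Ideal.pow_right_mono (ker_includeRight_le S T S' hs) n).trans ?_
  rw [← Ideal.map_pow, hn, Ideal.zero_eq_bot, Ideal.map_bot]

end Groth.Agent.Lib.Helper36.NilBCRing
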