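import Mathlib
import Groth.Agent.Lib.Helper12.NilpotentFiniteType

/-!
Helper (helper36): for a surjection `R' → R` with nilpotent kernel, finiteness of the cokernel of
`R ⊗ d` implies finiteness of the cokernel of `d`.
-/

set_option autoImplicit false
universe u

open TensorProduct

namespace Groth.Agent.Lib.Helper36.NilTop

variable {S A : Type*} [CommRing S] [CommRing A] [Algebra S A]

/-- `S ⧸ ker ≃ A` as `S`-modules, for surjective `S → A`. -/
noncomputable def quotKerEquiv (hφ : Function.Surjective (algebraMap S A)) :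
    (S ⧸ RingHom.ker (algebraMap S A)) ≃ₗ[S] A :=
  LinearEquiv.ofBijective
    (Submodule.liftQ (RingHom.ker (algebraMap S A)) (Algebra.linearMap S A) (fun x hx => hx))
    ⟨by
      rw [← LinearMap.ker_eq_bot, Submodule.ker_liftQ_eq_bot]
      · intro x hx
        exact hx,
     by
      intro a
      obtain ⟨s, rfl⟩ := hφ a
      exact ⟨Submodule.Quotient.mk s, rfl⟩⟩

theorem quotKerEquiv_one (hφ : Function.Surjective (algebraMap S A)) :
    quotKerEquiv hφ (1 : S ⧸ RingHom.ker (algebraMap S A)) = 1 := by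
  show (algebraMap S A) 1 = 1
  simp

/-- The kernel of `x ↦ 1 ⊗ x : X → A ⊗ X` is `ker • X`, for surjective `S → A`. -/
theorem ker_mk_one (hφ : Function.Surjective (algebraMap S A)) (X : Type*) [AddCommGroup X]
    [Module S X] :
    LinearMap.ker (TensorProduct.mk S A X 1) =
      RingHom.ker (algebraMap S A) • (⊤ : Submodule S X) := by
  rw [← LinearMap.ker_tensorProductMk (Q := X) (I := RingHom.ker (algebraMap S A))]
  ext x
  simp only [LinearMap.mem_ker, TensorProduct.mk_apply]
  have h1 : (LinearEquiv.rTensor X (quotKerEquiv hφ))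
      ((1 : S ⧸ RingHom.ker (algebraMap S A)) ⊗ₜ[S] x) = (1 : A) ⊗ₜ[S] x := by
    rw [LinearEquiv.rTensor_tmul, quotKerEquiv_one]
  rw [← h1, LinearEquiv.map_eq_zero_iff]

/-- Nilpotent Nakayama for finiteness: a module surjecting onto a finite module with kernel inside
`I • ⊤`, `I` nilpotent, is finite. -/
theorem finite_of_surjective_of_ker_le (I : Ideal S) (k : ℕ) (hk : I ^ k = ⊥) {Q W : Type*}
    [AddCommGroup Q] [Module S Q] [AddCommGroup W] [Module S W] [Module.Finite S W]
    (q : Q →ₗ[S] W) (hq : Function.Surjective q)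
    (hker : LinearMap.ker q ≤ I • (⊤ : Submodule S Q)) : Module.Finite S Q := by
  obtain ⟨T, hT⟩ := (Module.Finite.fg_top : (⊤ : Submodule S W).FG)
  choose g hg using hq
  have h1 : Submodule.map q (Submodule.span S (g '' (T : Set W))) = ⊤ := by
    rw [Submodule.map_span, ← Set.image_comp]
    have : (⇑q ∘ g) '' (T : Set W) = (T : Set W) := by
      ext w
      simp [hg]
    rw [this, hT]
  have h2 : Submodule.span S (g '' (T : Set W)) ⊔ LinearMap.ker q = ⊤ := by
    rw [← Submodule.comap_map_eq, h1, Submodule.comap_top]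
  have h3 : Submodule.span S (g '' (T : Set W)) = ⊤ := by
    apply Groth.Agent.Lib.Helper12.eq_top_of_sup_smul_top_of_pow_eq_bot I k hk
    calc (⊤ : Submodule S Q) = Submodule.span S (g '' (T : Set W)) ⊔ LinearMap.ker q := h2.symm
      _ ≤ Submodule.span S (g '' (T : Set W)) ⊔ I • (⊤ : Submodule S Q) :=
        sup_le_sup_left hker _
  classical
  refine ⟨⟨T.image g, ?_⟩⟩
  rw [Finset.coe_image, h3]

/-- **Top degree under nilpotent thickenings**: finiteness of the cokernel of `A ⊗ d` over `A`
implies finiteness of the cokernel of `d` over `S`. -/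
theorem finite_quotient_range_of_baseChange (hφ : Function.Surjective (algebraMap S A)) (k : ℕ)
    (hk : RingHom.ker (algebraMap S A) ^ k = ⊥) {X Y : Type*} [AddCommGroup X] [Module S X]
    [AddCommGroup Y] [Module S Y] (d : Y →ₗ[S] X)
    (h : Module.Finite A ((A ⊗[S] X) ⧸ LinearMap.range (d.baseChange A))) :
    Module.Finite S (X ⧸ LinearMap.range d) := by
  have hfinA : Module.Finite S A := Module.Finite.of_surjective (Algebra.linearMap S A) hφ
  have hfinW : Module.Finite S ((A ⊗[S] X) ⧸ LinearMap.range (d.baseChange A)) :=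
    Module.Finite.trans A _
  let p : (A ⊗[S] X) →ₗ[A] (A ⊗[S] X) ⧸ LinearMap.range (d.baseChange A) :=
    (LinearMap.range (d.baseChange A)).mkQ
  let q₀ : X →ₗ[S] (A ⊗[S] X) ⧸ LinearMap.range (d.baseChange A) :=
    (p.restrictScalars S).comp (TensorProduct.mk S A X 1)
  have hq₀ : Function.Surjective q₀ := by
    intro w
    obtain ⟨t, rfl⟩ := Submodule.mkQ_surjective _ w
    obtain ⟨x, rfl⟩ := TensorProduct.mk_surjective S X A hφ t
    exact ⟨x, rfl⟩
  have hd : LinearMap.range d ≤ LinearMap.ker q₀ := by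
    rintro _ ⟨y, rfl⟩
    rw [LinearMap.mem_ker]
    show p ((1 : A) ⊗ₜ[S] d y) = 0
    rw [Submodule.mkQ_apply, Submodule.Quotient.mk_eq_zero]
    exact ⟨(1 : A) ⊗ₜ[S] y, by rw [LinearMap.baseChange_tmul]⟩
  have hker : LinearMap.ker q₀ ≤
      LinearMap.range d ⊔ RingHom.ker (algebraMap S A) • (⊤ : Submodule S X) := by
    intro x hx
    rw [LinearMap.mem_ker] at hx
    have hx' : (1 : A) ⊗ₜ[S] x ∈ LinearMap.range (d.baseChange A) := by
      rw [← Submodule.Quotient.mk_eq_zero]
      exact hx
    obtain ⟨t, ht⟩ := hx'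
    obtain ⟨y, rfl⟩ := TensorProduct.mk_surjective S Y A hφ t
    have h1 : TensorProduct.mk S A X 1 (x - d y) = 0 := by
      rw [map_sub, TensorProduct.mk_apply, TensorProduct.mk_apply, ← ht, TensorProduct.mk_apply,
        LinearMap.baseChange_tmul, sub_self]
    have h2 : x - d y ∈ RingHom.ker (algebraMap S A) • (⊤ : Submodule S X) := by
      rw [← ker_mk_one hφ X]
      exact h1
    have : x = d y + (x - d y) := by abel
    rw [this]
    exact Submodule.add_mem_sup ⟨y, rfl⟩ h2
  let q : (X ⧸ LinearMap.range d) →ₗ[S] (A ⊗[S] X) ⧸ LinearMap.range (d.baseChange A) :=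
    Submodule.liftQ (LinearMap.range d) q₀ hd
  have hq : Function.Surjective q := by
    intro w
    obtain ⟨x, rfl⟩ := hq₀ w
    exact ⟨Submodule.Quotient.mk x, rfl⟩
  refine finite_of_surjective_of_ker_le (RingHom.ker (algebraMap S A)) k hk q hq ?_
  rw [Submodule.ker_liftQ]
  refine (Submodule.map_mono hker).trans ?_
  rw [Submodule.map_sup, Submodule.map_smul'', Submodule.map_top, Submodule.range_mkQ]
  refine sup_le ?_ le_rfl
  rintro _ ⟨y, hy, rfl⟩
  have : (LinearMap.range d).mkQ y = 0 := by
    rw [Submodule.mkQ_apply, Submodule.Quotient.mk_eq_zero]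
    exact hy
  rw [this]
  exact zero_mem _

end Groth.Agent.Lib.Helper36.NilTop
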