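import Mathlib
import Groth.Agent.Lib.Helper36.NilpotentTor
import Groth.Agent.Lib.Helper36.NilpotentTop
import Groth.Agent.Lib.Helper36.HasLeftDerived
import Groth.Agent.Lib.Helper12.DRingPCRep
import Groth.Agent.Lib.Helper12.FlatExtendScalars
import Groth.Agent.Lib.Helper12.DRingTorAmp

/-!
Helper (helper36): pseudo-coherence descends along surjections with nilpotent kernel.
-/

set_option autoImplicit false
universe u

open CategoryTheory CategoryTheory.Limits CochainComplex DerivedCategory MonoidalCategory
open CategoryTheory.Pretriangulated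

attribute [local instance] HasDerivedCategory.standard

namespace Groth.Agent.Lib.Helper36.NilPC

open Groth.Agent.Lib.Helper12 DRing Groth.Agent.Lib.Helper36.LT

section cells

variable {A : Type u} [CommRing A]

/-- A chain map which hits the top cohomology is an epimorphism on top cohomology. -/
theorem epi_homologyMap_of_top {F P : Cx A} (f : F ⟶ P) (b : ℤ) (hF : IsZero (F.X (b + 1)))
    (hP : IsZero (P.X (b + 1)))
    (hsurj : ∀ x : P.X b, ∃ (u : F.X b) (y : P.X (b - 1)),
      x = (f.f b).hom u + (P.d (b - 1) b).hom y) :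
    Epi (HomologicalComplex.homologyMap f b) := by
  have hdF : F.d b (b + 1) = 0 := hF.eq_of_tgt _ _
  have hdP : P.d b (b + 1) = 0 := hP.eq_of_tgt _ _
  have h1 : IsIso (F.homologyι b) := F.isIso_homologyι b (b + 1) (by simp) hdF
  have h2 : IsIso (P.homologyι b) := P.isIso_homologyι b (b + 1) (by simp) hdP
  have h3 : Epi (f.f b ≫ P.pOpcycles b) := by
    rw [ModuleCat.epi_iff_surjective]
    intro z
    obtain ⟨x, rfl⟩ := (ModuleCat.epi_iff_surjective _).mp
      (inferInstance : Epi (P.pOpcycles b)) z
    obtain ⟨u, y, rfl⟩ := hsurj x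
    refine ⟨u, ?_⟩
    have h0 : (P.pOpcycles b).hom ((P.d (b - 1) b).hom y) = 0 :=
      congr($(P.d_pOpcycles (b - 1) b) y)
    rw [map_add, h0, add_zero]
    rfl
  have h4 : Epi (HomologicalComplex.opcyclesMap f b) :=
    epi_of_epi_fac (HomologicalComplex.p_opcyclesMap f b)
  have h5 := HomologicalComplex.homologyι_naturality f b
  have h6 : HomologicalComplex.homologyMap f b =
      F.homologyι b ≫ HomologicalComplex.opcyclesMap f b ≫ inv (P.homologyι b) := by
    rw [← Category.assoc, ← h5, Category.assoc, IsIso.hom_inv_id, Category.comp_id]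
  rw [h6]
  infer_instance

/-- Such a chain map between complexes vanishing above `b` is `b`-connected. -/
theorem isConn_of_top {F P : Cx A} (f : F ⟶ P) (b : ℤ) (hF : VanishesAbove F b)
    (hP : VanishesAbove P b)
    (hsurj : ∀ x : P.X b, ∃ (u : F.X b) (y : P.X (b - 1)),
      x = (f.f b).hom u + (P.d (b - 1) b).hom y) :
    IsConn b (DerivedCategory.Q.map f) := by
  constructor
  · intro i hi
    have h1 : IsZero ((HF A i).obj (toD F)) := isZero_HF_toD_of_isZero_X F i (hF i hi)
    have h2 : IsZero ((HF A i).obj (toD P)) := isZero_HF_toD_of_isZero_X P i (hP i hi)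
    exact ⟨⟨0, h1.eq_of_src _ _, h2.eq_of_src _ _⟩⟩
  · have h1 := epi_homologyMap_of_top f b (hF _ (by omega)) (hP _ (by omega)) hsurj
    obtain ⟨eF, heF⟩ : ∃ e : (HF A b).obj (toD F) ≅ F.homology b,
        e = (DerivedCategory.homologyFunctorFactors (ModuleCat.{u} A) b).app F := ⟨_, rfl⟩
    obtain ⟨eP, heP⟩ : ∃ e : (HF A b).obj (toD P) ≅ P.homology b,
        e = (DerivedCategory.homologyFunctorFactors (ModuleCat.{u} A) b).app P := ⟨_, rfl⟩
    have h2 : (HF A b).map (DerivedCategory.Q.map f) ≫ eP.hom =
        eF.hom ≫ HomologicalComplex.homologyMap f b := by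
      rw [heF, heP]
      exact (DerivedCategory.homologyFunctorFactors (ModuleCat.{u} A) b).hom.naturality f
    have h3 : (HF A b).map (DerivedCategory.Q.map f) =
        eF.hom ≫ HomologicalComplex.homologyMap f b ≫ eP.inv := by
      rw [← Category.assoc, ← h2, Category.assoc, Iso.hom_inv_id, Category.comp_id]
    rw [h3]
    infer_instance

/-- If the top cohomology of `P` is finite, there is a map from a finite free module placed in
the top degree hitting it. -/
theorem exists_cell {P : Cx A} (b : ℤ) (hP : VanishesAbove P b)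
    (hfin : Module.Finite A ((HF A b).obj (toD P))) :
    ∃ (r : ℕ) (f : singleCx b (ModuleCat.of A (Fin r → A)) ⟶ P),
      ∀ x : P.X b, ∃ (u : (singleCx b (ModuleCat.of A (Fin r → A))).X b) (y : P.X (b - 1)),
        x = (f.f b).hom u + (P.d (b - 1) b).hom y := by
  have hd : P.d b (b + 1) = 0 := (hP _ (by omega)).eq_of_tgt _ _
  have e : (HF A b).obj (toD P) ≅
      ModuleCat.of A ((P.X b) ⧸ LinearMap.range (P.d (b - 1) b).hom) :=
    (DerivedCategory.homologyFunctorFactors (ModuleCat.{u} A) b).app P ≪≫
      P.isoHomologyι b (b + 1) (by simp) hd ≪≫ opcyclesIsoQuot P b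
  have hfinQ : Module.Finite A ((P.X b) ⧸ LinearMap.range (P.d (b - 1) b).hom) :=
    Module.Finite.equiv e.toLinearEquiv
  obtain ⟨r, p, hp⟩ := Module.Finite.exists_fin' A ((P.X b) ⧸ LinearMap.range (P.d (b - 1) b).hom)
  obtain ⟨g, hg⟩ := Module.projective_lifting_property
    (LinearMap.range (P.d (b - 1) b).hom).mkQ p (Submodule.mkQ_surjective _)
  refine ⟨r, HomologicalComplex.mkHomFromSingle (ModuleCat.ofHom g) (fun k hk => ?_), ?_⟩
  · have hk' : b + 1 = k := hk
    subst hk'
    exact (hP _ (by omega)).eq_of_tgt _ _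
  · intro x
    obtain ⟨u₀, hu₀⟩ := hp ((LinearMap.range (P.d (b - 1) b).hom).mkQ x)
    have h1 : x - g u₀ ∈ LinearMap.range (P.d (b - 1) b).hom := by
      rw [← Submodule.Quotient.mk_eq_zero, Submodule.Quotient.mk_sub, sub_eq_zero]
      have := congr($hg u₀)
      rw [LinearMap.comp_apply] at this
      exact (hu₀.symm.trans this.symm)
    obtain ⟨y, hy⟩ := h1
    refine ⟨(HomologicalComplex.singleObjXSelf (ComplexShape.up ℤ) b
      (ModuleCat.of A (Fin r → A))).inv.hom u₀, y, ?_⟩
    rw [HomologicalComplex.mkHomFromSingle_f, hy]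
    have h2 : (ModuleCat.Hom.hom ((HomologicalComplex.singleObjXSelf (ComplexShape.up ℤ) b
        (ModuleCat.of A (Fin r → A))).hom ≫ ModuleCat.ofHom g))
        ((HomologicalComplex.singleObjXSelf (ComplexShape.up ℤ) b
          (ModuleCat.of A (Fin r → A))).inv.hom u₀) = g u₀ := by
      rw [ModuleCat.hom_comp, LinearMap.comp_apply]
      have h3 : (ModuleCat.Hom.hom (HomologicalComplex.singleObjXSelf (ComplexShape.up ℤ) b
          (ModuleCat.of A (Fin r → A))).hom)
          ((ModuleCat.Hom.hom (HomologicalComplex.singleObjXSelf (ComplexShape.up ℤ) b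
            (ModuleCat.of A (Fin r → A))).inv) u₀) = u₀ :=
        congr($((HomologicalComplex.singleObjXSelf (ComplexShape.up ℤ) b
          (ModuleCat.of A (Fin r → A))).inv_hom_id) u₀)
      rw [h3]
      rfl
    rw [h2]
    abel

end cells

section nilpotent

variable {R' R : Type u} [CommRing R'] [CommRing R] (φ : R' →+* R)

/-- termwise extension of scalars -/
noncomputable abbrev extC : Cx R' ⥤ Cx R :=
  (ModuleCat.extendScalars.{u, u, u} φ).mapHomologicalComplex (ComplexShape.up ℤ)

/-- Extension of scalars preserves finite free modules. -/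
theorem finiteFree_extendScalars (N : ModuleCat.{u} R') (h : (finiteFree R').P N) :
    (finiteFree R).P ((ModuleCat.extendScalars.{u, u, u} φ).obj N) := by
  let _ : Algebra R' R := φ.toAlgebra
  have := h.1
  have := h.2
  exact extSc_finite_free (A := R') (B := R) N

/-- The single complex of a finite free module is termwise finite free. -/
theorem termwiseFiniteFree_singleCx {A : Type u} [CommRing A] (b : ℤ) (r : ℕ) :
    TermwiseFiniteFree (singleCx b (ModuleCat.of A (Fin r → A))) := by
  intro i
  by_cases hi : i = b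
  · subst hi
    exact (finiteFree A).iso (HomologicalComplex.singleObjXSelf (ComplexShape.up ℤ) i
      (ModuleCat.of A (Fin r → A))).symm
      ⟨inferInstanceAs (Module.Finite A (Fin r → A)), inferInstanceAs (Module.Free A (Fin r → A))⟩
  · exact (finiteFree A).zero (isZero_singleCx_X b _ i hi)

/-- Finiteness of the top cohomology descends along nilpotent thickenings. -/
theorem finite_top_of_extC (hφ : Function.Surjective φ) (hnil : IsNilpotent (RingHom.ker φ))
    (P : Cx R') (b : ℤ) (hP : VanishesAbove P b)
    (h : Module.Finite R ((HF R b).obj (toD ((extC φ).obj P)))) :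
    Module.Finite R' ((HF R' b).obj (toD P)) := by
  let _ : Algebra R' R := φ.toAlgebra
  obtain ⟨k, hk⟩ := hnil
  have hd : P.d b (b + 1) = 0 := (hP _ (by omega)).eq_of_tgt _ _
  have hd' : ((extC φ).obj P).d b (b + 1) = 0 :=
    ((ModuleCat.extendScalars.{u, u, u} φ).map_isZero (hP _ (by omega))).eq_of_tgt _ _
  have e : (HF R' b).obj (toD P) ≅
      ModuleCat.of R' ((P.X b) ⧸ LinearMap.range (P.d (b - 1) b).hom) :=
    (DerivedCategory.homologyFunctorFactors (ModuleCat.{u} R') b).app P ≪≫
      P.isoHomologyι b (b + 1) (by simp) hd ≪≫ opcyclesIsoQuot P b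
  have e' : (HF R b).obj (toD ((extC φ).obj P)) ≅
      ModuleCat.of R ((((extC φ).obj P).X b) ⧸
        LinearMap.range (((extC φ).obj P).d (b - 1) b).hom) :=
    (DerivedCategory.homologyFunctorFactors (ModuleCat.{u} R) b).app ((extC φ).obj P) ≪≫
      ((extC φ).obj P).isoHomologyι b (b + 1) (by simp) hd' ≪≫ opcyclesIsoQuot ((extC φ).obj P) b
  have h1 : Module.Finite R ((((extC φ).obj P).X b) ⧸
      LinearMap.range (((extC φ).obj P).d (b - 1) b).hom) :=
    Module.Finite.equiv e'.toLinearEquiv
  have h2 : Module.Finite R' ((P.X b) ⧸ LinearMap.range (P.d (b - 1) b).hom) :=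
    NilTop.finite_quotient_range_of_baseChange (S := R') (A := R) hφ k hk (P.d (b - 1) b).hom h1
  exact Module.Finite.equiv e.symm.toLinearEquiv

/-- Descent of `m`-pseudo-coherence along nilpotent thickenings, by induction on `b - m`. -/
theorem isPseudoCoherent_of_LBaseChange_aux (hφ : Function.Surjective φ)
    (hnil : IsNilpotent (RingHom.ker φ)) [DRing.HasLBaseChange φ] :
    ∀ (n : ℕ) (m b : ℤ) (K' : Dual.D R'), b < m + n →
      (∀ i : ℤ, b < i → IsZero ((HF R' i).obj K')) →
      IsPseudoCoherent R m ((DRing.LBaseChange φ).obj K') → IsPseudoCoherent R' m K' := by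
  intro n
  induction n with
  | zero =>
    intro m b K' hb hK _
    exact isPseudoCoherent_of_isZero_HF m K' (fun i hi => hK i (by simp at hb; omega))
  | succ n ih =>
    intro m b K' hb hK hL
    by_cases hbn : b < m + n
    · exact ih m b K' hbn hK hL
    have hmb : m ≤ b := by omega
    obtain ⟨P, hPb, hPproj, ⟨e⟩⟩ := exists_projective_rep K' b hK
    have hPfl : ∀ i, Module.Flat R' (P.X i) := fun i => by
      have := hPproj i
      infer_instance
    obtain ⟨eL⟩ := nonempty_lBaseChangeObjIso_of_flat φ P b hPb hPfl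
    have hextpc : IsPseudoCoherent R m (toD ((extC φ).obj P)) :=
      isPseudoCoherent_of_iso' ((DRing.LBaseChange φ).mapIso e.symm ≪≫ eL) hL
    have hextb : VanishesAbove ((extC φ).obj P) b := fun i hi =>
      (ModuleCat.extendScalars.{u, u, u} φ).map_isZero (hPb i hi)
    have hfinR : Module.Finite R ((HF R b).obj (toD ((extC φ).obj P))) :=
      Groth.Agent.S2068.part_a _ b (isPseudoCoherent_mono hextpc hmb)
        (fun i hi => isZero_HF_toD_of_isZero_X _ i (hextb i hi))
    have hfinR' : Module.Finite R' ((HF R' b).obj (toD P)) :=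
      finite_top_of_extC φ hφ hnil P b hPb hfinR
    obtain ⟨r, f, hf⟩ := exists_cell b hPb hfinR'
    have hFb : VanishesAbove (singleCx b (ModuleCat.of R' (Fin r → R'))) b :=
      fun i hi => isZero_singleCx_X b _ i (by omega)
    have hFo : VanishesOutside (singleCx b (ModuleCat.of R' (Fin r → R'))) b b :=
      fun i hi => isZero_singleCx_X b _ i (by omega)
    have hFff := termwiseFiniteFree_singleCx (A := R') b r
    have hconn : IsConn b (DerivedCategory.Q.map f) := isConn_of_top f b hFb hPb hf
    have hT := DerivedCategory.mappingCone_triangle_distinguished f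
    have hC0 : ∀ i : ℤ, b - 1 < i → IsZero ((HF R' i).obj (toD (mappingCone f))) :=
      fun i hi => IsConn.cone _ hT hconn i (by omega)
    -- the base-changed triangle
    have hTx := DerivedCategory.mappingCone_triangle_distinguished ((extC φ).map f)
    have hxff : TermwiseFiniteFree
        ((extC φ).obj (singleCx b (ModuleCat.of R' (Fin r → R')))) :=
      fun i => finiteFree_extendScalars φ _ (hFff i)
    have h1x : IsPseudoCoherent R (m + 1)
        (toD ((extC φ).obj (singleCx b (ModuleCat.of R' (Fin r → R'))))) :=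
      isPseudoCoherent_toD_of_bounded_ff ((extC φ).obj (singleCx b (ModuleCat.of R' (Fin r → R'))))
        b b (fun i hi => (ModuleCat.extendScalars.{u, u, u} φ).map_isZero (hFo i hi)) hxff (m + 1)
    have h3x : IsPseudoCoherent R m (toD (mappingCone ((extC φ).map f))) :=
      (isPseudoCoherent_two_out_of_three _ hTx m).1 h1x hextpc
    have hCb : VanishesAbove (mappingCone f) b := by
      intro i hi
      exact vanishesAbove_cone f hFb hPb i (by
        have := max_le (show b - 1 ≤ b by omega) (le_refl b)
        omega)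
    have hCfl : ∀ i, Module.Flat R' ((mappingCone f).X i) := by
      intro i
      have h := termwise_cone (projectiveP R') f
        (fun j => (finiteFree_projective _ (hFff j) : Module.Projective R' _)) hPproj i
      have : Module.Projective R' ((mappingCone f).X i) := h
      infer_instance
    obtain ⟨eLC⟩ := nonempty_lBaseChangeObjIso_of_flat φ (mappingCone f) b hCb hCfl
    have hLC : IsPseudoCoherent R m ((DRing.LBaseChange φ).obj (toD (mappingCone f))) :=
      isPseudoCoherent_of_iso'
        (DerivedCategory.Q.mapIso (mappingCone.mapHomologicalComplexIso f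
          (ModuleCat.extendScalars.{u, u, u} φ)).symm ≪≫ eLC.symm) h3x
    have hconepc : IsPseudoCoherent R' m (toD (mappingCone f)) :=
      ih m (b - 1) _ (by push_cast at hb; omega) hC0 hLC
    have hFpc : IsPseudoCoherent R' m (toD (singleCx b (ModuleCat.of R' (Fin r → R')))) :=
      isPseudoCoherent_toD_of_bounded_ff _ b b hFo hFff m
    exact isPseudoCoherent_of_iso' e
      ((isPseudoCoherent_two_out_of_three _ hT m).2.1 hFpc hconepc)

/-- Boundedness above descends along nilpotent thickenings. -/
theorem isZero_HF_of_LBaseChange (hφ : Function.Surjective φ)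
    (hnil : IsNilpotent (RingHom.ker φ)) [DRing.HasLBaseChange φ] (K' : Dual.D R') (b : ℤ)
    (E : Cx R) (hEb : VanishesAbove E b) (hEfl : ∀ i, Module.Flat R (E.X i))
    (eE : toD E ≅ (DRing.LBaseChange φ).obj K') (i : ℤ) (hi : b < i) :
    IsZero ((HF R' i).obj K') := by
  obtain ⟨P, f, hf, hKP, hproj⟩ := KP.exists_resolution (DerivedCategory.Q.objPreimage K')
  have hiso : IsIso (DerivedCategory.Q.map f) :=
    (DerivedCategory.isIso_Q_map_iff_quasiIso _ f).mpr hf
  have e₀ : toD P ≅ K' :=
    asIso (DerivedCategory.Q.map f) ≪≫ DerivedCategory.Q.objObjPreimageIso K'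
  have hKP' := BCKP.isKProjective_extendScalars φ P
  have e₁ : toD ((extC φ).obj P) ≅ (DRing.LBaseChange φ).obj K' :=
    (lBaseChangeObjIso φ P).symm ≪≫ (DRing.LBaseChange φ).mapIso e₀
  have hex : (tensorCx (𝟙_ (ModuleCat.{u} R')) P).ExactAt i :=
    NilTor.exactAt_tensorCx_of_nilpotent φ hφ hnil P (fun n => by
      have := hproj n
      infer_instance) i
      (fun M => @exactAt_tensorCx_of_subsingleton R _ M (LT.hasLTensor R M) _ hKP' _ e₁ i
        (@subsingleton_HD_lTensor_of_flat R _ M (LT.hasLTensor R M) E b hEb hEfl _ eE i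
          (hEb i hi))) _
  have hexP : P.ExactAt i :=
    (_root_.exactAt_iff_of_quasiIsoAt (tensorCxUnitIso P).hom i).mp hex
  rw [HomologicalComplex.exactAt_iff_isZero_homology] at hexP
  have h1 : IsZero ((HF R' i).obj (toD P)) :=
    hexP.of_iso ((DerivedCategory.homologyFunctorFactors (ModuleCat.{u} R') i).app P)
  exact h1.of_iso ((HF R' i).mapIso e₀.symm)

/-- **Pseudo-coherence descends along nilpotent thickenings.** -/
theorem isPseudoCoherent'_of_LBaseChange (hφ : Function.Surjective φ)
    (hnil : IsNilpotent (RingHom.ker φ)) [DRing.HasLBaseChange φ] (K' : Dual.D R')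
    (h : IsPseudoCoherent' R ((DRing.LBaseChange φ).obj K')) : IsPseudoCoherent' R' K' := by
  obtain ⟨E, b, hEb, hEff, ⟨eE⟩⟩ := id h
  have hEfl : ∀ i, Module.Flat R (E.X i) := fun i => by
    have := (hEff i).1
    have := (hEff i).2
    infer_instance
  have hK : ∀ i : ℤ, b < i → IsZero ((HF R' i).obj K') :=
    isZero_HF_of_LBaseChange φ hφ hnil K' b E hEb hEfl eE
  apply isPseudoCoherent'_of_forall
  intro m
  exact isPseudoCoherent_of_LBaseChange_aux φ hφ hnil (b - m + 1).toNat m b K' (by omega) hK
    (isPseudoCoherent_of_isPseudoCoherent' h m)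

/-- Derived base change preserves pseudo-coherence. -/
theorem isPseudoCoherent'_LBaseChange [DRing.HasLBaseChange φ] (K' : Dual.D R')
    (h : IsPseudoCoherent' R' K') : IsPseudoCoherent' R ((DRing.LBaseChange φ).obj K') := by
  obtain ⟨E, b, hEb, hEff, ⟨eE⟩⟩ := h
  have hEfl : ∀ i, Module.Flat R' (E.X i) := fun i => by
    have := (hEff i).1
    have := (hEff i).2
    infer_instance
  obtain ⟨eL⟩ := nonempty_lBaseChangeObjIso_of_flat φ E b hEb hEfl
  refine ⟨(extC φ).obj E, b, fun i hi => (ModuleCat.extendScalars.{u, u, u} φ).map_isZero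
    (hEb i hi), fun i => finiteFree_extendScalars φ _ (hEff i),
    ⟨eL.symm ≪≫ (DRing.LBaseChange φ).mapIso eE⟩⟩

end nilpotent

end Groth.Agent.Lib.Helper36.NilPC
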