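import Mathlib
import Groth.Agent.Lib.Helper36.RHomCxTri
import Groth.Agent.Lib.Helper36.FunctorCompletion

/-!
# `RHomCx K` commutes with derived completion (helper36)
-/

set_option autoImplicit false
universe u
open CategoryTheory CategoryTheory.Limits
attribute [local instance] HasDerivedCategory.standard

namespace Groth.Agent.Lib.Helper36.RHT

variable {A : Type u} [CommRing A] (K : DRing.Cx A) [DRing.HasRHomCx K]

theorem good_rhomCx : Groth.Agent.Lib.Helper36.FCo.Good (DRing.RHomCx K) where
  map_smul_id := map_smul_id K
  exists_distTriang := exists_distTriang K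
  fc := fun f E hE => seqComplete_rhomCx K f E hE

end Groth.Agent.Lib.Helper36.RHT
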