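import Mathlib
import Groth.Prelude.Def_DDual2

/-!
Helper (helper36): for `S → T`, `S → S'` and `T' = S' ⊗[S] T`, the natural isomorphism
`res_{S'} (T' ⊗_T X) ≅ S' ⊗_S res_S X` of `S'`-modules.
-/

set_option autoImplicit false
universe u

open CategoryTheory CategoryTheory.Limits TensorProduct

namespace Groth.Agent.Lib.Helper36.RelBC

attribute [local instance] Algebra.TensorProduct.rightAlgebra

variable (S T S' : Type u) [CommRing S] [CommRing T] [CommRing S'] [Algebra S T] [Algebra S S']

/-- the map `T → S' ⊗[S] T` -/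
noncomputable abbrev ι : T →+* S' ⊗[S] T :=
  (Algebra.TensorProduct.includeRight : T →ₐ[S] S' ⊗[S] T).toRingHom

lemma comp_eq₁ : algebraMap S (S' ⊗[S] T) = (ι S T S').comp (algebraMap S T) := by
  ext s
  show algebraMap S (S' ⊗[S] T) s = (1 : S') ⊗ₜ[S] (algebraMap S T s)
  rw [Algebra.TensorProduct.algebraMap_apply, Algebra.TensorProduct.tmul_one_eq_one_tmul]

lemma comp_eq₂ : algebraMap S (S' ⊗[S] T) = (algebraMap S' (S' ⊗[S] T)).comp (algebraMap S S') := by
  ext s
  rfl

/-- the functor `X ↦ res_{S'} (T' ⊗_T X)` -/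
noncomputable abbrev F₁ : ModuleCat.{u} T ⥤ ModuleCat.{u} S' :=
  ModuleCat.extendScalars.{u, u, u} (ι S T S') ⋙
    ModuleCat.restrictScalars (algebraMap S' (S' ⊗[S] T))

/-- the functor `X ↦ S' ⊗_S res_S X` -/
noncomputable abbrev F₂ : ModuleCat.{u} T ⥤ ModuleCat.{u} S' :=
  ModuleCat.restrictScalars (algebraMap S T) ⋙
    ModuleCat.extendScalars.{u, u, u} (algebraMap S S')

/-- the unit `res_S X → res_S res_{S'} (T' ⊗_T X)` -/
noncomputable def uNat : ModuleCat.restrictScalars (algebraMap S T) ⟶
    F₁ S T S' ⋙ ModuleCat.restrictScalars (algebraMap S S') :=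
  Functor.whiskerRight (ModuleCat.extendRestrictScalarsAdj.{u, u, u} (ι S T S')).unit
      (ModuleCat.restrictScalars (algebraMap S T)) ≫
    Functor.whiskerLeft (ModuleCat.extendScalars.{u, u, u} (ι S T S'))
      ((ModuleCat.restrictScalarsComp' (algebraMap S T) (ι S T S') _ (comp_eq₁ S T S')).inv ≫
        (ModuleCat.restrictScalarsComp' (algebraMap S S') (algebraMap S' (S' ⊗[S] T)) _
          (comp_eq₂ S T S')).hom)

/-- the comparison map `S' ⊗_S res_S X → res_{S'} (T' ⊗_T X)` -/
noncomputable def ΨNat : F₂ S T S' ⟶ F₁ S T S' where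
  app X := ((ModuleCat.extendRestrictScalarsAdj.{u, u, u} (algebraMap S S')).homEquiv _ _).symm
    ((uNat S T S').app X)
  naturality X Y f := by
    show (ModuleCat.extendScalars.{u, u, u} (algebraMap S S')).map
      ((ModuleCat.restrictScalars (algebraMap S T)).map f) ≫ _ = _ ≫
      (ModuleCat.restrictScalars (algebraMap S' (S' ⊗[S] T))).map
        ((ModuleCat.extendScalars.{u, u, u} (ι S T S')).map f)
    have h1 := Adjunction.homEquiv_naturality_left_symm
      (ModuleCat.extendRestrictScalarsAdj.{u, u, u} (algebraMap S S'))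
      ((ModuleCat.restrictScalars (algebraMap S T)).map f) ((uNat S T S').app Y)
    have h2 := Adjunction.homEquiv_naturality_right_symm
      (ModuleCat.extendRestrictScalarsAdj.{u, u, u} (algebraMap S S'))
      ((uNat S T S').app X) ((F₁ S T S').map f)
    refine h1.symm.trans (Eq.trans ?_ h2)
    congr 1

lemma ΨNat_app_tmul (X : ModuleCat.{u} T) (s' : S') (x : X) :
    ((ΨNat S T S').app X).hom (s' ⊗ₜ[S] x) =
      ((algebraMap S' (S' ⊗[S] T) s' * (1 : S' ⊗[S] T)) ⊗ₜ[T] x : (S' ⊗[S] T) ⊗[T] X) := rfl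

/-- `S'` with its `S`-module structure through `algebraMap`, as in `ModuleCat.extendScalars` -/
noncomputable abbrev S'c : ModuleCat.{u} S :=
  (ModuleCat.restrictScalars (algebraMap S S')).obj (ModuleCat.of S' S')

/-- the identity `S'c ≃ S'` -/
noncomputable def jEquiv : S'c S S' ≃ₗ[S] S' where
  toFun x := x
  invFun x := x
  map_add' _ _ := rfl
  map_smul' c x := by
    let y : S' := x
    show algebraMap S S' c * y = c • y
    rw [Algebra.smul_def]
  left_inv _ := rfl
  right_inv _ := rfl

lemma bijective_ΨNat_app (X : ModuleCat.{u} T) :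
    Function.Bijective ((ΨNat S T S').app X).hom := by
  let iX : Module S X := ((ModuleCat.restrictScalars (algebraMap S T)).obj X).isModule
  have hX : IsScalarTower S T X := ⟨fun a b x => by
    show (a • b) • x = algebraMap S T a • (b • x)
    rw [Algebra.smul_def, mul_smul]⟩
  let E := Algebra.IsPushout.cancelBaseChange S S' T (S' ⊗[S] T) X
  let J : (S'c S S') ⊗[S] X ≃ₗ[S] S' ⊗[S] X :=
    TensorProduct.congr (jEquiv S S') (LinearEquiv.refl S X)
  have h : ∀ z : (S'c S S') ⊗[S] X, ((ΨNat S T S').app X).hom z = E.symm (J z) := by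
    intro z
    induction z using TensorProduct.induction_on with
    | zero =>
      refine (map_zero ((ΨNat S T S').app X).hom).trans ?_
      rw [map_zero, map_zero]
      rfl
    | tmul s' x =>
      refine (ΨNat_app_tmul S T S' X s' x).trans ?_
      rw [mul_one]
      exact (Algebra.IsPushout.cancelBaseChange_symm_tmul S S' T (S' ⊗[S] T) X s' x).symm
    | add a b ha hb =>
      refine (map_add ((ΨNat S T S').app X).hom a b).trans ((congrArg₂ (· + ·) ha hb).trans ?_)
      rw [map_add, map_add]
      rfl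
  have h' : ⇑((ΨNat S T S').app X).hom = fun z => E.symm (J z) := funext h
  rw [h']
  exact E.symm.bijective.comp J.bijective

instance isIso_ΨNat_app (X : ModuleCat.{u} T) : IsIso ((ΨNat S T S').app X) :=
  (ConcreteCategory.isIso_iff_bijective _).mpr (bijective_ΨNat_app S T S' X)

instance : IsIso (ΨNat S T S') := NatIso.isIso_of_isIso_app _

/-- the natural isomorphism `S' ⊗_S res_S X ≅ res_{S'} (T' ⊗_T X)` -/
noncomputable def ΨIso : F₂ S T S' ≅ F₁ S T S' := asIso (ΨNat S T S')

end Groth.Agent.Lib.Helper36.RelBC
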