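import Mathlib
import Groth.Prelude.Def_DDual2
import Groth.Agent.Lib.Helper36.RelBaseChange
import Groth.Agent.Lib.Helper36.FibreTorAmp

/-!
Helper (helper36): base change and restriction of scalars commute in the derived category, for a
flat map `S → T` and pseudo-coherent (or just flat bounded above) objects.
-/

set_option autoImplicit false
universe u

open CategoryTheory CategoryTheory.Limits TensorProduct DRing

attribute [local instance] HasDerivedCategory.standard

namespace Groth.Agent.Lib.Helper36.RelBC

open Groth.Agent.Lib.Helper36.LT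

variable (S T S' : Type u) [CommRing S] [CommRing T] [CommRing S'] [Algebra S T] [Algebra S S']

/-- the isomorphism of complexes `S' ⊗_S res_S P ≅ res_{S'} (T' ⊗_T P)` -/
noncomputable def ΨCxIso (P : DRing.Cx T) :
    ((ModuleCat.extendScalars.{u, u, u} (algebraMap S S')).mapHomologicalComplex
      (ComplexShape.up ℤ)).obj
        (((ModuleCat.restrictScalars (algebraMap S T)).mapHomologicalComplex
          (ComplexShape.up ℤ)).obj P) ≅
    ((ModuleCat.restrictScalars (algebraMap S' (S' ⊗[S] T))).mapHomologicalComplex
      (ComplexShape.up ℤ)).obj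
        (((ModuleCat.extendScalars.{u, u, u} (ι S T S')).mapHomologicalComplex
          (ComplexShape.up ℤ)).obj P) :=
  HomologicalComplex.Hom.isoOfComponents (fun n => (ΨIso S T S').app (P.X n)) (by
    intro i j _
    exact ((ΨIso S T S').hom.naturality (P.d i j)).symm)

variable [Module.Flat S T]

theorem nonempty_restrictD_LBaseChange_iso [DRing.HasLBaseChange (ι S T S')]
    [DRing.HasLBaseChange (algebraMap S S')]
    (P : DRing.Cx T) (c : ℤ) (hc : VanishesAbove P c) (hfl : ∀ i, Module.Flat T (P.X i))
    {K : Dual.D T} (e : toD P ≅ K) :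
    Nonempty ((DRing.restrictD (algebraMap S' (S' ⊗[S] T))).obj
        ((DRing.LBaseChange (ι S T S')).obj K) ≅
      (DRing.LBaseChange (algebraMap S S')).obj ((DRing.restrictD (algebraMap S T)).obj K)) := by
  obtain ⟨e₁⟩ := nonempty_lBaseChangeObjIso_of_flat (ι S T S') P c hc hfl
  let resP : DRing.Cx S := ((ModuleCat.restrictScalars (algebraMap S T)).mapHomologicalComplex
    (ComplexShape.up ℤ)).obj P
  have hresc : VanishesAbove resP c := fun j hj =>
    (ModuleCat.restrictScalars (algebraMap S T)).map_isZero (hc j hj)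
  have hresfl : ∀ j, Module.Flat S (resP.X j) := fun j => by
    have := hfl j
    exact FibreTorAmp.flat_restrictScalars (P.X j)
  obtain ⟨e₂⟩ := nonempty_lBaseChangeObjIso_of_flat (algebraMap S S') resP c hresc hresfl
  let e_res : toD resP ≅ (DRing.restrictD (algebraMap S T)).obj K :=
    ((ModuleCat.restrictScalars (algebraMap S T)).mapDerivedCategoryFactors.app P).symm ≪≫
      (DRing.restrictD (algebraMap S T)).mapIso e
  exact ⟨(DRing.restrictD (algebraMap S' (S' ⊗[S] T))).mapIso
      ((DRing.LBaseChange (ι S T S')).mapIso e.symm ≪≫ e₁) ≪≫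
    (ModuleCat.restrictScalars (algebraMap S' (S' ⊗[S] T))).mapDerivedCategoryFactors.app _ ≪≫
    DerivedCategory.Q.mapIso (ΨCxIso S T S' P).symm ≪≫ e₂.symm ≪≫
    (DRing.LBaseChange (algebraMap S S')).mapIso e_res⟩

end Groth.Agent.Lib.Helper36.RelBC
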