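import Mathlib
import Groth.Prelude.Def_DDual2
import Groth.Agent.Lib.Helper36.CancelBaseChange
import Groth.Agent.Lib.Helper36.NilpotentTor

/-!
Helper (helper36): `X ⊗[A] (A ⊗[S] N) ≃ X ⊗[S] N`, naturally in the `A`-module `X`, and the induced
transfer of exactness between `P ⊗_A (A ⊗_S N)` and `(P restricted to S) ⊗_S N` for a complex `P`
of `A`-modules.
-/

set_option autoImplicit false
universe u

open TensorProduct

namespace Groth.Agent.Lib.Helper36.RTC

section unbundled

variable (S A : Type u) [CommRing S] [CommRing A] [Algebra S A]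
variable (N : Type u) [AddCommGroup N] [Module S N]
variable (X Y Z : Type u) [AddCommGroup X] [Module A X] [Module S X] [IsScalarTower S A X]
  [AddCommGroup Y] [Module A Y] [Module S Y] [IsScalarTower S A Y]
  [AddCommGroup Z] [Module A Z] [Module S Z] [IsScalarTower S A Z]

/-- `X ⊗[A] (A ⊗[S] N) ≃ X ⊗[S] N`. -/
noncomputable def θ : X ⊗[A] (A ⊗[S] N) ≃+ X ⊗[S] N :=
  (AlgebraTensorModule.cancelBaseChange S A A X N).toAddEquiv

theorem θ_tmul (x : X) (a : A) (n : N) : θ S A N X (x ⊗ₜ[A] (a ⊗ₜ[S] n)) = (a • x) ⊗ₜ[S] n := rfl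

variable {X Y Z}

theorem θ_naturality (d : X →ₗ[A] Y) (t : X ⊗[A] (A ⊗[S] N)) :
    θ S A N Y ((d.rTensor (A ⊗[S] N)) t) = ((d.restrictScalars S).rTensor N) (θ S A N X t) := by
  induction t using TensorProduct.induction_on with
  | zero => simp
  | tmul x y =>
    induction y using TensorProduct.induction_on with
    | zero => simp
    | tmul a n =>
      rw [LinearMap.rTensor_tmul, θ_tmul, θ_tmul, LinearMap.rTensor_tmul]
      simp
    | add y₁ y₂ h₁ h₂ =>
      rw [tmul_add, map_add, map_add, h₁, h₂, map_add, map_add]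
  | add t₁ t₂ h₁ h₂ => rw [map_add, map_add, h₁, h₂, map_add, map_add]

theorem exact_rTensor_iff (d₁ : X →ₗ[A] Y) (d₂ : Y →ₗ[A] Z) :
    Function.Exact (d₁.rTensor (A ⊗[S] N)) (d₂.rTensor (A ⊗[S] N)) ↔
      Function.Exact ((d₁.restrictScalars S).rTensor N) ((d₂.restrictScalars S).rTensor N) := by
  constructor
  · intro H
    exact CBC.exact_of_ladder _ _ _ _ (θ S A N X).toEquiv (θ S A N Y).toEquiv (θ S A N Z).toEquiv
      (map_zero (θ S A N Z)) (θ_naturality S A N d₁) (θ_naturality S A N d₂) H
  · intro H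
    refine CBC.exact_of_ladder _ _ _ _ (θ S A N X).symm.toEquiv (θ S A N Y).symm.toEquiv
      (θ S A N Z).symm.toEquiv (map_zero (θ S A N Z).symm) ?_ ?_ H
    · intro x
      apply (θ S A N Y).injective
      simp [θ_naturality]
    · intro x
      apply (θ S A N Z).injective
      simp [θ_naturality]

end unbundled

section bundled

open CategoryTheory MonoidalCategory

variable {R A : Type u} [CommRing R] [CommRing A] (φ : R →+* A) (N : ModuleCat.{u} R)

/-- Transfer of exactness between `P ⊗_A (A ⊗_R N)` and `P ⊗_R N`. -/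
theorem exact_whiskerRight_extendScalars_iff {X Y Z : ModuleCat.{u} A} (d₁ : X ⟶ Y) (d₂ : Y ⟶ Z) :
    Function.Exact (d₁ ▷ (ModuleCat.extendScalars.{u, u, u} φ).obj N).hom
        (d₂ ▷ (ModuleCat.extendScalars.{u, u, u} φ).obj N).hom ↔
      Function.Exact (((ModuleCat.restrictScalars φ).map d₁) ▷ N).hom
        (((ModuleCat.restrictScalars φ).map d₂) ▷ N).hom := by
  let _ : Algebra R A := φ.toAlgebra
  let iX : Module R X := ((ModuleCat.restrictScalars φ).obj X).isModule
  let iY : Module R Y := ((ModuleCat.restrictScalars φ).obj Y).isModule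
  let iZ : Module R Z := ((ModuleCat.restrictScalars φ).obj Z).isModule
  have hX : IsScalarTower R A X := ⟨fun r a x => by
    show (r • a) • x = φ r • (a • x)
    rw [Algebra.smul_def, mul_smul]; rfl⟩
  have hY : IsScalarTower R A Y := ⟨fun r a x => by
    show (r • a) • x = φ r • (a • x)
    rw [Algebra.smul_def, mul_smul]; rfl⟩
  have hZ : IsScalarTower R A Z := ⟨fun r a x => by
    show (r • a) • x = φ r • (a • x)
    rw [Algebra.smul_def, mul_smul]; rfl⟩
  rw [ModuleCat.hom_whiskerRight, ModuleCat.hom_whiskerRight, ModuleCat.hom_whiskerRight,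
    ModuleCat.hom_whiskerRight]
  exact exact_rTensor_iff R A N d₁.hom d₂.hom

open Groth.Agent.Lib.Helper36.NilTor Groth.Agent.Lib.Helper36.LT in
/-- Exactness of `(P restricted to R) ⊗_R N` is exactness of `P ⊗_A (A ⊗_R N)`. -/
theorem exactAt_tensorCx_restrict_iff (P : DRing.Cx A) (i : ℤ) :
    (tensorCx N (((ModuleCat.restrictScalars φ).mapHomologicalComplex
        (ComplexShape.up ℤ)).obj P)).ExactAt i ↔
      (tensorCx ((ModuleCat.extendScalars.{u, u, u} φ).obj N) P).ExactAt i := by
  rw [exactAt_tensorCx_iff, exactAt_tensorCx_iff]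
  exact (exact_whiskerRight_extendScalars_iff φ N (P.d (i - 1) i) (P.d i (i + 1))).symm

end bundled

end Groth.Agent.Lib.Helper36.RTC
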