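import Mathlib
import Groth.Prelude.Def_DTen
import Groth.Agent.Lib.Helper36.TensorSingle
import Groth.Agent.Lib.Helper36.LTensorAPI

/-!
Helper (helper36): `(F ⊗ E) ⊗ N ≅ (F ⊗ N) ⊗ E` for complexes `F`, `E` and a module `N` (termwise
tensor products with `N`).
-/

set_option autoImplicit false
universe u

open CategoryTheory CategoryTheory.Limits MonoidalCategory HomologicalComplex

namespace Groth.Agent.Lib.Helper36.TAS

open Groth.Agent.Lib.Helper36.LT Groth.Agent.Lib.Helper36.TS

variable {A : Type u} [CommRing A]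

/-- `(F ⊗ E) ⊗ N ≅ (F ⊗ N) ⊗ E`, where `- ⊗ N` is the termwise tensor product with a module. -/
noncomputable def tensorCxTensorIso (F E : DRing.Cx A) (N : ModuleCat.{u} A) :
    tensorCx N (F ⊗ E) ≅ tensorCx N F ⊗ E :=
  (tensorSingleIso (F ⊗ E) N).symm ≪≫ α_ F E (sM N) ≪≫
    whiskerLeftIso F (DTen.braidCx E (sM N)) ≪≫ (α_ F (sM N) E).symm ≪≫
    whiskerRightIso (tensorSingleIso F N) E

end Groth.Agent.Lib.Helper36.TAS
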