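import Mathlib
import Groth.Prelude.Def_DRing4
import Groth.Agent.Lib.Helper36.TensorTerms
import Groth.Agent.Lib.Helper94.KFlatSymmInst
import Groth.Agent.Lib.Helper12.DRingFlatTrunc

/-!
Helper (helper36): if `Y` is exact outside `[c, d]` and `E` is a K-flat complex vanishing outside
`[a, b]`, then `Y ⊗ E` is exact outside `[a + c, b + d]`.
-/

set_option autoImplicit false
universe u

open CategoryTheory CategoryTheory.Limits MonoidalCategory HomologicalComplex

namespace Groth.Agent.Lib.Helper36.TTE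

open Groth.Agent.Lib.Helper94.KFlatRing Groth.Agent.Lib.Helper94.KFlatSymmInst

variable {A : Type u} [CommRing A]

lemma exactAt_of_isZero_X (K : DRing.Cx A) (i : ℤ) (h : IsZero (K.X i)) : K.ExactAt i :=
  ShortComplex.exact_of_isZero_X₂ _ h

/-- exactness of `Y ⊗ E` below `a + c` -/
theorem exactAt_tensor_of_lt (Y E : DRing.Cx A) (hE : KF A E) (c a : ℤ)
    (hY : ∀ j : ℤ, j < c → Y.ExactAt j) (hEa : ∀ q : ℤ, q < a → IsZero (E.X q))
    (i : ℤ) (hi : i < a + c) : (Y ⊗ E).ExactAt i := by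
  have hGE : Y.IsGE c := by
    rw [CochainComplex.isGE_iff]
    intro j hj
    exact hY j hj
  have hq : QuasiIso (Y.πTruncGE c) := (Y.quasiIso_πTruncGE_iff c).mpr hGE
  have hq' : QuasiIso (Y.πTruncGE c ▷ E) := quasiIso_whiskerRight_of_kf A E hE (Y.πTruncGE c)
  rw [exactAt_iff_of_quasiIsoAt (Y.πTruncGE c ▷ E) i]
  apply exactAt_of_isZero_X
  apply TT.isZero_tensor_X
  intro p q hpq
  by_cases hp : p < c
  · exact Or.inl (Groth.Agent.Lib.Helper12.isZero_truncGE_X_of_lt Y c p hp)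
  · exact Or.inr (hEa q (by omega))

/-- exactness of `Y ⊗ E` above `b + d` -/
theorem exactAt_tensor_of_gt (Y E : DRing.Cx A) (hE : KF A E) (d b : ℤ)
    (hY : ∀ j : ℤ, d < j → Y.ExactAt j) (hEb : ∀ q : ℤ, b < q → IsZero (E.X q))
    (i : ℤ) (hi : b + d < i) : (Y ⊗ E).ExactAt i := by
  have hLE : Y.IsLE d := by
    rw [CochainComplex.isLE_iff]
    intro j hj
    exact hY j hj
  have hq : QuasiIso (Y.ιTruncLE d) := (Y.quasiIso_ιTruncLE_iff d).mpr hLE
  have hq' : QuasiIso (Y.ιTruncLE d ▷ E) := quasiIso_whiskerRight_of_kf A E hE (Y.ιTruncLE d)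
  rw [← exactAt_iff_of_quasiIsoAt (Y.ιTruncLE d ▷ E) i]
  apply exactAt_of_isZero_X
  apply TT.isZero_tensor_X
  intro p q hpq
  by_cases hp : d < p
  · exact Or.inl (CochainComplex.isZero_of_isStrictlyLE (Y.truncLE d) d p hp)
  · exact Or.inr (hEb q (by omega))

end Groth.Agent.Lib.Helper36.TTE
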