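import Mathlib
import Groth.Agent.Lib.Helper94.KFlatBdd
import Groth.Agent.Lib.Helper12.DRingFlatTrunc
import Groth.Agent.Lib.Helper12.FlatExact

/-!
Helper (helper36): the canonical truncation `τ_{≥ a}` of a K-flat complex with flat terms whose
cokernel `coker (d^{a-1})` is flat is again K-flat with flat terms.
-/

set_option autoImplicit false
universe u

open CategoryTheory CategoryTheory.Limits CochainComplex

namespace Groth.Agent.Lib.Helper36.TGK

open Groth.Agent.Lib.Helper94.KFlatRing Groth.Agent.Lib.Helper94.KFlatBdd Groth.Agent.Lib.Helper12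

variable {A : Type u} [CommRing A]

set_option backward.isDefEq.respectTransparency false in
lemma isIso_πTruncGE_f (K : DRing.Cx A) (n i : ℤ) (hi : n < i) : IsIso ((K.πTruncGE n).f i) := by
  have hk : (ComplexShape.embeddingUpIntGE n).f (i - n).natAbs = i := by
    show n + ((i - n).natAbs : ℤ) = i
    rw [Int.natAbs_of_nonneg (by lia)]
    lia
  show IsIso (((ComplexShape.embeddingUpIntGE n).liftExtend
    (HomologicalComplex.restrictionToTruncGE' K (ComplexShape.embeddingUpIntGE n))
    (HomologicalComplex.restrictionToTruncGE'_hasLift K (ComplexShape.embeddingUpIntGE n))).f i)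
  rw [(ComplexShape.embeddingUpIntGE n).isIso_liftExtend_f_iff _ _ hk]
  apply HomologicalComplex.isIso_restrictionToTruncGE'
  intro h
  rw [ComplexShape.boundaryGE_embeddingUpIntGE_iff, Int.natAbs_eq_zero] at h
  lia

lemma termwiseFlat_truncGE (E : DRing.Cx A) (a : ℤ) (hfl : DRing.TermwiseFlat E)
    (hop : Module.Flat A (E.opcycles a)) : DRing.TermwiseFlat (E.truncGE a) := by
  intro i
  rcases lt_trichotomy i a with h1 | h1 | h1
  · have := ModuleCat.subsingleton_of_isZero (isZero_truncGE_X_of_lt E a i h1)
    infer_instance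
  · subst h1
    exact Module.Flat.of_linearEquiv (E.truncGEXIsoOpcycles i).toLinearEquiv
  · exact flat_truncGE_X E a i h1 (hfl i)

theorem kf_truncGE (E : DRing.Cx A) (a : ℤ) (hE : KF A E) (hfl : DRing.TermwiseFlat E)
    (hop : Module.Flat A (E.opcycles a)) : KF A (E.truncGE a) := by
  have hfl' := termwiseFlat_truncGE E a hfl hop
  let S : ShortComplex (DRing.Cx A) :=
    ShortComplex.mk (kernel.ι (E.πTruncGE a)) (E.πTruncGE a) (kernel.condition _)
  have hS : S.ShortExact :=
    { exact := ShortComplex.exact_of_f_is_kernel _ (kernelIsKernel (E.πTruncGE a))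
      mono_f := inferInstanceAs (Mono (kernel.ι (E.πTruncGE a)))
      epi_g := inferInstanceAs
        (Epi (HomologicalComplex.πTruncGE E (ComplexShape.embeddingUpIntGE a))) }
  have hSi : ∀ i : ℤ, (S.map (HomologicalComplex.eval _ (ComplexShape.up ℤ) i)).ShortExact :=
    fun i => hS.map_of_exact (HomologicalComplex.eval _ (ComplexShape.up ℤ) i)
  -- the kernel is bounded above
  have hb : DRing.VanishesAbove S.X₁ a := by
    intro i hi
    have := isIso_πTruncGE_f E a i hi
    have h0 : (S.f.f i) ≫ (E.πTruncGE a).f i = 0 := by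
      rw [← HomologicalComplex.comp_f]
      have : S.f ≫ E.πTruncGE a = 0 := S.zero
      rw [this, HomologicalComplex.zero_f]
    have h1 : S.f.f i = 0 := by
      rw [← cancel_mono ((E.πTruncGE a).f i), h0, zero_comp]
    have : Mono (S.f.f i) := (hSi i).mono_f
    exact IsZero.of_mono_eq_zero _ h1
  -- and termwise flat
  have hfl₁ : DRing.TermwiseFlat S.X₁ := by
    intro i
    have h := hSi i
    have : Module.Flat A (E.X i) := hfl i
    have : Module.Flat A ((E.truncGE a).X i) := hfl' i
    exact flat_of_exact_left (S.f.f i).hom (S.g.f i).hom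
      ((ModuleCat.mono_iff_injective _).mp h.mono_f)
      ((ModuleCat.epi_iff_surjective _).mp h.epi_g)
      ((ShortComplex.ShortExact.moduleCat_exact_iff_function_exact _).mp h.exact)
  exact (kf_two_of_three A S hS hfl').1 (kf_of_bounded_above A S.X₁ a hb hfl₁) hE

end Groth.Agent.Lib.Helper36.TGK
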